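import Cfsg.Agent.Lib.Small.MathieuEleven.Action
import Cfsg.Agent.Lib.Spor.SharpMathieu
import Cfsg.Agent.Lib.Spor.GolayStabCount
import Cfsg.Agent.Lib.Local.FS.SimpleM11
import Cfsg.Agent.S0388
import Cfsg.Prelude.Def_Spor_Mathieu

/-!
Simple groups of order 7920 are isomorphic.
-/

set_option autoImplicit false
set_option linter.style.haveILetI false

namespace Cfsg.Agent.MathieuEleven

open Cfsg MulAction
open scoped Pointwise

theorem exists_system {G : Type*} [Group G] [Finite G] (hG : Cfsg.IsM11 G) :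
    ∃ B : Finset (Finset (Fin 11)), Cfsg.IsSteinerSystem 4 5 (B : Set (Finset (Fin 11))) ∧
      Nonempty (G ≃* Cfsg.setSystemAut (B : Set (Finset (Fin 11)))) := by
  obtain ⟨H, ⟨e⟩, ht, hsharp⟩ := exists_sharp hG
  have hn : (Fintype.card (Fin 11) = 11 ∧ 4 = 4) ∨ (Fintype.card (Fin 11) = 12 ∧ 4 = 5) := by simp
  obtain ⟨B, hB, hle⟩ := Cfsg.Agent.Spor.SmallSys.sharp_steiner ht hsharp hn
  have heq : H = Cfsg.setSystemAut (B : Set (Finset (Fin 11))) := Subgroup.eq_of_le_of_card_ge hle (by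
    rw [Cfsg.Agent.Spor.SmallSys.aut_card11 (Fintype.card_fin 11) hB, ← Nat.card_congr e.toEquiv, hG.2]; try decide)
  exact ⟨B, hB, ⟨e.trans (MulEquiv.subgroupCongr heq)⟩⟩

theorem iso_of_isM11 {G H : Type*} [Group G] [Finite G] [Group H] [Finite H] (hG : Cfsg.IsM11 G)
    (hH : Cfsg.IsM11 H) : Nonempty (G ≃* H) := by
  obtain ⟨B, hB, ⟨e⟩⟩ := exists_system hG
  obtain ⟨B', hB', ⟨e'⟩⟩ := exists_system hH
  have h11 : Fintype.card (Fin 11) = 11 := Fintype.card_fin 11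
  let a : Fin 4 ↪ Fin 11 := Fin.castLEEmb (by norm_num)
  obtain ⟨f, hf, -⟩ := Cfsg.Agent.Spor.SmallSys.iso_frames11 h11 hB h11 hB' a a
  let φ : Cfsg.setSystemAut (B' : Set (Finset (Fin 11))) →* Cfsg.setSystemAut (B : Set (Finset (Fin 11))) :=
    (f.symm.permCongrHom.toMonoidHom.comp (Subgroup.subtype _)).codRestrict _
      fun π => Cfsg.Agent.Spor.SmallSys.aut_congr f hf π.2
  have hφ : Function.Injective φ := fun x y h =>
    Subtype.ext (f.symm.permCongrHom.injective (congrArg Subtype.val h))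
  have hc : Nat.card (Cfsg.setSystemAut (B : Set (Finset (Fin 11)))) ≤
      Nat.card (Cfsg.setSystemAut (B' : Set (Finset (Fin 11)))) := by
    rw [Cfsg.Agent.Spor.SmallSys.aut_card11 h11 hB, Cfsg.Agent.Spor.SmallSys.aut_card11 h11 hB']
  have hb : Function.Bijective φ := hφ.bijective_of_nat_card_le hc
  exact ⟨e.trans ((MulEquiv.ofBijective φ hb).symm.trans e'.symm)⟩

theorem isM11_dodecad (d : Finset Cfsg.GolayPt) (hd : d ∈ Cfsg.dodecads) (p : Cfsg.GolayPt) (hp : p ∈ d) :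
    Cfsg.IsM11 ↥(MulAction.stabilizer Cfsg.M24 d ⊓ MulAction.stabilizer Cfsg.M24 p) :=
  ⟨Cfsg.Agent.S0388.result d hd p hp, (Spor.card_stab_dodecad_point hd hp).trans (by decide)⟩

theorem isM11_concrete : Cfsg.IsM11 ↥Cfsg.Spor.M11 := by
  have hp : (some 0 : GolayPt) ∈ Spor.squareDodecad := by decide +kernel
  let e : ↥Cfsg.Spor.M11 ≃* ↥(MulAction.stabilizer Cfsg.M24 Spor.squareDodecad ⊓
      MulAction.stabilizer Cfsg.M24 (some 0 : GolayPt)) :=
    { toFun := fun g => ⟨⟨g.1, g.2.1.1⟩, g.2.1.2, g.2.2⟩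
      invFun := fun g => ⟨g.1.1, ⟨g.1.2, g.2.1⟩, g.2.2⟩
      left_inv := fun _ => rfl
      right_inv := fun _ => rfl
      map_mul' := fun _ _ => rfl }
  haveI := (isM11_dodecad _ Cfsg.Agent.Local.FS.squareDodecad_mem _ hp).1
  exact ⟨MulEquiv.isSimpleGroup e, (Cfsg.Agent.Local.FS.card_M11).trans (by decide)⟩

end Cfsg.Agent.MathieuEleven
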