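import Cfsg.Agent.Lib.Small.MathieuEleven.Cases

/-!
A sharply 4-transitive action on eleven cliques.
-/

set_option autoImplicit false
set_option linter.style.haveILetI false
set_option linter.unusedSectionVars false

namespace Cfsg.Agent.MathieuEleven

open MulAction

variable {G : Type*} [Group G] [Finite G]

/-- A neighbour orbit with its centre. -/
def Block (T U : Sylow 3 G) : Set (Sylow 3 G) := insert T (Orb T U)

/-- The maximal cliques. -/
def Clique (G : Type*) [Group G] : Type _ :=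
  {K : Set (Sylow 3 G) // ∃ z T U V, Tri z T U V ∧ K = Block T U}

theorem block_smul (T U : Sylow 3 G) (g : G) : (g • ·) '' Block T U = Block (g • T) (g • U) := by
  unfold Block
  rw [Set.image_insert_eq]
  congr 1
  ext W
  constructor
  · rintro ⟨_, ⟨t, ht, rfl⟩, rfl⟩
    exact ⟨g * t * g⁻¹, conj_mem_smul T ht, (smul_smul_conj g t U).symm⟩
  · rintro ⟨s, hs, rfl⟩
    refine ⟨(g⁻¹ * s * g) • U, ⟨_, (mem_smul_sylow T).1 hs, rfl⟩, ?_⟩
    show g • (g⁻¹ * s * g) • U = s • g • U
    rw [← mul_smul, ← mul_smul]; group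

instance : Finite (Clique G) := Subtype.finite

instance : MulAction G (Clique G) where
  smul g K := ⟨(g • ·) '' K.1, by
    obtain ⟨z, T, U, V, h, e⟩ := K.2
    exact ⟨_, _, _, _, h.conj g, e ▸ block_smul T U g⟩⟩
  one_smul K := Subtype.ext (by show ((1 : G) • ·) '' K.1 = K.1; simp)
  mul_smul g h K := Subtype.ext (show ((g * h) • ·) '' K.1 = (g • ·) '' ((h • ·) '' K.1) by
    rw [Set.image_image]; simp [mul_smul])

theorem mem_smul_clique {g : G} {K : Clique G} {W : Sylow 3 G} (h : W ∈ K.1) : g • W ∈ (g • K).1 :=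
  ⟨W, h, rfl⟩

theorem clique_pretransitive (hG : Cfsg.IsM11 G) : IsPretransitive G (Clique G) := by
  refine ⟨fun K L => ?_⟩
  obtain ⟨z, T, U, V, h, e⟩ := K.2
  obtain ⟨z', T', U', V', h', e'⟩ := L.2
  obtain ⟨g, -, hgT, hgU, -⟩ := h.config_trans hG h'
  exact ⟨g, Subtype.ext (show (g • ·) '' K.1 = L.1 by rw [e, e', block_smul, hgT, hgU])⟩

theorem block_card (hG : Cfsg.IsM11 G) {z : G} {T U V : Sylow 3 G} (h : Tri z T U V) : (Block T U).ncard = 10 := by
  rw [Block, Set.ncard_insert_of_notMem, orb_ncard hG h.tu]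
  rintro ⟨t, ht, hte⟩
  exact h.tu (MulAction.injective t (hte.trans (smul_self_fix T ht).symm))

theorem clique_card (hG : Cfsg.IsM11 G) (K : Clique G) : K.1.ncard = 10 := by
  obtain ⟨z, T, U, V, h, e⟩ := K.2
  rw [e, block_card hG h]

theorem clique_adj (hG : Cfsg.IsM11 G) (K : Clique G) {X Y : Sylow 3 G} (hX : X ∈ K.1) (hY : Y ∈ K.1)
    (hne : X ≠ Y) : Adj X Y := by
  obtain ⟨z, T, U, V, h, e⟩ := K.2
  rw [e] at hX hY
  rcases hX with rfl | ⟨s, hs, rfl⟩
  · rcases hY with rfl | hY
    · exact absurd rfl hne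
    · exact (h.adj_iff hG).2 (Or.inl hY)
  · rcases hY with rfl | ⟨t, ht, rfl⟩
    · exact ((h.adj_iff hG).2 (Or.inl ⟨s, hs, rfl⟩)).symm
    · have h1 : s⁻¹ * t ≠ 1 := fun e => hne (by rw [inv_mul_eq_one.1 e])
      have := ((two_cliques hG).1 z T U V h _ (mul_mem (inv_mem hs) ht) h1).conj s
      rwa [← mul_smul, mul_inv_cancel_left] at this

theorem cross_adj (hG : Cfsg.IsM11 G) {z : G} {T U V : Sylow 3 G} (h : Tri z T U V) {s t : G}
    (hs : s ∈ (T : Subgroup G)) (ht : t ∈ (T : Subgroup G)) (ha : Adj (s • U) (t • V)) : s = t := by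
  by_contra hne
  refine (two_cliques hG).2 z T U V h (s⁻¹ * t) (mul_mem (inv_mem hs) ht) (fun e => hne (inv_mul_eq_one.1 e)) ?_
  rwa [← adj_smul_iff s, ← mul_smul s (s⁻¹ * t), mul_inv_cancel_left]

theorem clique_cases (hG : Cfsg.IsM11 G) {z : G} {T U V : Sylow 3 G} (h : Tri z T U V) (K : Clique G)
    (hT : T ∈ K.1) : K.1 = Block T U ∨ K.1 = Block T V := by
  have hsub : K.1 ⊆ Block T U ∨ K.1 ⊆ Block T V := by
    by_contra hh
    push Not at hh
    obtain ⟨⟨X, hX, hX'⟩, ⟨Y, hY, hY'⟩⟩ := Set.not_subset.1 hh.1, Set.not_subset.1 hh.2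
    have hadj : ∀ W ∈ K.1, W ≠ T → Adj T W := fun W hW hne => clique_adj hG K hT hW (Ne.symm hne)
    have hX2 : X ∈ Orb T V := ((h.adj_iff hG).1 (hadj X hX fun e => hX' (Or.inl e))).resolve_left
      fun e => hX' (Or.inr e)
    have hY2 : Y ∈ Orb T U := ((h.adj_iff hG).1 (hadj Y hY fun e => hY' (Or.inl e))).resolve_right
      fun e => hY' (Or.inr e)
    have hall : K.1 ⊆ {T, X, Y} := by
      intro W hW
      by_cases hWT : W = T
      · exact Or.inl hWT
      rcases (h.adj_iff hG).1 (hadj W hW hWT) with hWU | hWV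
      · obtain ⟨t, ht, rfl⟩ := hWU
        obtain ⟨s, hs, rfl⟩ := hX2
        obtain ⟨u, hu, rfl⟩ := hY2
        have hd := Set.disjoint_left.1 (h.disjoint hG)
        have e1 := cross_adj hG h ht hs (clique_adj hG K hW hX fun e =>
          hd ⟨t, ht, rfl⟩ (e ▸ ⟨s, hs, rfl⟩))
        have e2 := cross_adj hG h hu hs (clique_adj hG K hY hX fun e =>
          hd ⟨u, hu, rfl⟩ (e ▸ ⟨s, hs, rfl⟩))
        exact Or.inr (Or.inr (by rw [e1, e2]; rfl))
      · obtain ⟨t, ht, rfl⟩ := hWV
        obtain ⟨s, hs, rfl⟩ := hX2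
        obtain ⟨u, hu, rfl⟩ := hY2
        have hd := Set.disjoint_left.1 (h.disjoint hG)
        have e1 := cross_adj hG h hu ht (clique_adj hG K hY hW fun e =>
          hd ⟨u, hu, rfl⟩ (e ▸ ⟨t, ht, rfl⟩))
        have e2 := cross_adj hG h hu hs (clique_adj hG K hY hX fun e =>
          hd ⟨u, hu, rfl⟩ (e ▸ ⟨s, hs, rfl⟩))
        exact Or.inr (Or.inl (by rw [← e1, ← e2]))
    have h1 := Set.ncard_le_ncard hall (Set.toFinite _)
    rw [clique_card hG K] at h1
    have h2 := Set.ncard_insert_le T ({X, Y} : Set (Sylow 3 G))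
    have h3 := Set.ncard_insert_le X ({Y} : Set (Sylow 3 G))
    rw [Set.ncard_singleton] at h3
    omega
  rcases hsub with e | e
  · exact Or.inl (Set.eq_of_subset_of_ncard_le e (by rw [clique_card hG K, block_card hG h]) (Set.toFinite _))
  · exact Or.inr (Set.eq_of_subset_of_ncard_le e (by rw [clique_card hG K, block_card hG h.swap]) (Set.toFinite _))

theorem point_cliques (hG : Cfsg.IsM11 G) (T : Sylow 3 G) :
    ∃ K L : Clique G, T ∈ K.1 ∧ T ∈ L.1 ∧ (∀ W, W ∈ K.1 → W ∈ L.1 → W = T) ∧ K ≠ L ∧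
      ∀ M : Clique G, T ∈ M.1 → M = K ∨ M = L := by
  obtain ⟨z, U, V, h⟩ := exists_config hG T
  refine ⟨⟨_, z, T, U, V, h, rfl⟩, ⟨_, z, T, V, U, h.swap, rfl⟩, Or.inl rfl, Or.inl rfl, ?_, ?_, fun M hM => ?_⟩
  · rintro W (rfl | hW) hW'
    · rfl
    · rcases hW' with rfl | hW'
      · rfl
      · exact absurd hW' (Set.disjoint_left.1 (h.disjoint hG) hW)
  · intro e
    have e' : Block T U = Block T V := congrArg Subtype.val e
    have hU : U ∈ Block T V := e' ▸ Or.inr ⟨1, one_mem _, one_smul G U⟩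
    rcases hU with hU | hU
    · exact h.tu hU
    · exact Set.disjoint_left.1 (h.disjoint hG) ⟨1, one_mem _, one_smul G U⟩ hU
  · rcases clique_cases hG h M hM with e | e
    · exact Or.inl (Subtype.ext e)
    · exact Or.inr (Subtype.ext e)

theorem card_clique (hG : Cfsg.IsM11 G) : Nat.card (Clique G) = 11 := by
  classical
  haveI : Fintype (Clique G) := Fintype.ofFinite _
  haveI : Fintype (Sylow 3 G) := Fintype.ofFinite _
  have h1 : ∀ K : Clique G, (Finset.univ.filter fun W => W ∈ K.1).card = 10 := fun K => by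
    rw [← clique_card hG K, ← Set.ncard_coe_finset]; congr 1; ext W; simp
  have h2 : ∀ W : Sylow 3 G, (Finset.univ.filter fun K : Clique G => W ∈ K.1).card = 2 := fun W => by
    obtain ⟨K, L, hK, hL, -, hne, hall⟩ := point_cliques hG W
    rw [← Finset.card_pair hne]
    congr 1
    ext M
    simp only [Finset.mem_filter, Finset.mem_univ, true_and, Finset.mem_insert, Finset.mem_singleton]
    exact ⟨hall M, fun h => by rcases h with rfl | rfl <;> assumption⟩
  have h3 : ∑ K : Clique G, (Finset.univ.filter fun W => W ∈ K.1).card =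
      ∑ W : Sylow 3 G, (Finset.univ.filter fun K : Clique G => W ∈ K.1).card := by
    simp only [Finset.card_filter]
    exact Finset.sum_comm
  simp only [h1, h2, Finset.sum_const, Finset.card_univ, smul_eq_mul, ← Nat.card_eq_fintype_card,
    (normalizer_three hG (Classical.arbitrary _)).1] at h3
  omega

theorem common_unique (hG : Cfsg.IsM11 G) {K L : Clique G} (hne : K ≠ L) {W X : Sylow 3 G}
    (hWK : W ∈ K.1) (hWL : W ∈ L.1) (hXK : X ∈ K.1) (hXL : X ∈ L.1) : X = W := by
  obtain ⟨K₁, L₁, -, -, hmeet, -, hall⟩ := point_cliques hG W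
  rcases hall K hWK with rfl | rfl <;> rcases hall L hWL with rfl | rfl
  · exact absurd rfl hne
  · exact hmeet X hXK hXL
  · exact hmeet X hXL hXK
  · exact absurd rfl hne

/-- Two cliques meet in exactly one point. -/
theorem exists_meet (hG : Cfsg.IsM11 G) {K L : Clique G} (hne : K ≠ L) : ∃ W, W ∈ K.1 ∧ W ∈ L.1 := by
  classical
  haveI : Fintype (Clique G) := Fintype.ofFinite _
  haveI : Fintype (Sylow 3 G) := Fintype.ofFinite _
  set P := (Finset.univ : Finset (Clique G)).powersetCard 2 with hP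
  let f : Sylow 3 G → Finset (Clique G) := fun W => Finset.univ.filter fun M => W ∈ M.1
  have hf : ∀ W, f W ∈ P := fun W => by
    obtain ⟨K', L', hK, hL, -, hne', hall⟩ := point_cliques hG W
    rw [hP, Finset.mem_powersetCard_univ, ← Finset.card_pair hne']
    congr 1
    ext M
    simp only [f, Finset.mem_filter, Finset.mem_univ, true_and, Finset.mem_insert, Finset.mem_singleton]
    exact ⟨hall M, fun h => by rcases h with rfl | rfl <;> assumption⟩
  have hinj : Function.Injective f := fun W X e => by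
    obtain ⟨K', L', hK, hL, hmeet, -, -⟩ := point_cliques hG W
    have h1 : ∀ M : Clique G, W ∈ M.1 → X ∈ M.1 := fun M hM => by
      have : M ∈ f X := e ▸ Finset.mem_filter.2 ⟨Finset.mem_univ _, hM⟩
      exact (Finset.mem_filter.1 this).2
    exact (hmeet X (h1 K' hK) (h1 L' hL)).symm
  have himg : Finset.univ.image f = P := by
    refine Finset.eq_of_subset_of_card_le (fun s hs => ?_) ?_
    · obtain ⟨W, -, rfl⟩ := Finset.mem_image.1 hs
      exact hf W
    · rw [Finset.card_image_of_injective _ hinj, hP, Finset.card_powersetCard, Finset.card_univ, Finset.card_univ,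
        ← Nat.card_eq_fintype_card, ← Nat.card_eq_fintype_card, card_clique hG,
        (normalizer_three hG (Classical.arbitrary _)).1]
      decide
  have hmem : ({K, L} : Finset (Clique G)) ∈ Finset.univ.image f := by
    rw [himg, hP, Finset.mem_powersetCard_univ]; exact Finset.card_pair hne
  obtain ⟨W, -, hW⟩ := Finset.mem_image.1 hmem
  refine ⟨W, ?_, ?_⟩
  · exact (Finset.mem_filter.1 (show K ∈ f W by rw [hW]; simp)).2
  · exact (Finset.mem_filter.1 (show L ∈ f W by rw [hW]; simp)).2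

/-- An element fixing four cliques is trivial. -/
theorem fix_four (hG : Cfsg.IsM11 G) {g : G} (x : Fin 4 ↪ Clique G) (hx : ∀ i, g • x i = x i) : g = 1 := by
  classical
  by_contra hg
  have hn : orderOf g ≠ 1 := fun e => hg (orderOf_eq_one_iff.1 e)
  obtain ⟨p, hp, ⟨m, hm⟩⟩ := Nat.exists_prime_and_dvd hn
  have hpos := orderOf_pos g
  obtain ⟨a, ha⟩ : ∃ a : G, a = g ^ m := ⟨_, rfl⟩
  have hap : orderOf a = p := by
    have hm0 : m ≠ 0 := fun e => by rw [e, mul_zero] at hm; omega
    rw [ha, orderOf_pow' _ hm0, hm, Nat.gcd_mul_left_left, Nat.mul_div_cancel _ (Nat.pos_of_ne_zero hm0)]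
  have hxa : ∀ i, a • x i = x i := fun i =>
    ha ▸ mem_stabilizer_iff.1 (pow_mem (mem_stabilizer_iff.2 (hx i)) m)
  haveI : Fintype (Clique G) := Fintype.ofFinite _
  haveI : Fintype (Sylow 3 G) := Fintype.ofFinite _
  set F := (Finset.univ : Finset (Clique G)).filter fun M => a • M = M with hF
  have hF4 : 4 ≤ F.card := by
    refine le_trans (le_of_eq ?_) (Finset.card_le_card (s := Finset.univ.map x) fun M hM => ?_)
    · simp
    · obtain ⟨i, -, rfl⟩ := Finset.mem_map.1 hM
      exact Finset.mem_filter.2 ⟨Finset.mem_univ _, hxa i⟩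
  have hmem : ∀ s ∈ F.powersetCard 2, ∃ W, a • W = W ∧ ∀ M ∈ s, W ∈ M.1 := by
    intro s hs
    obtain ⟨hsF, hs2⟩ := Finset.mem_powersetCard.1 hs
    obtain ⟨K, L, hne, rfl⟩ := Finset.card_eq_two.1 hs2
    obtain ⟨W, hWK, hWL⟩ := exists_meet hG hne
    have hK := (Finset.mem_filter.1 (hsF (show K ∈ ({K, L} : Finset (Clique G)) by simp))).2
    have hL := (Finset.mem_filter.1 (hsF (show L ∈ ({K, L} : Finset (Clique G)) by simp))).2
    refine ⟨W, common_unique hG hne hWK hWL (hK ▸ mem_smul_clique hWK) (hL ▸ mem_smul_clique hWL),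
      fun M hM => ?_⟩
    simp only [Finset.mem_insert, Finset.mem_singleton] at hM
    rcases hM with rfl | rfl <;> assumption
  choose! P hPfix hPmem using hmem
  have hcount : (F.card).choose 2 ≤ Nat.card (fixedBy (Sylow 3 G) a) := by
    haveI : Fintype (fixedBy (Sylow 3 G) a) := Fintype.ofFinite _
    rw [← Finset.card_powersetCard, Nat.card_eq_fintype_card, ← Set.toFinset_card]
    refine Finset.card_le_card_of_injOn P (fun s hs => by simpa using hPfix s hs) ?_
    intro s hs t ht e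
    obtain ⟨K, L, hK, hL, -, hKL, hall⟩ := point_cliques hG (P s)
    have key : ∀ u, u ∈ F.powersetCard 2 → P u = P s → u = {K, L} := fun u hu eu => by
      refine Finset.eq_of_subset_of_card_le (fun M hM => ?_) ?_
      · rcases hall M (eu ▸ hPmem u hu M hM) with rfl | rfl <;> simp
      · rw [Finset.card_pair hKL, (Finset.mem_powersetCard.1 hu).2]
    rw [key s hs rfl, key t ht e.symm]
  have h6 : 6 ≤ (F.card).choose 2 := le_trans (by decide) (Nat.choose_le_choose 2 hF4)
  have hnorm : ∀ W : Sylow 3 G, a • W = W → p ∣ 144 := fun W hW => by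
    rw [← hap, ← (normalizer_three hG W).2]
    exact Subgroup.orderOf_dvd_natCard _ (Sylow.smul_eq_iff_mem_normalizer.1 hW)
  obtain ⟨⟨W, hW⟩⟩ : Nonempty (fixedBy (Sylow 3 G) a) := (Nat.card_pos_iff.1 (by omega)).1
  have hp' : p ∣ 2 ^ 4 * 3 ^ 2 := by simpa using hnorm W hW
  rcases hp.dvd_mul.1 hp' with h | h
  · have hp2 : p = 2 := (Nat.prime_dvd_prime_iff_eq hp Nat.prime_two).1 (hp.dvd_of_dvd_pow h)
    rw [hp2] at hap
    rw [fixed_seven hG hap] at hcount
    obtain ⟨j, hj⟩ := moved_div_four (perfect hG) (Ω := Clique G) a (sq_of_two hap)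
    have hFf : Nat.card (fixedBy (Clique G) a) = F.card := by
      rw [Nat.card_eq_fintype_card, ← Set.toFinset_card]; congr 1; ext M; simp [F]
    rw [card_clique hG, hFf] at hj
    have : (5 : ℕ).choose 2 ≤ (F.card).choose 2 := by
      rcases Nat.lt_or_ge F.card 5 with h5 | h5
      · omega
      · exact Nat.choose_le_choose 2 h5
    have e10 : (5 : ℕ).choose 2 = 10 := by decide
    omega
  · have hp3 : p = 3 := (Nat.prime_dvd_prime_iff_eq hp Nat.prime_three).1 (hp.dvd_of_dvd_pow h)
    rw [hp3] at hap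
    have : Nat.card (fixedBy (Sylow 3 G) a) ≤ 1 := by
      refine Finite.card_le_one_iff_subsingleton.2 ⟨fun X Y => Subtype.ext ?_⟩
      exact eq_of_common hG (fun e => by rw [e, orderOf_one] at hap; omega)
        (mem_of_three hG Y hap (Sylow.smul_eq_iff_mem_normalizer.1 Y.2))
        (mem_of_three hG X hap (Sylow.smul_eq_iff_mem_normalizer.1 X.2))
    omega

/-- A simple group of order 7920 is a sharply 4-transitive group of degree eleven. -/
theorem exists_sharp (hG : Cfsg.IsM11 G) : ∃ H : Subgroup (Equiv.Perm (Fin 11)), Nonempty (G ≃* H) ∧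
    IsMultiplyPretransitive H (Fin 11) 4 ∧ ∀ x : Fin 4 ↪ Fin 11, stabilizer H x = ⊥ := by
  classical
  haveI : Fintype (Clique G) := Fintype.ofFinite _
  let e : Clique G ≃ Fin 11 := Fintype.equivFinOfCardEq (by rw [← Nat.card_eq_fintype_card, card_clique hG])
  let ψ : G →* Equiv.Perm (Fin 11) := (e.permCongrHom.toMonoidHom).comp (MulAction.toPermHom G (Clique G))
  have hψ : ∀ g i, ψ g i = e (g • e.symm i) := fun g i => rfl
  have hfree : ∀ (g : G) (x : Fin 4 ↪ Fin 11), (∀ i, ψ g (x i) = x i) → g = 1 := fun g x hx =>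
    fix_four hG (x.trans e.symm.toEmbedding) fun i => by
      have h := hx i
      rw [hψ, ← e.eq_symm_apply] at h
      exact h
  have hinj : Function.Injective ψ := by
    refine (injective_iff_map_eq_one ψ).2 fun g hg => ?_
    exact hfree g (Fin.castLEEmb (by norm_num)) fun i => by rw [hg]; rfl
  refine ⟨ψ.range, ⟨MonoidHom.ofInjective hinj⟩, ?_, fun x => ?_⟩
  · haveI : Fintype G := Fintype.ofFinite G
    refine ⟨fun x y => ?_⟩
    let f : G → (Fin 4 ↪ Fin 11) := fun g => x.trans (ψ g).toEmbedding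
    have hf : Function.Injective f := by
      intro a b eab
      refine (inv_mul_eq_one.1 (hfree (b⁻¹ * a) x fun i => ?_)).symm
      have := DFunLike.congr_fun eab i
      simp only [f, Function.Embedding.trans_apply, Equiv.coe_toEmbedding] at this
      rw [map_mul, map_inv, Equiv.Perm.mul_apply, this, Equiv.Perm.inv_def, Equiv.symm_apply_apply]
    have hc : Fintype.card G = Fintype.card (Fin 4 ↪ Fin 11) := by
      rw [← Nat.card_eq_fintype_card, hG.2, Fintype.card_embedding_eq, Fintype.card_fin, Fintype.card_fin]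
      decide
    obtain ⟨g, hg⟩ := ((Fintype.bijective_iff_injective_and_card f).2 ⟨hf, hc⟩).2 y
    exact ⟨⟨ψ g, g, rfl⟩, hg⟩
  · refine (Subgroup.eq_bot_iff_forall _).2 ?_
    rintro ⟨_, g, rfl⟩ hg
    have : g = 1 := hfree g x fun i => DFunLike.congr_fun (mem_stabilizer_iff.1 hg) i
    subst this
    exact Subtype.ext (map_one ψ)

end Cfsg.Agent.MathieuEleven
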