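import Mathlib
import Cfsg.Agent.Lib.Perm.TwoPrimeGen

/-!
Counting tools for the structure of a simple group of order 7920.
-/

set_option autoImplicit false
set_option linter.style.haveILetI false
set_option linter.unusedSectionVars false

namespace Cfsg.Agent.MathieuEleven

open MulAction

variable {G : Type*} [Group G] [Finite G]

/-- A group without non-trivial homomorphisms into commutative groups. -/
def Perfect' (G : Type*) [Group G] : Prop := commutator G = ⊤

theorem Perfect'.hom_eq (h : Perfect' G) {A : Type*} [CommGroup A] (f : G →* A) (g : G) : f g = 1 :=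
  MonoidHom.mem_ker.1 (Abelianization.commutator_subset_ker f (h ▸ Subgroup.mem_top g))

/-- An involution of a perfect group moves a number of points divisible by four. -/
theorem moved_div_four (hG : Perfect' G) {Ω : Type*} [MulAction G Ω] [Finite Ω] (g : G) (hg : g * g = 1) :
    ∃ j, Nat.card Ω = Nat.card (fixedBy Ω g) + 4 * j := by
  classical
  haveI : Fintype Ω := Fintype.ofFinite Ω
  set v : Equiv.Perm Ω := MulAction.toPermHom G Ω g with hv
  have h2 : v ^ 2 = 1 := by rw [hv, ← map_pow, sq, hg, map_one]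
  obtain ⟨n, hn, hs⟩ := Cfsg.Agent.Perm.TwoPrime.involution_sign h2
  have h1 : Equiv.Perm.sign v = 1 := hG.hom_eq (Equiv.Perm.sign.comp (MulAction.toPermHom G Ω)) g
  rw [h1] at hs
  have hev : Even n := by
    rcases Nat.even_or_odd n with h | h
    · exact h
    · exfalso; rw [h.neg_one_pow] at hs; exact absurd hs (by decide)
  obtain ⟨j, rfl⟩ := hev
  refine ⟨j, ?_⟩
  have hf : Nat.card (fixedBy Ω g) = (v.supportᶜ).card := by
    rw [Nat.card_eq_fintype_card, ← Set.toFinset_card]
    congr 1
    ext x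
    simp [hv]
  rw [hf, Finset.card_compl, Nat.card_eq_fintype_card]
  have := v.support.card_le_univ
  omega

/-- The class of an element times the order of its centraliser is the group order. -/
theorem class_mul_centralizer (g : G) :
    Nat.card {x : G // IsConj g x} * Nat.card (Subgroup.centralizer ({g} : Set G)) = Nat.card G := by
  have h1 := Subgroup.index_mul_card (MulAction.stabilizer (ConjAct G) g)
  rw [index_stabilizer] at h1
  have e1 : (MulAction.orbit (ConjAct G) g).ncard = Nat.card {x : G // IsConj g x} := by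
    refine Nat.card_congr (Equiv.subtypeEquivRight fun x => ?_)
    show x ∈ orbit (ConjAct G) g ↔ IsConj g x
    rw [ConjAct.mem_orbit_conjAct, isConj_comm]
  have e2 : Nat.card (MulAction.stabilizer (ConjAct G) g) = Nat.card (Subgroup.centralizer ({g} : Set G)) := by
    refine Nat.card_congr (Equiv.subtypeEquiv ConjAct.ofConjAct.toEquiv fun x => ?_)
    rw [mem_stabilizer_iff, Subgroup.mem_centralizer_singleton_iff, ConjAct.smul_def]
    constructor
    · intro h; exact mul_inv_eq_iff_eq_mul.1 h
    · intro h; exact mul_inv_eq_iff_eq_mul.2 h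
  rw [e1, e2] at h1
  exact h1.trans (Nat.card_congr ConjAct.ofConjAct.toEquiv)

/-- Counting the pairs (conjugate, fixed point) of a transitive action. -/
theorem class_mul_fixed {Ω : Type*} [MulAction G Ω] [Finite Ω] [IsPretransitive G Ω] (g : G) (a : Ω) :
    Nat.card {x : G // IsConj g x} * Nat.card (fixedBy Ω g) =
      Nat.card Ω * Nat.card {x : G // IsConj g x ∧ x • a = a} := by
  classical
  haveI : Fintype G := Fintype.ofFinite G
  haveI : Fintype Ω := Fintype.ofFinite Ω
  have h1 : ∀ x : {x : G // IsConj g x},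
      Nat.card {ω : Ω // (x : G) • ω = ω} = Nat.card (fixedBy Ω g) := by
    rintro ⟨x, hx⟩
    obtain ⟨c, rfl⟩ := isConj_iff.1 hx
    refine (Nat.card_congr (Equiv.subtypeEquiv (MulAction.toPerm c) fun ω => ?_)).symm
    simp [mul_smul]
  have h2 : ∀ b : Ω, Nat.card {x : {x : G // IsConj g x} // (x : G) • b = b} =
      Nat.card {x : G // IsConj g x ∧ x • a = a} := by
    intro b
    obtain ⟨c, rfl⟩ := MulAction.exists_smul_eq G a b
    refine (Nat.card_congr (Equiv.subtypeSubtypeEquivSubtypeInter _ fun x : G => x • c • a = c • a)).trans ?_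
    refine (Nat.card_congr (Equiv.subtypeEquiv (MulAut.conj c).toEquiv fun x => ?_)).symm
    show _ ↔ IsConj g (c * x * c⁻¹) ∧ (c * x * c⁻¹) • c • a = c • a
    rw [mul_smul, inv_smul_smul, mul_smul, smul_left_cancel_iff]
    refine and_congr_left' ⟨fun h => h.trans (isConj_iff.2 ⟨c, rfl⟩), fun h => h.trans (isConj_iff.2 ⟨c, rfl⟩).symm⟩
  let e : (Σ x : {x : G // IsConj g x}, {ω : Ω // (x : G) • ω = ω}) ≃
      (Σ ω : Ω, {x : {x : G // IsConj g x} // (x : G) • ω = ω}) :=
    { toFun := fun p => ⟨p.2.1, p.1, p.2.2⟩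
      invFun := fun p => ⟨p.2.1, p.1, p.2.2⟩
      left_inv := fun p => rfl
      right_inv := fun p => rfl }
  have := Nat.card_congr e
  rw [Nat.card_sigma, Nat.card_sigma] at this
  simp only [h1, h2, Finset.sum_const, Finset.card_univ, smul_eq_mul, ← Nat.card_eq_fintype_card] at this
  exact this

/-- An element of order `r` commuting with a moving element of order `p` fixes the small orbits. -/
theorem commute_fix {Ω : Type*} [MulAction G Ω] {x c : G} {p r : ℕ} (hp : p.Prime) (hr : r.Prime)
    (hpr : p ≠ r) (hx : x ^ p = 1) (hc : c ^ r = 1) (hxc : Commute x c) (u : Ω) (hu : x • u ≠ u)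
    (S : Finset Ω) (hS : ∀ i : ℕ, (x * c) ^ i • u ∈ S) (hcard : S.card < p * r) : c • u = u := by
  classical
  have hy : (x * c) ^ (p * r) = 1 := by
    rw [hxc.mul_pow, pow_mul, hx, one_pow, mul_comm p r, pow_mul, hc, one_pow, one_mul]
  have hper : Function.IsPeriodicPt (fun w : Ω => (x * c) • w) (p * r) u := by
    show (fun w : Ω => (x * c) • w)^[p * r] u = u
    rw [smul_iterate]; simp [hy]
  set d := Function.minimalPeriod (fun w : Ω => (x * c) • w) u with hd
  have hdvd : d ∣ p * r := hper.minimalPeriod_dvd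
  have hd0 : d • 1 ≠ 0 := by
    rw [smul_eq_mul, mul_one]
    intro h; rw [h, zero_dvd_iff] at hdvd
    exact Nat.mul_ne_zero hp.ne_zero hr.ne_zero hdvd
  have hle : d ≤ S.card := by
    have hinj : Set.InjOn (fun i => (x * c) ^ i • u) (Finset.range d : Set ℕ) := by
      intro i hi j hj e
      have hi' : i < d := Finset.mem_range.1 hi
      have hj' : j < d := Finset.mem_range.1 hj
      refine Function.iterate_injOn_Iio_minimalPeriod (f := fun w : Ω => (x * c) • w) hi' hj' ?_
      simpa [smul_iterate] using e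
    calc d = ((Finset.range d).image fun i => (x * c) ^ i • u).card := by
          rw [Finset.card_image_of_injOn hinj, Finset.card_range]
      _ ≤ S.card := Finset.card_le_card fun w hw => by
          obtain ⟨i, -, rfl⟩ := Finset.mem_image.1 hw; exact hS i
  have hnot : ¬ d ∣ r := by
    intro h
    have h' : (x * c) ^ r • u = u := by
      obtain ⟨k, hk⟩ := h
      have := ((Function.isPeriodicPt_minimalPeriod (fun w : Ω => (x * c) • w) u).const_mul k)
      rw [mul_comm, ← hd, ← hk] at this
      simpa [Function.IsPeriodicPt, Function.IsFixedPt, smul_iterate] using this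
    rw [hxc.mul_pow, hc, mul_one] at h'
    have hcop : r.Coprime (orderOf x) :=
      ((Nat.coprime_primes hr hp).2 (Ne.symm hpr)).coprime_dvd_right (orderOf_dvd_of_pow_eq_one hx)
    obtain ⟨i, hi⟩ := exists_pow_eq_self_of_coprime hcop
    exact hu (hi ▸ mem_stabilizer_iff.1 (pow_mem (mem_stabilizer_iff.2 h') i))
  have hdp : d = p := by
    obtain ⟨d₁, d₂, h1, h2, h3⟩ := exists_dvd_and_dvd_of_dvd_mul hdvd
    rcases (Nat.dvd_prime hp).1 h1 with rfl | rfl
    · exact absurd (h3 ▸ (one_mul d₂).symm ▸ h2) hnot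
    · rcases (Nat.dvd_prime hr).1 h2 with rfl | rfl
      · rw [h3, mul_one]
      · rw [h3] at hle; omega
  have hfix : (x * c) ^ p • u = u := by
    have := Function.isPeriodicPt_minimalPeriod (fun w : Ω => (x * c) • w) u
    rw [← hd, hdp] at this
    simpa [Function.IsPeriodicPt, Function.IsFixedPt, smul_iterate] using this
  rw [hxc.mul_pow, hx, one_mul] at hfix
  have hcop : p.Coprime (orderOf c) :=
    ((Nat.coprime_primes hp hr).2 hpr).coprime_dvd_right (orderOf_dvd_of_pow_eq_one hc)
  obtain ⟨i, hi⟩ := exists_pow_eq_self_of_coprime hcop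
  exact hi ▸ mem_stabilizer_iff.1 (pow_mem (mem_stabilizer_iff.2 hfix) i)

/-- The Sylow subgroups inside a subgroup. -/
theorem sylow_count_in {p : ℕ} [Fact p.Prime] (P : Sylow p G) {H : Subgroup G} (hPH : (P : Subgroup G) ≤ H) :
    Nat.card {Q : Sylow p G // (Q : Subgroup G) ≤ H} % p = 1 ∧
    Nat.card {Q : Sylow p G // (Q : Subgroup G) ≤ H} *
        Nat.card ↥(H ⊓ Subgroup.normalizer ((P : Subgroup G) : Set G)) = Nat.card H ∧
    ∀ Q : Sylow p G, (Q : Subgroup G) ≤ H → ∃ h ∈ H, h • P = Q := by
  classical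
  have hconj : ∀ Q : Sylow p G, (Q : Subgroup G) ≤ H → ∃ h ∈ H, h • P = Q := by
    intro Q hQ
    obtain ⟨h, hh⟩ := MulAction.exists_smul_eq H (P.subtype hPH) (Q.subtype hQ)
    refine ⟨h, h.2, Sylow.subtype_injective (hP := ?_) (hQ := hQ) ?_⟩
    · intro z hz
      rw [Sylow.coe_subgroup_smul] at hz
      obtain ⟨w, hw, rfl⟩ := hz
      exact mul_mem (mul_mem h.2 (hPH hw)) (inv_mem h.2)
    · rw [← hh, Sylow.smul_subtype (hP := hPH)]; rfl
  let e : Sylow p H ≃ {Q : Sylow p G // (Q : Subgroup G) ≤ H} :=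
    (Equiv.ofBijective (fun Q : {Q : Sylow p G // (Q : Subgroup G) ≤ H} => Q.1.subtype Q.2)
      ⟨fun a b hab => Subtype.ext (Sylow.subtype_injective hab), fun R => by
        obtain ⟨h, hh⟩ := MulAction.exists_smul_eq H (P.subtype hPH) R
        refine ⟨⟨(h : G) • P, ?_⟩, ?_⟩
        · intro z hz
          rw [Sylow.coe_subgroup_smul] at hz
          obtain ⟨w, hw, rfl⟩ := hz
          exact mul_mem (mul_mem h.2 (hPH hw)) (inv_mem h.2)
        · rw [← hh, Sylow.smul_subtype (hP := hPH)]; rfl⟩).symm
  have he := Nat.card_congr e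
  refine ⟨?_, ?_, hconj⟩
  · rw [← he, card_sylow_modEq_one p H, Nat.mod_eq_of_lt (Fact.out : p.Prime).one_lt]
  · rw [← he, Sylow.card_eq_index_normalizer (P.subtype hPH)]
    have hmem : ∀ h : H, h ∈ Subgroup.normalizer ((P.subtype hPH : Subgroup H) : Set H) ↔
        (h : G) ∈ Subgroup.normalizer ((P : Subgroup G) : Set G) := by
      intro h
      refine Iff.trans ?_ ((SetLike.ext_iff.1 (Sylow.stabilizer_eq_normalizer P) (h : G)).trans Iff.rfl)
      refine Iff.trans (SetLike.ext_iff.1 (Sylow.stabilizer_eq_normalizer (P.subtype hPH)) h).symm ?_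
      rw [mem_stabilizer_iff, mem_stabilizer_iff, Sylow.smul_subtype (hP := hPH)]
      exact ⟨fun e => Sylow.subtype_injective e, fun e => by simp only [show h • P = P from e]⟩
    have hN : Nat.card (Subgroup.normalizer ((P.subtype hPH : Subgroup H) : Set H)) =
        Nat.card ↥(H ⊓ Subgroup.normalizer ((P : Subgroup G) : Set G)) :=
      Nat.card_congr
        { toFun := fun h => ⟨(h : H), Subgroup.mem_inf.2 ⟨(h : H).2, (hmem _).1 h.2⟩⟩
          invFun := fun g => ⟨⟨(g : G), (Subgroup.mem_inf.1 g.2).1⟩, (hmem _).2 (Subgroup.mem_inf.1 g.2).2⟩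
          left_inv := fun h => rfl
          right_inv := fun g => rfl }
    rw [← hN]
    exact Subgroup.index_mul_card _

/-- The order of the normaliser of a subgroup of prime order divides its totient times the centraliser. -/
theorem normalizer_dvd {X : Subgroup G} {p : ℕ} (hp : p.Prime) (hX : Nat.card X = p) :
    Nat.card (Subgroup.normalizer (X : Set G)) ∣ (p - 1) * Nat.card (Subgroup.centralizer (X : Set G)) := by
  haveI := Fact.mk hp
  haveI : IsCyclic X := isCyclic_of_prime_card hX
  set f := X.normalizerMonoidHom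
  rw [← f.ker.index_mul_card]
  refine Nat.mul_dvd_mul ?_ ?_
  · rw [Subgroup.index_ker]
    refine (Subgroup.card_subgroup_dvd_card f.range).trans ?_
    rw [IsCyclic.card_mulAut, hX, Nat.totient_prime hp]
  · rw [show f.ker = _ from Subgroup.normalizerMonoidHom_ker X]
    refine dvd_of_eq (Nat.card_congr (Subgroup.subgroupOfEquivOfLe ?_).toEquiv)
    exact Subgroup.centralizer_le_normalizer _

/-- An element of an abelian Sylow subgroup central in its normaliser is trivial in a perfect group. -/
theorem eq_one_of_central (hG : Perfect' G) {p : ℕ} [Fact p.Prime] (P : Sylow p G)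
    (hab : ∀ a ∈ (P : Subgroup G), ∀ b ∈ (P : Subgroup G), a * b = b * a) {g : G}
    (hg : g ∈ (P : Subgroup G))
    (hN : ∀ n ∈ Subgroup.normalizer ((P : Subgroup G) : Set G), n * g = g * n) : g = 1 := by
  letI : CommGroup (P : Subgroup G) :=
    { (inferInstance : Group (P : Subgroup G)) with
      mul_comm := fun a b => Subtype.ext (hab _ a.2 _ b.2) }
  have hle : (P : Subgroup G) ≤ Subgroup.centralizer ((P : Subgroup G) : Set G) :=
    fun a ha => Subgroup.mem_centralizer_iff.2 fun b hb => (hab a ha b hb).symm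
  have key : ∀ (k : ℕ) (g₀ : G), g₀⁻¹ * g ^ k * g₀ ∈ (P : Subgroup G) → g₀⁻¹ * g ^ k * g₀ = g ^ k := by
    intro k g₀ hk
    obtain ⟨n, hn, hn'⟩ := P.conj_eq_normalizer_conj_of_mem_centralizer (g ^ k) g₀
      (hle (pow_mem hg k)) (hle hk)
    rw [hn', mul_assoc, show g ^ k * n = n * g ^ k from (Commute.pow_left (hN n hn).symm k), ← mul_assoc,
      inv_mul_cancel, one_mul]
  have h1 := MonoidHom.transfer_eq_pow (MonoidHom.id (P : Subgroup G)) g key
  rw [hG.hom_eq] at h1
  have h2 : g ^ (P : Subgroup G).index = 1 := congrArg Subtype.val h1.symm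
  obtain ⟨k, hk⟩ := P.isPGroup' ⟨g, hg⟩
  have h3 : g ^ p ^ k = 1 := congrArg Subtype.val hk
  have hcop : ((P : Subgroup G).index).Coprime (p ^ k) :=
    Nat.Coprime.pow_right _ ((Fact.out : p.Prime).coprime_iff_not_dvd.2 P.not_dvd_index).symm
  have h4 : g ^ Nat.gcd (P : Subgroup G).index (p ^ k) = 1 := pow_gcd_eq_one.2 ⟨h2, h3⟩
  rwa [hcop.gcd_eq_one, pow_one] at h4

end Cfsg.Agent.MathieuEleven
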