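import Cfsg.Prelude.Def_Sporadic
import Cfsg.Agent.Lib.Small.MathieuEleven.Tools
import Cfsg.Agent.Lib.Perm.PrimeDegree

/-!
Sylow subgroups for the primes 11 and 5, and involution centralisers, in a simple group of order 7920.
-/

set_option autoImplicit false
set_option linter.style.haveILetI false
set_option linter.unusedSectionVars false

namespace Cfsg.Agent.MathieuEleven

open MulAction

variable {G : Type*} [Group G] [Finite G]

instance fact_two : Fact (Nat.Prime 2) := ⟨Nat.prime_two⟩
instance fact_three : Fact (Nat.Prime 3) := ⟨Nat.prime_three⟩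
instance fact_five : Fact (Nat.Prime 5) := ⟨Nat.prime_five⟩
instance fact_eleven : Fact (Nat.Prime 11) := ⟨by norm_num⟩

theorem div_720 : ∀ d, d < 721 → d ∣ 720 → d % 11 = 1 → d = 1 ∨ d = 12 ∨ d = 45 ∨ d = 144 := by decide +kernel

theorem div_1584' : ∀ d, d < 1585 → d ∣ 1584 → d % 5 = 1 → d ∈ ([1, 6, 11, 16, 36, 66, 176, 396] : List ℕ) := by
  decide +kernel

theorem div_1584 (d : ℕ) (h1 : d < 1585) (h2 : d ∣ 1584) (h3 : d % 5 = 1) : d = 1 ∨ d = 6 ∨ d = 11 ∨ d = 16 ∨
    d = 36 ∨ d = 66 ∨ d = 176 ∨ d = 396 := by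
  simpa using div_1584' d h1 h2 h3

theorem div_36 : ∀ d, d < 37 → d ∣ 36 → d % 5 = 1 → d = 1 ∨ d = 6 ∨ d = 36 := by decide +kernel

theorem perfect (hG : Cfsg.IsM11 G) : Perfect' G := by
  haveI := hG.1
  rcases IsSimpleGroup.eq_bot_or_eq_top_of_normal (commutator G) inferInstance with h | h
  · exfalso
    letI : CommGroup G := { (inferInstance : Group G) with
      mul_comm := fun a b => commutatorElement_eq_one_iff_mul_comm.1 (Subgroup.mem_bot.1 (h ▸
        Subgroup.commutator_mem_commutator (Subgroup.mem_top a) (Subgroup.mem_top b))) }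
    have := IsSimpleGroup.prime_card (α := G)
    rw [hG.2] at this
    norm_num at this
  · exact h

/-- A non-trivial action is faithful. -/
theorem faithful (hG : Cfsg.IsM11 G) {Ω : Type*} [MulAction G Ω] {a : Ω} {g : G} (hg : g • a ≠ a)
    {h : G} (hh : ∀ x : Ω, h • x = x) : h = 1 := by
  haveI := hG.1
  rcases IsSimpleGroup.eq_bot_or_eq_top_of_normal (MulAction.toPermHom G Ω).ker inferInstance with e | e
  · rw [← Subgroup.mem_bot, ← e, MonoidHom.mem_ker]
    exact Equiv.ext hh
  · exfalso
    have : g ∈ (MulAction.toPermHom G Ω).ker := e ▸ Subgroup.mem_top g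
    exact hg (Equiv.ext_iff.1 (MonoidHom.mem_ker.1 this) a)

theorem dvd_factorial (hG : Cfsg.IsM11 G) {Ω : Type*} [MulAction G Ω] [Finite Ω] {a : Ω} {g : G}
    (hg : g • a ≠ a) : 11 ≤ Nat.card Ω := by
  classical
  haveI : Fintype Ω := Fintype.ofFinite Ω
  have hinj : Function.Injective (MulAction.toPermHom G Ω) := by
    rw [injective_iff_map_eq_one]
    exact fun h hh => faithful hG hg fun x => Equiv.ext_iff.1 hh x
  have h := Subgroup.card_dvd_of_injective _ hinj
  rw [hG.2, Nat.card_eq_fintype_card, Fintype.card_perm] at h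
  rw [Nat.card_eq_fintype_card]
  exact (Nat.Prime.dvd_factorial (by norm_num : Nat.Prime 11)).1 ((by norm_num : 11 ∣ 7920).trans h)

theorem index_ge (hG : Cfsg.IsM11 G) (H : Subgroup G) (hH : H ≠ ⊤) : 11 ≤ H.index := by
  obtain ⟨g, hg⟩ : ∃ g, g ∉ H := by
    by_contra h; push Not at h; exact hH (eq_top_iff.2 fun x _ => h x)
  refine dvd_factorial hG (Ω := G ⧸ H) (a := ((1 : G) : G ⧸ H)) (g := g) ?_
  rw [Quotient.smul_coe, smul_eq_mul, mul_one, Ne, QuotientGroup.eq]
  simpa using hg

theorem nontrivial_sylow (hG : Cfsg.IsM11 G) {p : ℕ} [Fact p.Prime] (hp : p ∣ 7920) (hne : ¬ p ^ 5 ∣ 7920)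
    (hnp : ¬ IsPGroup p G) (P : Sylow p G) : Nat.card (Sylow p G) ≠ 1 := by
  haveI := hG.1
  intro h
  haveI : Subsingleton (Sylow p G) := (Nat.card_eq_one_iff_unique.1 h).1
  haveI := P.normal_of_subsingleton
  rcases IsSimpleGroup.eq_bot_or_eq_top_of_normal (P : Subgroup G) inferInstance with e | e
  · exact P.ne_bot_of_dvd_card (hG.2 ▸ hp) e
  · exact hnp (fun g => (P.isPGroup' ⟨g, e ▸ Subgroup.mem_top g⟩).imp fun k hk => congrArg Subtype.val hk)

theorem card_sylow_three (hG : Cfsg.IsM11 G) (P : Sylow 3 G) : Nat.card (P : Subgroup G) = 9 := by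
  rw [P.card_eq_multiplicity, hG.2, show (7920 : ℕ) = 3 ^ 2 * 880 by norm_num,
    Nat.factorization_mul (by norm_num) (by norm_num), Finsupp.add_apply,
    Nat.prime_three.factorization_pow, Finsupp.single_eq_same,
    Nat.factorization_eq_zero_of_not_dvd (by norm_num)]
  norm_num

theorem card_sylow_two (hG : Cfsg.IsM11 G) (P : Sylow 2 G) : Nat.card (P : Subgroup G) = 16 := by
  rw [P.card_eq_multiplicity, hG.2, show (7920 : ℕ) = 2 ^ 4 * 495 by norm_num,
    Nat.factorization_mul (by norm_num) (by norm_num), Finsupp.add_apply,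
    Nat.prime_two.factorization_pow, Finsupp.single_eq_same,
    Nat.factorization_eq_zero_of_not_dvd (by norm_num)]
  norm_num

theorem card_sylow_five (hG : Cfsg.IsM11 G) (P : Sylow 5 G) : Nat.card (P : Subgroup G) = 5 := by
  rw [P.card_eq_multiplicity, hG.2, show (7920 : ℕ) = 5 ^ 1 * 1584 by norm_num,
    Nat.factorization_mul (by norm_num) (by norm_num), Finsupp.add_apply,
    Nat.prime_five.factorization_pow, Finsupp.single_eq_same,
    Nat.factorization_eq_zero_of_not_dvd (by norm_num)]
  norm_num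

theorem card_sylow_eleven (hG : Cfsg.IsM11 G) (P : Sylow 11 G) : Nat.card (P : Subgroup G) = 11 := by
  rw [P.card_eq_multiplicity, hG.2, show (7920 : ℕ) = 11 ^ 1 * 720 by norm_num,
    Nat.factorization_mul (by norm_num) (by norm_num), Finsupp.add_apply,
    (by norm_num : Nat.Prime 11).factorization_pow, Finsupp.single_eq_same,
    Nat.factorization_eq_zero_of_not_dvd (by norm_num)]
  norm_num

theorem card_normalizer (hG : Cfsg.IsM11 G) {p : ℕ} [Fact p.Prime] (P : Sylow p G) :
    Nat.card (Sylow p G) * Nat.card (Subgroup.normalizer ((P : Subgroup G) : Set G)) = 7920 := by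
  have h := (Subgroup.normalizer ((P : Subgroup G) : Set G)).index_mul_card
  rw [hG.2] at h
  rw [Sylow.card_eq_index_normalizer P]
  exact h

/-- Burnside's transfer: no Sylow subgroup is central in its normaliser. -/
theorem not_normalizer_le_centralizer (hG : Cfsg.IsM11 G) {p : ℕ} [Fact p.Prime] (hp : p ∣ 7920)
    (P : Sylow p G) (hab : ∀ a ∈ (P : Subgroup G), ∀ b ∈ (P : Subgroup G), a * b = b * a) :
    ¬ Subgroup.normalizer ((P : Subgroup G) : Set G) ≤ Subgroup.centralizer ((P : Subgroup G) : Set G) := by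
  intro h
  refine P.ne_bot_of_dvd_card (hG.2 ▸ hp) ((Subgroup.eq_bot_iff_forall _).2 fun g hg => ?_)
  exact eq_one_of_central (perfect hG) P hab hg fun n hn => (Subgroup.mem_centralizer_iff.1 (h hn) g hg).symm

theorem comm_of_prime {X : Subgroup G} {p : ℕ} [Fact p.Prime] (hX : Nat.card X = p) :
    ∀ a ∈ X, ∀ b ∈ X, a * b = b * a := fun a ha b hb => by
  haveI : IsCyclic X := isCyclic_of_prime_card hX
  letI : CommGroup X := IsCyclic.commGroup
  exact congrArg Subtype.val (mul_comm (⟨a, ha⟩ : X) ⟨b, hb⟩)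

theorem gen_prime {X : Subgroup G} {p : ℕ} [Fact p.Prime] (hX : Nat.card X = p) :
    ∃ x ∈ X, orderOf x = p ∧ Subgroup.zpowers x = X := by
  obtain ⟨x, hx⟩ := exists_prime_orderOf_dvd_card' (G := X) p (hX ▸ dvd_rfl)
  refine ⟨x, x.2, by rw [Subgroup.orderOf_coe, hx], ?_⟩
  exact Subgroup.eq_of_le_of_card_ge ((Subgroup.zpowers_le).2 x.2)
    (by rw [Nat.card_zpowers, Subgroup.orderOf_coe, hx, hX])

theorem centralizer_gen {X : Subgroup G} {x : G} (h : Subgroup.zpowers x = X) :
    Subgroup.centralizer (X : Set G) = Subgroup.centralizer ({x} : Set G) := by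
  rw [← h, Subgroup.zpowers_eq_closure, Subgroup.centralizer_closure]

theorem sylow_eq_of_fixed {p : ℕ} [Fact p.Prime] (P Q : Sylow p G)
    (h : ∀ a ∈ (P : Subgroup G), a • Q = Q) : Q = P := by
  refine Sylow.ext ((Subgroup.eq_of_le_of_card_ge ?_ ?_).symm)
  · intro a ha
    exact (Subgroup.mem_inf.1 ((P.isPGroup'.inf_normalizer_sylow Q) ▸
      (Subgroup.mem_inf.2 ⟨ha, Sylow.smul_eq_iff_mem_normalizer.1 (h a ha)⟩))).2
  · rw [P.card_eq_multiplicity, Q.card_eq_multiplicity]

theorem smul_self {p : ℕ} [Fact p.Prime] (P : Sylow p G) {a : G}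
    (ha : a ∈ Subgroup.normalizer ((P : Subgroup G) : Set G)) : a • P = P :=
  Sylow.smul_eq_iff_mem_normalizer.2 ha

theorem prime_dvd_fixes {p : ℕ} [Fact p.Prime] (P : Sylow p G) (hP : Nat.card (P : Subgroup G) = p)
    {x : G} (hx : Subgroup.zpowers x = (P : Subgroup G)) {Q : Sylow p G} (hne : Q ≠ P) : x • Q ≠ Q := by
  intro e
  refine hne (sylow_eq_of_fixed P Q fun a ha => ?_)
  rw [← hx] at ha
  have := (Subgroup.zpowers_le (H := MulAction.stabilizer G Q)).2 (mem_stabilizer_iff.2 e) ha
  exact mem_stabilizer_iff.1 this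

theorem orderOf_smul_ne {p : ℕ} [Fact p.Prime] (P : Sylow p G) {a : G} (ha : a ∈ (P : Subgroup G)) :
    a • P = P := smul_self P (Subgroup.le_normalizer ha)

/-- Small Sylow numbers: an element of prime order centralising a Sylow subgroup of order `p` is in it. -/
theorem centralizer_small (hG : Cfsg.IsM11 G) {p r : ℕ} [Fact p.Prime] (hr : r.Prime) (hpr : p ≠ r)
    (hp : p ∣ 7920) (hne : ¬ p ^ 5 ∣ 7920) (hnp : ¬ IsPGroup p G) (P : Sylow p G)
    (hP : Nat.card (P : Subgroup G) = p) (hn : Nat.card (Sylow p G) ≤ p * r) :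
    ¬ r ∣ Nat.card (Subgroup.centralizer ((P : Subgroup G) : Set G)) := by
  classical
  haveI := Fact.mk hr
  intro hdvd
  haveI : Fintype (Sylow p G) := Fintype.ofFinite _
  obtain ⟨c, hc⟩ := exists_prime_orderOf_dvd_card' (G := Subgroup.centralizer ((P : Subgroup G) : Set G)) r hdvd
  obtain ⟨x, hxP, hxo, hxz⟩ := gen_prime hP
  have hcx : Commute x (c : G) := Subgroup.mem_centralizer_iff.1 c.2 x hxP
  have hcr : (c : G) ^ r = 1 := by
    rw [← hc, ← Subgroup.orderOf_coe]; exact pow_orderOf_eq_one _
  have hcP : (c : G) • P = P := smul_self P (Subgroup.centralizer_le_normalizer _ c.2)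
  have hxP' : x • P = P := orderOf_smul_ne P hxP
  have hfix : ∀ Q : Sylow p G, (c : G) • Q = Q := by
    intro Q
    by_cases hQ : Q = P
    · rw [hQ, hcP]
    refine commute_fix (Fact.out : p.Prime) hr hpr (hxo ▸ pow_orderOf_eq_one x) hcr hcx Q
      (prime_dvd_fixes P hP hxz hQ) (Finset.univ.erase P) (fun i => ?_) ?_
    · refine Finset.mem_erase.2 ⟨fun e => hQ ?_, Finset.mem_univ _⟩
      have hst : (x * c) ∈ MulAction.stabilizer G P := by
        rw [mem_stabilizer_iff, mul_smul, hcP, hxP']
      have h1 := mem_stabilizer_iff.1 (pow_mem hst i)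
      exact smul_left_cancel _ (e.trans h1.symm)
    · rw [Finset.card_erase_of_mem (Finset.mem_univ _), Finset.card_univ, ← Nat.card_eq_fintype_card]
      have : 0 < Nat.card (Sylow p G) := Nat.card_pos
      omega
  obtain ⟨Q, hQ⟩ : ∃ Q : Sylow p G, Q ≠ P := by
    by_contra h; push Not at h
    exact nontrivial_sylow hG hp hne hnp P (Nat.card_eq_one_iff_unique.2 ⟨⟨fun a b => (h a).trans (h b).symm⟩, ⟨P⟩⟩)
  obtain ⟨g, hg⟩ := MulAction.exists_smul_eq G P Q
  have h1 : (c : G) = 1 := faithful hG (a := P) (g := g) (by rw [hg]; exact hQ) hfix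
  rw [← Subgroup.orderOf_coe, h1, orderOf_one] at hc
  exact hr.one_lt.ne hc

theorem not_pgroup (hG : Cfsg.IsM11 G) (p : ℕ) [Fact p.Prime] : ¬ IsPGroup p G := by
  intro h
  obtain ⟨k, hk⟩ := h.exists_card_eq
  rw [hG.2] at hk
  have h2 := (Nat.prime_two).dvd_of_dvd_pow (hk ▸ (by norm_num : 2 ∣ 7920))
  have h3 := (Nat.prime_three).dvd_of_dvd_pow (hk ▸ (by norm_num : 3 ∣ 7920))
  rw [Nat.prime_dvd_prime_iff_eq Nat.prime_two Fact.out] at h2
  rw [Nat.prime_dvd_prime_iff_eq Nat.prime_three Fact.out] at h3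
  omega

theorem centralizer_dvd_normalizer (P : Subgroup G) :
    Nat.card (Subgroup.centralizer (P : Set G)) ∣ Nat.card (Subgroup.normalizer (P : Set G)) :=
  Subgroup.card_dvd_of_le (Subgroup.centralizer_le_normalizer _)

theorem self_dvd_centralizer {X : Subgroup G} {p : ℕ} [Fact p.Prime] (hX : Nat.card X = p) :
    p ∣ Nat.card (Subgroup.centralizer (X : Set G)) := by
  conv_lhs => rw [← hX]
  refine Subgroup.card_dvd_of_le fun a ha => Subgroup.mem_centralizer_iff.2 fun b hb => ?_
  exact (comm_of_prime hX a ha b hb).symm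

/-- An involution centralising one of 45 Sylow 11-subgroups fixes only that one. -/
theorem involution_fix_one (hG : Cfsg.IsM11 G) (P : Sylow 11 G) (hn : Nat.card (Sylow 11 G) = 45)
    {e : G} (he : orderOf e = 2) (hec : e ∈ Subgroup.centralizer ((P : Subgroup G) : Set G))
    {Q : Sylow 11 G} (hQ : e • Q = Q) : Q = P := by
  classical
  let Fx := {R : Sylow 11 G // e • R = R}
  have hmaps : ∀ (a : (P : Subgroup G)) (R : Fx), e • ((a : G) • R.1) = (a : G) • R.1 := by
    intro a R
    rw [← mul_smul, show e * a = a * e from (Subgroup.mem_centralizer_iff.1 hec a a.2).symm, mul_smul, R.2]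
  letI : MulAction (P : Subgroup G) Fx :=
    { smul := fun a R => ⟨(a : G) • R.1, hmaps a R⟩
      one_smul := fun R => Subtype.ext (one_smul G R.1)
      mul_smul := fun a b R => Subtype.ext (mul_smul (a : G) (b : G) R.1) }
  have hfp : Nat.card (fixedPoints (P : Subgroup G) Fx) = 1 := by
    rw [Nat.card_eq_one_iff_unique]
    refine ⟨⟨fun a b => ?_⟩, ⟨⟨⟨P, smul_self P (Subgroup.centralizer_le_normalizer _ hec)⟩, fun x =>
      Subtype.ext (orderOf_smul_ne P x.2)⟩⟩⟩
    have key : ∀ c : fixedPoints (P : Subgroup G) Fx, c.1.1 = P := fun c =>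
      sylow_eq_of_fixed P c.1.1 fun x hx => congrArg Subtype.val (c.2 ⟨x, hx⟩)
    exact Subtype.ext (Subtype.ext ((key a).trans (key b).symm))
  have hmod := IsPGroup.card_modEq_card_fixedPoints (P.isPGroup') Fx
  rw [hfp] at hmod
  obtain ⟨j, hj⟩ := moved_div_four (perfect hG) (Ω := Sylow 11 G) e (by rw [← sq, ← he, pow_orderOf_eq_one])
  rw [hn] at hj
  have hF : Nat.card (fixedBy (Sylow 11 G) e) = Nat.card Fx := rfl
  rw [hF] at hj
  have hne : Nat.card Fx ≠ 45 := by
    intro h45
    obtain ⟨R, hR⟩ : ∃ R : Sylow 11 G, R ≠ P := by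
      by_contra h; push Not at h
      have := Nat.card_eq_one_iff_unique.2 ⟨⟨fun a b => (h a).trans (h b).symm⟩, ⟨P⟩⟩
      omega
    obtain ⟨g, hg⟩ := MulAction.exists_smul_eq G P R
    have hall : ∀ x : Sylow 11 G, e • x = x := by
      intro x
      by_contra hx
      have : Nat.card Fx < Nat.card (Sylow 11 G) := by
        haveI : Fintype (Sylow 11 G) := Fintype.ofFinite _
        rw [Nat.card_eq_fintype_card, Nat.card_eq_fintype_card]
        exact Fintype.card_subtype_lt hx
      omega
    have := faithful hG (a := P) (g := g) (by rw [hg]; exact hR) hall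
    rw [this, orderOf_one] at he
    omega
  have h11 : Nat.card Fx % 11 = 1 := hmod
  have h1 : Nat.card Fx = 1 := by
    have : Nat.card Fx ≤ 45 := by omega
    interval_cases h : Nat.card Fx <;> omega
  haveI := (Nat.card_eq_one_iff_unique.1 h1).1
  exact congrArg Subtype.val (Subsingleton.elim (⟨Q, hQ⟩ : Fx)
    ⟨P, smul_self P (Subgroup.centralizer_le_normalizer _ hec)⟩)

/-- There are 144 Sylow 11-subgroups, each self-centralising. -/
theorem eleven_local (hG : Cfsg.IsM11 G) (P : Sylow 11 G) :
    Nat.card (Sylow 11 G) = 144 ∧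
      Nat.card (Subgroup.normalizer ((P : Subgroup G) : Set G)) = 55 ∧
      Nat.card (Subgroup.centralizer ((P : Subgroup G) : Set G)) = 11 := by
  classical
  have hP := card_sylow_eleven hG P
  set N := Subgroup.normalizer ((P : Subgroup G) : Set G) with hN
  set C := Subgroup.centralizer ((P : Subgroup G) : Set G) with hC
  have hmod : Nat.card (Sylow 11 G) % 11 = 1 := by
    rw [card_sylow_modEq_one 11 G]
  have h1 := nontrivial_sylow hG (p := 11) (by norm_num) (by norm_num) (not_pgroup hG 11) P
  have hprod := card_normalizer hG P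
  have hidx : Nat.card (Sylow 11 G) ∣ 720 := by
    have h := P.card_dvd_index
    have h2 := (P : Subgroup G).index_mul_card
    rw [hP, hG.2] at h2
    rwa [show (P : Subgroup G).index = 720 by omega] at h
  have hq : Nat.card N ∣ 10 * Nat.card C := normalizer_dvd (by norm_num) hP
  have hCN : Nat.card C ∣ Nat.card N := centralizer_dvd_normalizer _
  have h11C : 11 ∣ Nat.card C := self_dvd_centralizer hP
  have hBurn : Nat.card N ≠ Nat.card C := fun e =>
    not_normalizer_le_centralizer hG (by norm_num) P (comm_of_prime hP)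
      (Subgroup.eq_of_le_of_card_ge (Subgroup.centralizer_le_normalizer _) (le_of_eq e)).ge
  have hdiv := div_720
  rcases hdiv _ (Nat.lt_succ_of_le (Nat.le_of_dvd (by norm_num) hidx)) hidx hmod with h | h | h | h
  · exact absurd h h1
  · exfalso
    rw [h] at hprod
    have hN' : Nat.card N = 660 := by rw [hN]; omega
    rw [hN'] at hq hCN hBurn
    obtain ⟨k, hk⟩ := h11C
    rw [hk] at hq hCN hBurn
    have : 2 ∣ k ∨ 3 ∣ k := by omega
    rcases this with h' | h'
    · exact centralizer_small hG Nat.prime_two (by norm_num) (by norm_num) (by norm_num) (not_pgroup hG 11) P hP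
        (by omega) (hk ▸ h'.mul_left 11)
    · exact centralizer_small hG Nat.prime_three (by norm_num) (by norm_num) (by norm_num) (not_pgroup hG 11) P hP
        (by omega) (hk ▸ h'.mul_left 11)
  · exfalso
    rw [h] at hprod
    have hN' : Nat.card N = 176 := by rw [hN]; omega
    rw [hN'] at hq hCN hBurn
    have hC' : Nat.card C = 88 := by
      have : Nat.card C ≤ 176 := Nat.le_of_dvd (by norm_num) hCN
      obtain ⟨a, ha⟩ := h11C
      obtain ⟨b, hb⟩ := hCN
      obtain ⟨c, hc⟩ := hq
      rw [ha] at hb hc this hBurn ⊢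
      have : a ≤ 16 := by omega
      interval_cases a <;> omega
    obtain ⟨Q, hQ⟩ : ∃ Q : Sylow 11 G, Q ≠ P := by
      by_contra hh; push Not at hh
      have := Nat.card_eq_one_iff_unique.2 ⟨⟨fun a b => (hh a).trans (hh b).symm⟩, ⟨P⟩⟩
      omega
    let K : Subgroup G := N ⊓ MulAction.stabilizer G Q
    have hKC : K ⊓ C = ⊥ := by
      refine Subgroup.card_eq_one.1 ?_
      by_contra hne
      obtain ⟨r, hr, hdvd⟩ := Nat.exists_prime_and_dvd hne
      haveI := Fact.mk hr
      obtain ⟨e, he⟩ := exists_prime_orderOf_dvd_card' (G := ↥(K ⊓ C)) r hdvd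
      have h88 : r ∣ 88 := hC' ▸ hdvd.trans (Subgroup.card_dvd_of_le inf_le_right)
      have hr' : r = 2 ∨ r = 11 := by
        have h' := (Nat.Prime.dvd_mul hr).1 (show r ∣ 2 ^ 3 * 11 by simpa using h88)
        rcases h' with h' | h'
        · exact Or.inl ((Nat.prime_dvd_prime_iff_eq hr Nat.prime_two).1 (hr.dvd_of_dvd_pow h'))
        · exact Or.inr ((Nat.prime_dvd_prime_iff_eq hr (by norm_num)).1 h')
      have he1 : (e : G) • Q = Q := mem_stabilizer_iff.1 (Subgroup.mem_inf.1 (Subgroup.mem_inf.1 e.2).1).2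
      have he2 : (e : G) ∈ C := (Subgroup.mem_inf.1 e.2).2
      rcases hr' with rfl | rfl
      · exact hQ (involution_fix_one hG P h (by rw [Subgroup.orderOf_coe, he]) he2 he1)
      · have hpg : IsPGroup 11 (Subgroup.zpowers (e : G)) :=
          IsPGroup.of_card (n := 1) (by rw [Nat.card_zpowers, Subgroup.orderOf_coe, he, pow_one])
        have heP : Subgroup.zpowers (e : G) = (P : Subgroup G) := by
          have hle : Subgroup.zpowers (e : G) ≤ (P : Subgroup G) := fun a ha =>
            (Subgroup.mem_inf.1 ((hpg.inf_normalizer_sylow P) ▸ (Subgroup.mem_inf.2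
              ⟨ha, (Subgroup.zpowers_le).2 (Subgroup.centralizer_le_normalizer _ he2) ha⟩))).2
          exact Subgroup.eq_of_le_of_card_ge hle (by rw [Nat.card_zpowers, Subgroup.orderOf_coe, he, hP])
        exact prime_dvd_fixes P hP heP hQ he1
    have hK : Nat.card K ≤ 2 := by
      let q : K →* (N ⧸ C.subgroupOf N) :=
        (QuotientGroup.mk' (C.subgroupOf N)).comp (Subgroup.inclusion inf_le_left)
      haveI : (C.subgroupOf N).Normal := by
        rw [hC, hN, ← Subgroup.normalizerMonoidHom_ker]; infer_instance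
      have hinj : Function.Injective q := by
        rw [injective_iff_map_eq_one]
        intro a ha
        have ha' : (a : G) ∈ K ⊓ C :=
          Subgroup.mem_inf.2 ⟨a.2, (QuotientGroup.eq_one_iff (N := C.subgroupOf N) _).1 ha⟩
        rw [hKC, Subgroup.mem_bot] at ha'
        exact Subtype.ext ha'
      refine (Nat.card_le_card_of_injective q hinj).trans ?_
      have h2 := (C.subgroupOf N).index_mul_card
      rw [Nat.card_congr (Subgroup.subgroupOfEquivOfLe (Subgroup.centralizer_le_normalizer _)).toEquiv,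
        hN', hC'] at h2
      show (C.subgroupOf N).index ≤ 2
      omega
    have horb : Nat.card (MulAction.orbit N Q) * Nat.card K = 176 := by
      rw [← hN', ← (MulAction.stabilizer N Q).index_mul_card, index_stabilizer]
      congr 1
      exact Nat.card_congr
        { toFun := fun a => ⟨⟨(a : G), (Subgroup.mem_inf.1 a.2).1⟩, (Subgroup.mem_inf.1 a.2).2⟩
          invFun := fun a => ⟨(a.1 : G), Subgroup.mem_inf.2 ⟨a.1.2, a.2⟩⟩
          left_inv := fun a => rfl
          right_inv := fun a => rfl }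
    have hsmall : Nat.card (MulAction.orbit N Q) ≤ 44 := by
      haveI : Fintype (Sylow 11 G) := Fintype.ofFinite _
      have hsub : (MulAction.orbit N Q).toFinset ⊆ Finset.univ.erase P := by
        intro R hR
        obtain ⟨n, rfl⟩ := Set.mem_toFinset.1 hR
        refine Finset.mem_erase.2 ⟨fun e' => hQ (smul_left_cancel (n : G) (e'.trans (smul_self P n.2).symm)),
          Finset.mem_univ _⟩
      have := Finset.card_le_card hsub
      rw [Finset.card_erase_of_mem (Finset.mem_univ _), Finset.card_univ, ← Nat.card_eq_fintype_card,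
        Set.toFinset_card, ← Nat.card_eq_fintype_card] at this
      omega
    nlinarith
  · refine ⟨h, ?_, ?_⟩
    · rw [h] at hprod; rw [hN]; omega
    · rw [h] at hprod
      have hN' : Nat.card N = 55 := by rw [hN]; omega
      rw [hN'] at hq hCN hBurn
      obtain ⟨a, ha⟩ := h11C
      obtain ⟨b, hb⟩ := hCN
      rw [ha] at hb hBurn ⊢
      have : a ≤ 5 := by
        have := Nat.le_of_dvd (by norm_num) (Dvd.intro b hb.symm)
        omega
      interval_cases a <;> omega

theorem centralizer_eleven (hG : Cfsg.IsM11 G) {x : G} (hx : orderOf x = 11) :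
    Nat.card (Subgroup.centralizer ({x} : Set G)) = 11 := by
  have hz : IsPGroup 11 (Subgroup.zpowers x) := IsPGroup.of_card (n := 1) (by rw [Nat.card_zpowers, hx, pow_one])
  obtain ⟨P, hP⟩ := hz.exists_le_sylow
  have e : Subgroup.zpowers x = (P : Subgroup G) :=
    Subgroup.eq_of_le_of_card_ge hP (by rw [Nat.card_zpowers, hx, card_sylow_eleven hG P])
  rw [← centralizer_gen e]
  exact (eleven_local hG P).2.2

theorem not_eleven_dvd_centralizer (hG : Cfsg.IsM11 G) {g : G} (hg : g ≠ 1) (h : orderOf g ≠ 11) :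
    ¬ 11 ∣ Nat.card (Subgroup.centralizer ({g} : Set G)) := by
  intro hd
  obtain ⟨x, hx⟩ := exists_prime_orderOf_dvd_card' (G := Subgroup.centralizer ({g} : Set G)) 11 hd
  have hc := centralizer_eleven hG (x := (x : G)) (by rw [Subgroup.orderOf_coe, hx])
  have hg' : g ∈ Subgroup.centralizer ({(x : G)} : Set G) :=
    Subgroup.mem_centralizer_singleton_iff.2 (Subgroup.mem_centralizer_singleton_iff.1 x.2).symm
  have := Subgroup.orderOf_dvd_natCard (Subgroup.centralizer ({(x : G)} : Set G)) hg'
  rw [hc] at this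
  rcases (Nat.dvd_prime (by norm_num : Nat.Prime 11)).1 this with h' | h'
  · exact hg (orderOf_eq_one_iff.1 h')
  · exact h h'

/-- There are 396 Sylow 5-subgroups. -/
theorem five_local (hG : Cfsg.IsM11 G) (X : Sylow 5 G) :
    Nat.card (Sylow 5 G) = 396 ∧
      Nat.card (Subgroup.normalizer ((X : Subgroup G) : Set G)) = 20 ∧
      Nat.card (Subgroup.centralizer ((X : Subgroup G) : Set G)) ∣ 10 := by
  classical
  have hX := card_sylow_five hG X
  set N := Subgroup.normalizer ((X : Subgroup G) : Set G) with hN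
  set C := Subgroup.centralizer ((X : Subgroup G) : Set G) with hC
  have hmod : Nat.card (Sylow 5 G) % 5 = 1 := by rw [card_sylow_modEq_one 5 G]
  have h1 := nontrivial_sylow hG (p := 5) (by norm_num) (by norm_num) (not_pgroup hG 5) X
  have hprod := card_normalizer hG X
  have hidx : Nat.card (Sylow 5 G) ∣ 1584 := by
    have h := X.card_dvd_index
    have h2 := (X : Subgroup G).index_mul_card
    rw [hX, hG.2] at h2
    rwa [show (X : Subgroup G).index = 1584 by omega] at h
  have hq : Nat.card N ∣ 4 * Nat.card C := normalizer_dvd (by norm_num) hX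
  have hCN : Nat.card C ∣ Nat.card N := centralizer_dvd_normalizer _
  have h5C : 5 ∣ Nat.card C := self_dvd_centralizer hX
  have hBurn : Nat.card N ≠ Nat.card C := fun e =>
    not_normalizer_le_centralizer hG (by norm_num) X (comm_of_prime hX)
      (Subgroup.eq_of_le_of_card_ge (Subgroup.centralizer_le_normalizer _) (le_of_eq e)).ge
  obtain ⟨x, hxX, hxo, hxz⟩ := gen_prime hX
  have hCx : C = Subgroup.centralizer ({x} : Set G) := centralizer_gen hxz
  have h11 : ¬ 11 ∣ Nat.card N := by
    intro hd
    have hd2 : 11 ∣ Nat.card C := (Nat.Coprime.dvd_of_dvd_mul_left (by norm_num) (hd.trans hq))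
    rw [hCx] at hd2
    refine not_eleven_dvd_centralizer hG ?_ (by omega) hd2
    rintro rfl; rw [orderOf_one] at hxo; omega
  have hdiv := div_1584
  rcases hdiv _ (Nat.lt_succ_of_le (Nat.le_of_dvd (by norm_num) hidx)) hidx hmod with
    h | h | h | h | h | h | h | h <;> rw [h] at hprod
  · exact absurd h h1
  · exact absurd ⟨120, (by rw [hN]; omega : Nat.card N = 11 * 120)⟩ h11
  · exfalso
    have hN' : Nat.card N = 720 := by rw [hN]; omega
    obtain ⟨a, ha⟩ := h5C
    rw [hN'] at hq
    have h3 : 3 ∣ Nat.card C :=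
      Nat.Coprime.dvd_of_dvd_mul_left (by norm_num) ((by norm_num : 3 ∣ 720).trans hq)
    exact centralizer_small hG Nat.prime_three (by norm_num) (by norm_num) (by norm_num) (not_pgroup hG 5) X hX
      (by omega) h3
  · exact absurd ⟨45, (by rw [hN]; omega : Nat.card N = 11 * 45)⟩ h11
  · exact absurd ⟨20, (by rw [hN]; omega : Nat.card N = 11 * 20)⟩ h11
  · exfalso
    obtain ⟨P⟩ : Nonempty (Sylow 11 G) := inferInstance
    obtain ⟨h144, -, -⟩ := eleven_local hG P
    haveI : Fintype (Sylow 11 G) := Fintype.ofFinite _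
    haveI : Fintype (Sylow 5 G) := Fintype.ofFinite _
    let R : Sylow 5 G → Sylow 11 G → Prop := fun Y Q =>
      (Y : Subgroup G) ≤ Subgroup.normalizer ((Q : Subgroup G) : Set G)
    have hrow : ∀ Q, 11 ≤ (Finset.univ.filter fun Y => R Y Q).card := by
      intro Q
      obtain ⟨-, hNQ, -⟩ := eleven_local hG Q
      set H := Subgroup.normalizer ((Q : Subgroup G) : Set G) with hH
      obtain ⟨y, hy⟩ := exists_prime_orderOf_dvd_card' (G := H) 5 (by rw [hH, hNQ]; norm_num)
      have hz : IsPGroup 5 (Subgroup.zpowers (y : G)) :=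
        IsPGroup.of_card (n := 1) (by rw [Nat.card_zpowers, Subgroup.orderOf_coe, hy, pow_one])
      obtain ⟨Y, hY⟩ := hz.exists_le_sylow
      have eY : Subgroup.zpowers (y : G) = (Y : Subgroup G) :=
        Subgroup.eq_of_le_of_card_ge hY (by rw [Nat.card_zpowers, Subgroup.orderOf_coe, hy, card_sylow_five hG Y])
      have hYH : (Y : Subgroup G) ≤ H := eY ▸ (Subgroup.zpowers_le).2 y.2
      obtain ⟨hm, hcard, -⟩ := sylow_count_in Y hYH
      rw [Nat.card_eq_fintype_card (α := {Q' : Sylow 5 G // (Q' : Subgroup G) ≤ H}), Fintype.card_subtype] at hm hcard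
      set n := (Finset.univ.filter fun Q' : Sylow 5 G => (Q' : Subgroup G) ≤ H).card with hn
      rw [show Nat.card H = 55 by rw [hH, hNQ]] at hcard
      have hne : n ≠ 1 := by
        intro h1'
        rw [h1', one_mul] at hcard
        have : 11 ∣ Nat.card (Subgroup.normalizer ((Y : Subgroup G) : Set G)) :=
          (by rw [hcard]; norm_num : 11 ∣ Nat.card ↥(H ⊓ Subgroup.normalizer ((Y : Subgroup G) : Set G))).trans
            (Subgroup.card_dvd_of_le inf_le_right)
        have hY66 := card_normalizer hG Y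
        rw [h] at hY66
        omega
      have : n ∣ 55 := ⟨_, hcard.symm⟩
      have := Nat.le_of_dvd (by norm_num) this
      interval_cases hn' : n <;> omega
    have hcol : ∀ Y, (Finset.univ.filter fun Q => R Y Q).card ≤ 14 := by
      intro Y
      by_cases hemp : (Finset.univ.filter fun Q => R Y Q).Nonempty
      swap
      · rw [Finset.not_nonempty_iff_eq_empty.1 hemp]; simp
      obtain ⟨P', hP'⟩ := hemp
      have hYP' : R Y P' := (Finset.mem_filter.1 hP').2
      obtain ⟨y, hyY, hyo, hyz⟩ := gen_prime (card_sylow_five hG Y)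
      haveI : Fintype (P' : Subgroup G) := Fintype.ofFinite _
      set Fx := (Finset.univ.filter fun Q => R Y Q).erase P' with hFx
      have hinj : Set.InjOn (fun z : Sylow 11 G × (P' : Subgroup G) => (z.2 : G) • z.1)
          (↑(Fx ×ˢ (Finset.univ : Finset (P' : Subgroup G)))) := by
        rintro ⟨Q₁, a⟩ h₁ ⟨Q₂, b⟩ h₂ e
        simp only [Finset.coe_product, Set.mem_prod, Finset.mem_coe, hFx, Finset.mem_erase, Finset.mem_filter,
          Finset.mem_univ, true_and, and_true] at h₁ h₂
        change (a : G) • Q₁ = (b : G) • Q₂ at e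
        obtain ⟨c, hcdef⟩ : ∃ c : G, c = (b : G)⁻¹ * a := ⟨_, rfl⟩
        have hcP : c ∈ (P' : Subgroup G) := hcdef ▸ mul_mem (inv_mem b.2) a.2
        have hcQ : c • Q₁ = Q₂ := by rw [hcdef, mul_smul, e, inv_smul_smul]
        have f1 : y • Q₁ = Q₁ := smul_self Q₁ (h₁.2 hyY)
        have f2 : y • Q₂ = Q₂ := smul_self Q₂ (h₂.2 hyY)
        obtain ⟨d, hddef⟩ : ∃ d : G, d = c⁻¹ * (y * c * y⁻¹) := ⟨_, rfl⟩
        have hdP : d ∈ (P' : Subgroup G) :=
          hddef ▸ mul_mem (inv_mem hcP) ((Subgroup.mem_normalizer_iff.1 (hYP' hyY) c).1 hcP)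
        have hdQ : d • Q₁ = Q₁ := by
          rw [hddef]
          simp only [mul_smul]
          rw [inv_smul_eq_iff.2 f1.symm, hcQ, f2, ← hcQ, inv_smul_smul]
        have hd1 : d = 1 := by
          by_contra hd
          have hdo : orderOf d = 11 := by
            have := Subgroup.orderOf_dvd_natCard (P' : Subgroup G) hdP
            rw [card_sylow_eleven hG P'] at this
            exact ((Nat.dvd_prime (by norm_num : Nat.Prime 11)).1 this).resolve_left
              fun h' => hd (orderOf_eq_one_iff.1 h')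
          have hz : Subgroup.zpowers d = (P' : Subgroup G) :=
            Subgroup.eq_of_le_of_card_ge ((Subgroup.zpowers_le).2 hdP)
              (by rw [Nat.card_zpowers, hdo, card_sylow_eleven hG P'])
          exact prime_dvd_fixes P' (card_sylow_eleven hG P') hz h₁.1 hdQ
        have hyc : y * c * y⁻¹ = c := by
          rw [hddef, inv_mul_eq_one] at hd1; exact hd1.symm
        have hc1 : c = 1 := by
          by_contra hc
          have hco : orderOf c = 11 := by
            have := Subgroup.orderOf_dvd_natCard (P' : Subgroup G) hcP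
            rw [card_sylow_eleven hG P'] at this
            exact ((Nat.dvd_prime (by norm_num : Nat.Prime 11)).1 this).resolve_left
              fun h' => hc (orderOf_eq_one_iff.1 h')
          have hmem : y ∈ Subgroup.centralizer ({c} : Set G) :=
            Subgroup.mem_centralizer_singleton_iff.2 (mul_inv_eq_iff_eq_mul.1 hyc)
          have := Subgroup.orderOf_dvd_natCard _ hmem
          rw [centralizer_eleven hG hco, hyo] at this
          omega
        rw [hc1, one_smul] at hcQ
        rw [hc1, eq_comm, inv_mul_eq_one] at hcdef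
        exact Prod.ext hcQ (Subtype.ext hcdef.symm)
      have hmaps : (Fx ×ˢ Finset.univ).image (fun z : Sylow 11 G × (P' : Subgroup G) => (z.2 : G) • z.1) ⊆
          Finset.univ.erase P' := by
        intro Q hQ
        obtain ⟨⟨Q₁, a⟩, hz, rfl⟩ := Finset.mem_image.1 hQ
        refine Finset.mem_erase.2 ⟨fun e => ?_, Finset.mem_univ _⟩
        exact (Finset.mem_erase.1 (Finset.mem_product.1 hz).1).1
          (smul_left_cancel (a : G) (e.trans (orderOf_smul_ne P' a.2).symm))
      have hcle := Finset.card_le_card hmaps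
      rw [Finset.card_image_of_injOn hinj, Finset.card_product, Finset.card_univ (α := (P' : Subgroup G)),
        Finset.card_erase_of_mem (Finset.mem_univ _), Finset.card_univ (α := Sylow 11 G),
        ← Nat.card_eq_fintype_card, card_sylow_eleven hG P', ← Nat.card_eq_fintype_card, h144] at hcle
      rw [hFx, Finset.card_erase_of_mem hP'] at hcle
      omega
    have hs1 : 144 * 11 ≤ ∑ Q : Sylow 11 G, (Finset.univ.filter fun Y => R Y Q).card := by
      have := Finset.card_nsmul_le_sum Finset.univ (fun Q : Sylow 11 G => (Finset.univ.filter fun Y => R Y Q).card)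
        11 (fun Q _ => hrow Q)
      rwa [Finset.card_univ, ← Nat.card_eq_fintype_card, h144, smul_eq_mul] at this
    have hs2 : ∑ Y : Sylow 5 G, (Finset.univ.filter fun Q => R Y Q).card ≤ 66 * 14 := by
      have := Finset.sum_le_card_nsmul Finset.univ (fun Y : Sylow 5 G => (Finset.univ.filter fun Q => R Y Q).card)
        14 (fun Y _ => hcol Y)
      rwa [Finset.card_univ, ← Nat.card_eq_fintype_card, h, smul_eq_mul] at this
    have e : ∑ Q : Sylow 11 G, (Finset.univ.filter fun Y => R Y Q).card =
        ∑ Y : Sylow 5 G, (Finset.univ.filter fun Q => R Y Q).card := by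
      simp only [Finset.card_filter]
      exact Finset.sum_comm
    omega
  · exfalso
    have hN' : Nat.card N = 45 := by rw [hN]; omega
    rw [hN'] at hq hCN hBurn
    have := Nat.Coprime.dvd_of_dvd_mul_left (by norm_num : (45 : ℕ).Coprime 4) hq
    exact hBurn (Nat.dvd_antisymm this hCN)
  · have hN' : Nat.card N = 20 := by rw [hN]; omega
    refine ⟨h, hN', ?_⟩
    rw [hN'] at hq hCN hBurn
    obtain ⟨a, ha⟩ := h5C
    have : a ≤ 4 := by have := Nat.le_of_dvd (by norm_num) hCN; omega
    rw [ha] at hBurn hCN hq ⊢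
    interval_cases a <;> norm_num at *

theorem centralizer_five (hG : Cfsg.IsM11 G) {x : G} (hx : orderOf x = 5) :
    Nat.card (Subgroup.centralizer ({x} : Set G)) ∣ 10 := by
  have hz : IsPGroup 5 (Subgroup.zpowers x) := IsPGroup.of_card (n := 1) (by rw [Nat.card_zpowers, hx, pow_one])
  obtain ⟨P, hP⟩ := hz.exists_le_sylow
  have e : Subgroup.zpowers x = (P : Subgroup G) :=
    Subgroup.eq_of_le_of_card_ge hP (by rw [Nat.card_zpowers, hx, card_sylow_five hG P])
  rw [← centralizer_gen e]
  exact (five_local hG P).2.2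

/-- Centralisers of elements of order three. -/
theorem centralizer_three_dvd (hG : Cfsg.IsM11 G) {y : G} (hy : orderOf y = 3) :
    Nat.card (Subgroup.centralizer ({y} : Set G)) ∣ 144 := by
  have hd : Nat.card (Subgroup.centralizer ({y} : Set G)) ∣ 144 * (5 * 11) := by
    have := Subgroup.card_subgroup_dvd_card (Subgroup.centralizer ({y} : Set G))
    rw [hG.2] at this; simpa using this
  refine Nat.Coprime.dvd_of_dvd_mul_right ?_ hd
  refine Nat.Coprime.mul_right ?_ ?_
  · refine ((Nat.prime_five).coprime_iff_not_dvd.2 fun h5 => ?_).symm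
    obtain ⟨x, hx⟩ := exists_prime_orderOf_dvd_card' (G := Subgroup.centralizer ({y} : Set G)) 5 h5
    have hc := centralizer_five hG (x := (x : G)) (by rw [Subgroup.orderOf_coe, hx])
    have hy' : y ∈ Subgroup.centralizer ({(x : G)} : Set G) :=
      Subgroup.mem_centralizer_singleton_iff.2 (Subgroup.mem_centralizer_singleton_iff.1 x.2).symm
    have := (Subgroup.orderOf_dvd_natCard _ hy').trans hc
    rw [hy] at this
    omega
  · refine ((by norm_num : Nat.Prime 11).coprime_iff_not_dvd.2 (not_eleven_dvd_centralizer hG ?_ (by omega))).symm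
    rintro rfl; rw [orderOf_one] at hy; omega

/-- A subgroup fixing a central involution of a point stabiliser of index eleven is impossible. -/
theorem no_central_index_eleven (hG : Cfsg.IsM11 G) (H : Subgroup G) (hH : H.index = 11) {t : G}
    (ht : orderOf t = 2) (hc : H ≤ Subgroup.centralizer ({t} : Set G)) (htH : t ∈ H) : False := by
  classical
  set Ω := G ⧸ H with hΩ
  haveI : Fintype Ω := Fintype.ofFinite Ω
  have hcard : Fintype.card Ω = 11 := by rw [← Nat.card_eq_fintype_card]; exact hH
  set a : Ω := ((1 : G) : G ⧸ H) with ha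
  have hstab : MulAction.stabilizer G a = H := MulAction.stabilizer_quotient H
  have hsimp : IsSimpleGroup G := hG.1
  have hinj : Function.Injective (MulAction.toPermHom G Ω) := by
    obtain ⟨g, hg⟩ : ∃ g, g ∉ H := by
      by_contra h; push Not at h
      rw [(eq_top_iff.2 fun x _ => h x : H = ⊤), Subgroup.index_top] at hH
      omega
    rw [injective_iff_map_eq_one]
    exact fun x hx => faithful hG (a := a) (g := g) (fun e => hg (hstab ▸ mem_stabilizer_iff.2 e))
      fun y => Equiv.ext_iff.1 hx y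
  set K := (MulAction.toPermHom G Ω).range with hK
  haveI : MulAction.IsPretransitive K Ω := ⟨fun x y => by
    obtain ⟨g, hg⟩ := MulAction.exists_smul_eq G x y
    exact ⟨⟨_, g, rfl⟩, hg⟩⟩
  rcases Cfsg.Agent.Perm.burnside_prime_degree (p := 11) hcard K with hsol | h2
  · have : Group.IsSolvable G := (solvable_of_solvable_injective (f := (MonoidHom.ofInjective hinj).toMonoidHom)
      (MonoidHom.ofInjective hinj).injective)
    have h1 := (perfect hG : commutator G = ⊤)
    have := Group.IsSolvable.commutator_lt_top_of_nontrivial G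
    exact this.ne h1
  · rw [is_two_pretransitive_iff] at h2
    have htfix : ∀ b, b ≠ a → t • b ≠ b := by
      intro b hb hbt
      have hall : ∀ y : Ω, t • y = y := by
        intro y
        by_cases hy : y = a
        · rw [hy]; exact mem_stabilizer_iff.1 (hstab.symm ▸ htH : t ∈ MulAction.stabilizer G a)
        · obtain ⟨⟨k, g, rfl⟩, hg1, hg2⟩ := h2 hb hy
          have hgH : g ∈ H := hstab ▸ mem_stabilizer_iff.2 hg2
          have e := Subgroup.mem_centralizer_singleton_iff.1 (hc hgH)
          change g • b = y at hg1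
          rw [← hg1, ← mul_smul, ← e, mul_smul, hbt]
      obtain ⟨g, hg⟩ := MulAction.exists_smul_eq G a b
      have := faithful hG (Ω := Ω) (a := a) (g := g) (by rw [hg]; exact hb) hall
      rw [this, orderOf_one] at ht; omega
    obtain ⟨j, hj⟩ := moved_div_four (perfect hG) (Ω := Ω) t (by rw [← sq, ← ht, pow_orderOf_eq_one])
    have h1 : Nat.card (fixedBy Ω t) = 1 := by
      rw [Nat.card_eq_one_iff_unique]
      refine ⟨⟨fun x y => Subtype.ext ?_⟩, ⟨⟨a, mem_stabilizer_iff.1 (hstab.symm ▸ htH : t ∈ MulAction.stabilizer G a)⟩⟩⟩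
      have key : ∀ z : fixedBy Ω t, z.1 = a := fun z => by_contra fun hz => htfix z.1 hz z.2
      rw [key x, key y]
    rw [h1, Nat.card_eq_fintype_card, hcard] at hj
    omega

/-- Centralisers of involutions. -/
theorem centralizer_two_cases (hG : Cfsg.IsM11 G) {t : G} (ht : orderOf t = 2) :
    Nat.card (Subgroup.centralizer ({t} : Set G)) ∣ 144 ∨
      Nat.card (Subgroup.centralizer ({t} : Set G)) = 20 ∨
      Nat.card (Subgroup.centralizer ({t} : Set G)) = 120 := by
  classical
  set C := Subgroup.centralizer ({t} : Set G) with hC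
  have ht1 : t ≠ 1 := by rintro rfl; rw [orderOf_one] at ht; omega
  have h11 : ¬ 11 ∣ Nat.card C := not_eleven_dvd_centralizer hG ht1 (by omega)
  have hd : Nat.card C ∣ 720 := by
    refine Nat.Coprime.dvd_of_dvd_mul_right ((by norm_num : Nat.Prime 11).coprime_iff_not_dvd.2 h11).symm ?_
    have := Subgroup.card_subgroup_dvd_card C
    rw [hG.2] at this; simpa using this
  by_cases h5 : 5 ∣ Nat.card C
  swap
  · left
    refine Nat.Coprime.dvd_of_dvd_mul_right ((Nat.prime_five).coprime_iff_not_dvd.2 h5).symm ?_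
    simpa using hd
  right
  obtain ⟨x, hx⟩ := exists_prime_orderOf_dvd_card' (G := C) 5 h5
  have hxo : orderOf (x : G) = 5 := by rw [Subgroup.orderOf_coe, hx]
  have hz : IsPGroup 5 (Subgroup.zpowers (x : G)) := IsPGroup.of_card (n := 1) (by rw [Nat.card_zpowers, hxo, pow_one])
  obtain ⟨X, hX⟩ := hz.exists_le_sylow
  have e : Subgroup.zpowers (x : G) = (X : Subgroup G) :=
    Subgroup.eq_of_le_of_card_ge hX (by rw [Nat.card_zpowers, hxo, card_sylow_five hG X])
  obtain ⟨-, hN20, hC10⟩ := five_local hG X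
  have htC : t ∈ Subgroup.centralizer ((X : Subgroup G) : Set G) := by
    rw [centralizer_gen e]
    exact Subgroup.mem_centralizer_singleton_iff.2 (Subgroup.mem_centralizer_singleton_iff.1 x.2).symm
  set D := Subgroup.centralizer ((X : Subgroup G) : Set G) with hD
  set N := Subgroup.normalizer ((X : Subgroup G) : Set G) with hN
  -- `t` is the only involution of the centraliser
  have hNC : N ≤ C := by
    intro n hn
    have hconj : n * t * n⁻¹ ∈ D := by
      rw [hD, Subgroup.mem_centralizer_iff]
      intro a ha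
      have ha' : n⁻¹ * a * n ∈ (X : Subgroup G) := (Subgroup.mem_normalizer_iff''.1 hn a).1 ha
      have e1 := Subgroup.mem_centralizer_iff.1 htC _ ha'
      calc a * (n * t * n⁻¹) = n * ((n⁻¹ * a * n) * t) * n⁻¹ := by group
        _ = n * (t * (n⁻¹ * a * n)) * n⁻¹ := by rw [e1]
        _ = n * t * n⁻¹ * a := by group
    have ho : orderOf (n * t * n⁻¹) = 2 := by
      rw [← ht]; exact (MulAut.conj n).orderOf_eq t
    by_contra hne
    have hne' : n * t * n⁻¹ ≠ t := fun e' =>
      hne (Subgroup.mem_centralizer_singleton_iff.2 (mul_inv_eq_iff_eq_mul.1 e'))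
    haveI : Fintype D := Fintype.ofFinite _
    obtain ⟨S, hS⟩ := IsPGroup.exists_le_sylow (G := D) (P := Subgroup.zpowers (⟨t, htC⟩ : D))
      (IsPGroup.of_card (n := 1) (by rw [Nat.card_zpowers, Subgroup.orderOf_mk, ht, pow_one]))
    obtain ⟨S', hS'⟩ := IsPGroup.exists_le_sylow (G := D) (P := Subgroup.zpowers (⟨n * t * n⁻¹, hconj⟩ : D))
      (IsPGroup.of_card (n := 1) (by rw [Nat.card_zpowers, Subgroup.orderOf_mk, ho, pow_one]))
    -- abelian centraliser
    have hcomm : ∀ a b : D, a * b = b * a := by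
      intro a b
      have h10 : Nat.card D = 10 := by
        have h2 : 2 ∣ Nat.card D := ht ▸ Subgroup.orderOf_dvd_natCard _ htC
        have h5' : 5 ∣ Nat.card D := self_dvd_centralizer (card_sylow_five hG X)
        have := Nat.le_of_dvd (by norm_num) hC10
        have : 0 < Nat.card D := Nat.card_pos
        omega
      have hco : orderOf (⟨t * (x : G), mul_mem htC (hD ▸ (Subgroup.mem_centralizer_iff.2 fun c hc =>
          (comm_of_prime (card_sylow_five hG X) (x : G) (e ▸ Subgroup.mem_zpowers _) c hc).symm))⟩ : D) = 10 := by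
        rw [Subgroup.orderOf_mk, Commute.orderOf_mul_eq_mul_orderOf_of_coprime, ht, hxo]
        · exact (Subgroup.mem_centralizer_iff.1 htC _ (e ▸ Subgroup.mem_zpowers _)).symm
        · rw [ht, hxo]; norm_num
      haveI : IsCyclic D := isCyclic_of_orderOf_eq_card _ (hco.trans h10.symm)
      letI : CommGroup D := IsCyclic.commGroup
      exact mul_comm a b
    haveI : Subsingleton (Sylow 2 D) := ⟨fun A B => by
      obtain ⟨g, rfl⟩ := MulAction.exists_smul_eq D A B
      refine Sylow.ext ?_
      rw [Sylow.coe_subgroup_smul]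
      ext z
      rw [Subgroup.mem_pointwise_smul_iff_inv_smul_mem, ← map_inv, MulAut.smul_def, MulAut.conj_apply,
        hcomm g⁻¹ z, mul_assoc, mul_inv_cancel, mul_one]⟩
    rw [Subsingleton.elim S' S] at hS'
    have h10 : Nat.card D ≤ 10 := Nat.le_of_dvd (by norm_num) hC10
    have hS2 : Nat.card (S : Subgroup D) = 2 := by
      obtain ⟨k, hk⟩ := S.isPGroup'.exists_card_eq
      have hdk := (Subgroup.card_subgroup_dvd_card (S : Subgroup D)).trans hC10
      rw [hk] at hdk ⊢
      have h2 : 2 ∣ 2 ^ k := by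
        have := Subgroup.orderOf_dvd_natCard _ (hS (Subgroup.mem_zpowers (⟨t, htC⟩ : D)))
        rwa [Subgroup.orderOf_mk, ht, hk] at this
      rcases k with _ | _ | k
      · norm_num at h2
      · rfl
      · exfalso
        have : 4 ∣ 10 := (dvd_trans ⟨2 ^ k, by ring⟩ hdk)
        omega
    obtain ⟨u, hu⟩ : ∃ u : D, ∀ z ∈ (S : Subgroup D), z = 1 ∨ z = u := by
      obtain ⟨⟨u, huS⟩, -, hu⟩ := (Nat.card_eq_two_iff' (1 : (S : Subgroup D))).1 hS2
      exact ⟨u, fun z hz => (em (z = 1)).imp id fun hz1 =>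
        congrArg Subtype.val (hu ⟨z, hz⟩ fun e' => hz1 (congrArg Subtype.val e'))⟩
    have q1 := (hu _ (hS (Subgroup.mem_zpowers _))).resolve_left fun e' => ht1 (congrArg Subtype.val e')
    have q2 := (hu _ (hS' (Subgroup.mem_zpowers _))).resolve_left fun e' => by
      have h9 : n * t * n⁻¹ = 1 := congrArg Subtype.val e'
      rw [h9, orderOf_one] at ho; omega
    exact hne' (congrArg Subtype.val (q2.trans q1.symm))
  have hXC : (X : Subgroup G) ≤ C := le_trans Subgroup.le_normalizer hNC
  obtain ⟨hm, hcard, -⟩ := sylow_count_in X hXC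
  rw [show C ⊓ N = N from inf_eq_right.2 hNC, hN20] at hcard
  set n := Nat.card {Q : Sylow 5 G // (Q : Subgroup G) ≤ C}
  have hn : n ∣ 36 := Nat.dvd_of_mul_dvd_mul_right (by norm_num : 0 < 20) (by rw [hcard]; simpa using hd)
  have h36 := div_36
  rcases h36 n (Nat.lt_succ_of_le (Nat.le_of_dvd (by norm_num) hn)) hn hm with h | h | h
  · left; omega
  · right; omega
  · exfalso
    have hidx := C.index_mul_card
    rw [hG.2] at hidx
    exact no_central_index_eleven hG C (by
      have : Nat.card C = 720 := by omega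
      rw [this] at hidx; omega) ht le_rfl (Subgroup.mem_centralizer_singleton_iff.2 rfl)

end Cfsg.Agent.MathieuEleven
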