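import Cfsg.Agent.Lib.Small.MathieuEleven.Sylow3

/-!
The case of 220 Sylow 3-subgroups whose centralisers have order 18 does not occur.
-/

set_option autoImplicit false
set_option linter.style.haveILetI false
set_option linter.unusedSectionVars false

namespace Cfsg.Agent.MathieuEleven

open MulAction

variable {G : Type*} [Group G] [Finite G]

/-- The hypotheses: all Sylow 3-normalisers have order 36 and their centralisers order 18. -/
structure H18 (G : Type*) [Group G] [Finite G] : Prop where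
  m11 : Cfsg.IsM11 G
  norm : ∀ T : Sylow 3 G, Nat.card (Subgroup.normalizer ((T : Subgroup G) : Set G)) = 36
  cent : ∀ T : Sylow 3 G, Nat.card (Subgroup.centralizer ((T : Subgroup G) : Set G)) = 18

namespace H18

variable (h : H18 G)
include h

theorem invol_exists (T : Sylow 3 G) :
    ∃ d : G, orderOf d = 2 ∧ d ∈ Subgroup.centralizer ((T : Subgroup G) : Set G) := by
  obtain ⟨d, hd⟩ := exists_prime_orderOf_dvd_card'
    (G := Subgroup.centralizer ((T : Subgroup G) : Set G)) 2 (by rw [h.cent T]; norm_num)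
  exact ⟨d, by rw [Subgroup.orderOf_coe, hd], d.2⟩

theorem cent_cases (T : Sylow 3 G) {d c : G} (hd : orderOf d = 2)
    (hdT : d ∈ Subgroup.centralizer ((T : Subgroup G) : Set G))
    (hc : c ∈ Subgroup.centralizer ((T : Subgroup G) : Set G)) :
    c ∈ (T : Subgroup G) ∨ d * c ∈ (T : Subgroup G) := by
  set C := Subgroup.centralizer ((T : Subgroup G) : Set G) with hC
  have hTC : (T : Subgroup G) ≤ C := fun a ha =>
    Subgroup.mem_centralizer_iff.2 fun b hb => sylow_comm h.m11 T b hb a ha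
  have hi : ((T : Subgroup G).subgroupOf C).index = 2 := by
    have := ((T : Subgroup G).subgroupOf C).index_mul_card
    rw [Nat.card_congr (Subgroup.subgroupOfEquivOfLe hTC).toEquiv, card_sylow_three h.m11 T, h.cent T] at this
    omega
  by_cases hcT : c ∈ (T : Subgroup G)
  · exact Or.inl hcT
  have hdT' : d ∉ (T : Subgroup G) := fun hm => by
    have := Subgroup.orderOf_dvd_natCard _ hm
    rw [hd, card_sylow_three h.m11 T] at this
    omega
  refine Or.inr ?_
  have := (Subgroup.mul_mem_iff_of_index_two hi (a := ⟨d, hdT⟩) (b := ⟨c, hc⟩)).2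
    (iff_of_false hdT' hcT)
  exact this

theorem invol_unique (T : Sylow 3 G) {d e : G} (hd : orderOf d = 2)
    (hdT : d ∈ Subgroup.centralizer ((T : Subgroup G) : Set G)) (he : orderOf e = 2)
    (heT : e ∈ Subgroup.centralizer ((T : Subgroup G) : Set G)) : e = d := by
  rcases h.cent_cases T hd hdT heT with hm | hm
  · have := Subgroup.orderOf_dvd_natCard _ hm
    rw [he, card_sylow_three h.m11 T] at this
    omega
  · have hc : Commute d (d * e) := (Subgroup.mem_centralizer_iff.1 hdT _ hm).symm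
    have hd2 : d * d = 1 := by rw [← sq, ← hd, pow_orderOf_eq_one]
    have he2 : e * e = 1 := by rw [← sq, ← he, pow_orderOf_eq_one]
    have e1 : e = d * (d * e) := by rw [← mul_assoc, hd2, one_mul]
    have e2 : (d * e) ^ 2 = 1 := by
      have : e ^ 2 = d ^ 2 * (d * e) ^ 2 := by conv_lhs => rw [e1, hc.mul_pow]
      rw [sq d, hd2, one_mul, sq e, he2] at this
      exact this.symm
    have h9 : (d * e) ^ 9 = 1 := by
      exact orderOf_dvd_iff_pow_eq_one.1 (card_sylow_three h.m11 T ▸ Subgroup.orderOf_dvd_natCard _ hm)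
    have : d * e = 1 := by simpa using (pow_gcd_eq_one.2 ⟨e2, h9⟩ : (d * e) ^ Nat.gcd 2 9 = 1)
    rw [e1, this, mul_one]

theorem inverts (T : Sylow 3 G) {n : G} (hn : n ∈ Subgroup.normalizer ((T : Subgroup G) : Set G))
    (hnc : n ∉ Subgroup.centralizer ((T : Subgroup G) : Set G)) {t : G} (ht : t ∈ (T : Subgroup G)) :
    n * t * n⁻¹ = t⁻¹ := by
  set C := Subgroup.centralizer ((T : Subgroup G) : Set G) with hC
  set N := Subgroup.normalizer ((T : Subgroup G) : Set G) with hN
  have hi : (C.subgroupOf N).index = 2 := by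
    have := (C.subgroupOf N).index_mul_card
    rw [Nat.card_congr (Subgroup.subgroupOfEquivOfLe (Subgroup.centralizer_le_normalizer _)).toEquiv,
      hC, h.cent T, hN, h.norm T] at this
    rw [hC, hN]; omega
  have hn2 : n * n ∈ C :=
    (Subgroup.mul_mem_iff_of_index_two hi (a := ⟨n, hn⟩) (b := ⟨n, hn⟩)).2 Iff.rfl
  have hnt : n * t * n⁻¹ ∈ (T : Subgroup G) := (Subgroup.mem_normalizer_iff.1 hn t).1 ht
  have hf : n * t * n⁻¹ * t ∈ (T : Subgroup G) := mul_mem hnt ht
  refine eq_inv_of_mul_eq_one_left (eq_one_of_central (perfect h.m11) T (sylow_comm h.m11 T) hf fun m hm => ?_)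
  have hfix : n * (n * t * n⁻¹ * t) = n * t * n⁻¹ * t * n := by
    calc n * (n * t * n⁻¹ * t) = (n * n * t) * n⁻¹ * t := by group
      _ = (t * (n * n)) * n⁻¹ * t := by rw [Subgroup.mem_centralizer_iff.1 hn2 t ht]
      _ = t * (n * t * n⁻¹) * n := by group
      _ = n * t * n⁻¹ * t * n := by rw [sylow_comm h.m11 T t ht _ hnt]
  by_cases hmc : m ∈ C
  · exact (Subgroup.mem_centralizer_iff.1 hmc _ hf).symm
  · have hnm : n⁻¹ * m ∈ C :=
      (Subgroup.mul_mem_iff_of_index_two hi (a := ⟨n⁻¹, inv_mem hn⟩) (b := ⟨m, hm⟩)).2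
        (iff_of_false (fun hh => hnc (inv_mem_iff.1 (Subgroup.mem_subgroupOf.1 hh))) hmc)
    calc m * (n * t * n⁻¹ * t) = n * ((n⁻¹ * m) * (n * t * n⁻¹ * t)) := by group
      _ = n * ((n * t * n⁻¹ * t) * (n⁻¹ * m)) := by rw [Subgroup.mem_centralizer_iff.1 hnm _ hf]
      _ = n * t * n⁻¹ * t * n * (n⁻¹ * m) := by rw [← mul_assoc, hfix]
      _ = _ := by group

theorem exists_inverter (T : Sylow 3 G) :
    ∃ n ∈ Subgroup.normalizer ((T : Subgroup G) : Set G),
      n ∉ Subgroup.centralizer ((T : Subgroup G) : Set G) := by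
  by_contra hne
  push Not at hne
  have := Subgroup.card_dvd_of_le (show Subgroup.normalizer ((T : Subgroup G) : Set G) ≤
    Subgroup.centralizer ((T : Subgroup G) : Set G) from hne)
  rw [h.norm T, h.cent T] at this
  omega

theorem cent_in_normalizer (T : Sylow 3 G) {y : G} (hy : orderOf y = 3) (hyT : y ∈ (T : Subgroup G)) :
    Subgroup.centralizer ({y} : Set G) ⊓ Subgroup.normalizer ((T : Subgroup G) : Set G) =
      Subgroup.centralizer ((T : Subgroup G) : Set G) := by
  refine le_antisymm (fun n hn => ?_) (le_inf ?_ (Subgroup.centralizer_le_normalizer _))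
  · by_contra hnc
    have e := h.inverts T (Subgroup.mem_inf.1 hn).2 hnc hyT
    rw [Subgroup.mem_centralizer_singleton_iff.1 (Subgroup.mem_inf.1 hn).1, mul_inv_cancel_right] at e
    have : y ^ 2 = 1 := by rw [sq]; nth_rewrite 2 [e]; exact mul_inv_cancel y
    have := orderOf_dvd_of_pow_eq_one this
    rw [hy] at this
    omega
  · exact Subgroup.centralizer_le (Set.singleton_subset_iff.2 hyT)

theorem four_cases (T : Sylow 3 G) {y : G} (hy : orderOf y = 3) (hyT : y ∈ (T : Subgroup G))
    (hne : Nat.card {Q : Sylow 3 G // y ∈ (Q : Subgroup G)} ≠ 1) :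
    Nat.card {Q : Sylow 3 G // y ∈ (Q : Subgroup G)} = 4 ∧
      Nat.card (Subgroup.centralizer ({y} : Set G)) = 72 := by
  obtain ⟨-, h2, -, -⟩ := containing h.m11 T hy hyT
  rw [h.cent_in_normalizer T hy hyT, h.cent T] at h2
  have h3 := centralizer_three_dvd h.m11 hy
  rcases containing_bound h.m11 T hy hyT with e | e | e
  · exact absurd e hne
  · exact ⟨e, by rw [← h2, e]⟩
  · rw [← h2, e] at h3; norm_num at h3

theorem normalizer_le (T : Sylow 3 G) {d : G} (hd : orderOf d = 2)
    (hdT : d ∈ Subgroup.centralizer ((T : Subgroup G) : Set G)) :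
    Subgroup.normalizer ((T : Subgroup G) : Set G) ≤ Subgroup.centralizer ({d} : Set G) := by
  intro n hn
  have hc := conj_centralizer_smul (g := n) T hdT
  rw [smul_self T hn] at hc
  exact Subgroup.mem_centralizer_singleton_iff.2 (mul_inv_eq_iff_eq_mul.1
    (h.invol_unique T hd hdT (by rw [order_conj, hd]) hc))

theorem shared (T : Sylow 3 G) {d y : G} (hd : orderOf d = 2)
    (hdT : d ∈ Subgroup.centralizer ((T : Subgroup G) : Set G)) (hy : orderOf y = 3) (hyT : y ∈ (T : Subgroup G))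
    {Q : Sylow 3 G} (hQ : y ∈ (Q : Subgroup G)) : d ∈ Subgroup.centralizer ((Q : Subgroup G) : Set G) := by
  by_cases hne : Nat.card {R : Sylow 3 G // y ∈ (R : Subgroup G)} = 1
  · rw [eq_of_containing_one T hyT hne hQ]; exact hdT
  obtain ⟨h4, -⟩ := h.four_cases T hy hyT hne
  have hfix := fix_of_four h.m11 T hyT h4 (by rw [← sq, ← hd, pow_orderOf_eq_one]) hdT hQ
  rw [← h.cent_in_normalizer Q hy hQ]
  exact Subgroup.mem_inf.2 ⟨Subgroup.mem_centralizer_singleton_iff.2
    (Subgroup.mem_centralizer_iff.1 hdT y hyT).symm, Sylow.smul_eq_iff_mem_normalizer.1 hfix⟩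

theorem cent_le (T : Sylow 3 G) {d q : G} (hd : orderOf d = 2)
    (hdT : d ∈ Subgroup.centralizer ((T : Subgroup G) : Set G)) (hq : orderOf q = 3) (hqT : q ∈ (T : Subgroup G)) :
    Subgroup.centralizer ({q} : Set G) ≤ Subgroup.centralizer ({d} : Set G) := by
  intro g hg
  have hgq : g * q = q * g := Subgroup.mem_centralizer_singleton_iff.1 hg
  have hQ : q ∈ ((g • T : Sylow 3 G) : Subgroup G) := by
    refine (mem_smul_sylow T).2 ?_
    rw [mul_assoc, ← hgq, inv_mul_cancel_left]; exact hqT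
  exact Subgroup.mem_centralizer_singleton_iff.2 (mul_inv_eq_iff_eq_mul.1
    (h.invol_unique (g • T) hd (h.shared T hd hdT hq hqT hQ) (by rw [order_conj, hd])
      (conj_centralizer_smul T hdT)))

theorem false : False := by
  classical
  have hG := h.m11
  obtain ⟨T⟩ : Nonempty (Sylow 3 G) := inferInstance
  have h220 : Nat.card (Sylow 3 G) = 220 := by
    have := card_normalizer hG T
    rw [h.norm T] at this; omega
  obtain ⟨y, hy, hyT, hne⟩ := exists_shared hG T (by omega)
  obtain ⟨h4, hC72⟩ := h.four_cases T hy hyT hne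
  obtain ⟨d, hd, hdT⟩ := h.invol_exists T
  set M := Subgroup.centralizer ({d} : Set G) with hM
  have hd2 : d * d = 1 := by rw [← sq, ← hd, pow_orderOf_eq_one]
  have hcentQ : ∀ Q : Sylow 3 G, d ∈ Subgroup.centralizer ((Q : Subgroup G) : Set G) ↔ (Q : Subgroup G) ≤ M := by
    refine fun Q => ⟨fun hh a ha => Subgroup.mem_centralizer_singleton_iff.2 ?_,
      fun hh => Subgroup.mem_centralizer_iff.2 fun a ha => ?_⟩
    · exact Subgroup.mem_centralizer_iff.1 hh a ha
    · exact Subgroup.mem_centralizer_singleton_iff.1 (hh ha)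
  have hTM := (hcentQ T).1 hdT
  have hNM := h.normalizer_le T hd hdT
  obtain ⟨hm, hcard, -⟩ := sylow_count_in T hTM
  rw [show M ⊓ Subgroup.normalizer ((T : Subgroup G) : Set G) = _ from inf_eq_right.2 hNM, h.norm T] at hcard
  set nM := Nat.card {Q : Sylow 3 G // (Q : Subgroup G) ≤ M} with hnM
  have hincl : Function.Injective (fun Q : {Q : Sylow 3 G // y ∈ (Q : Subgroup G)} =>
      (⟨Q.1, (hcentQ Q.1).1 (h.shared T hd hdT hy hyT Q.2)⟩ : {Q : Sylow 3 G // (Q : Subgroup G) ≤ M})) :=
    fun a b e => Subtype.ext (congrArg (fun z : {Q : Sylow 3 G // (Q : Subgroup G) ≤ M} => z.1) e)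
  have hge := Nat.card_le_card_of_injective _ hincl
  rw [h4, ← hnM] at hge
  have hM144 : Nat.card M = 144 ∧ nM = 4 := by
    rcases centralizer_two_cases hG hd with hc | hc | hc <;> rw [← hM] at hc
    · rw [← hcard] at hc
      have hn4 : nM ∣ 4 := Nat.dvd_of_mul_dvd_mul_right (by norm_num : 0 < 36) (by simpa using hc)
      have := Nat.le_of_dvd (by norm_num) hn4
      omega
    · omega
    · omega
  have hall : ∀ Q : Sylow 3 G, (Q : Subgroup G) ≤ M → y ∈ (Q : Subgroup G) := by
    intro Q hQ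
    have hb := ((Nat.bijective_iff_injective_and_card _).2 ⟨hincl, by rw [h4, ← hnM, hM144.2]⟩).2 ⟨Q, hQ⟩
    obtain ⟨R, hR⟩ := hb
    have e : R.1 = Q := congrArg Subtype.val hR
    exact e ▸ R.2
  -- no element of order three of `M` commutes with another conjugate of `d`
  have hfree : ∀ q ∈ M, orderOf q = 3 → ∀ x : G, IsConj d x → x ≠ d → ¬ Commute x q := by
    intro q hqM hq x hx hxd hcomm
    obtain ⟨g, rfl⟩ := isConj_iff.1 hx
    obtain ⟨Q, hqQ, hQM⟩ := exists_sylow_in hG M (by rw [hM144.1]; norm_num) hqM hq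
    have hdQ := (hcentQ Q).2 hQM
    have hq' : g⁻¹ * q * g ∈ M := by
      refine Subgroup.mem_centralizer_singleton_iff.2 ?_
      calc g⁻¹ * q * g * d = g⁻¹ * (q * (g * d * g⁻¹)) * g := by group
        _ = g⁻¹ * ((g * d * g⁻¹) * q) * g := by rw [hcomm.eq]
        _ = d * (g⁻¹ * q * g) := by group
    have hq3 : orderOf (g⁻¹ * q * g) = 3 := by
      rw [show g⁻¹ * q * g = g⁻¹ * q * g⁻¹⁻¹ by group, order_conj, hq]
    obtain ⟨R, hqR, hRM⟩ := exists_sylow_in hG M (by rw [hM144.1]; norm_num) hq' hq3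
    have hq2 : q ∈ ((g • R : Sylow 3 G) : Subgroup G) := (mem_smul_sylow R).2 hqR
    have hx2 : g * d * g⁻¹ ∈ Subgroup.centralizer (((g • R : Sylow 3 G) : Subgroup G) : Set G) :=
      conj_centralizer_smul R ((hcentQ R).2 hRM)
    have hd2' : d ∈ Subgroup.centralizer (((g • R : Sylow 3 G) : Subgroup G) : Set G) :=
      (hcentQ _).2 (le_trans (sylow_le_centralizer hG _ hq2) (h.cent_le Q hd hdQ hq hqQ))
    exact hxd (h.invol_unique _ hd hd2' (by rw [order_conj, hd]) hx2)
  -- the subgroup generated by `y` is normal in `M`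
  set Y := Subgroup.zpowers y with hY
  have hY3 : Nat.card Y = 3 := by rw [hY, Nat.card_zpowers, hy]
  obtain ⟨Q₀, hQ₀y, hQ₀T⟩ : ∃ Q : Sylow 3 G, y ∈ (Q : Subgroup G) ∧ Q ≠ T := by
    by_contra hh; push Not at hh
    exact hne (Nat.card_eq_one_iff_unique.2
      ⟨⟨fun a b => Subtype.ext ((hh a.1 a.2).trans (hh b.1 b.2).symm)⟩, ⟨⟨T, hyT⟩⟩⟩)
  have hQ₀M := (hcentQ Q₀).1 (h.shared T hd hdT hy hyT hQ₀y)
  have hYeq : Y = (T : Subgroup G) ⊓ (Q₀ : Subgroup G) := by
    refine Subgroup.eq_of_le_of_card_ge ((Subgroup.zpowers_le).2 (Subgroup.mem_inf.2 ⟨hyT, hQ₀y⟩)) ?_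
    rw [hY3]
    have hdvd := Subgroup.card_dvd_of_le (inf_le_left : (T : Subgroup G) ⊓ (Q₀ : Subgroup G) ≤ _)
    rw [card_sylow_three hG T] at hdvd
    have hne9 : Nat.card ↥((T : Subgroup G) ⊓ (Q₀ : Subgroup G)) ≠ 9 := fun e9 => hQ₀T (by
      have e1 := Subgroup.eq_of_le_of_card_ge (inf_le_left : (T : Subgroup G) ⊓ (Q₀ : Subgroup G) ≤ _)
        (by rw [card_sylow_three hG T, e9])
      exact (Sylow.ext (Subgroup.eq_of_le_of_card_ge (e1 ▸ inf_le_right)
        (by rw [card_sylow_three hG T, card_sylow_three hG Q₀]))).symm)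
    obtain ⟨k, hk2, hk⟩ := (Nat.dvd_prime_pow Nat.prime_three).1 (show _ ∣ 3 ^ 2 by simpa using hdvd)
    rcases (show k = 0 ∨ k = 1 ∨ k = 2 by omega) with rfl | rfl | rfl
    · exact le_of_eq_of_le hk (by norm_num)
    · exact hk.le
    · exact absurd hk hne9
  have hYconj : ∀ g ∈ M, ∀ q ∈ Y, g * q * g⁻¹ ∈ Y := by
    intro g hg
    have hgy : g * y * g⁻¹ ∈ Y := by
      have hsm : ∀ R : Sylow 3 G, (R : Subgroup G) ≤ M → g * y * g⁻¹ ∈ (R : Subgroup G) := by
        intro R hR
        have hR' : ((g⁻¹ • R : Sylow 3 G) : Subgroup G) ≤ M := by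
          intro a ha
          have ha' := hR ((mem_smul_sylow R).1 ha)
          have : a = g⁻¹ * (g⁻¹⁻¹ * a * g⁻¹) * g := by group
          rw [this]; exact mul_mem (mul_mem (inv_mem hg) ha') hg
        have := (mem_smul_sylow R).1 (hall _ hR')
        rwa [inv_inv] at this
      rw [hYeq]; exact Subgroup.mem_inf.2 ⟨hsm T hTM, hsm Q₀ hQ₀M⟩
    intro q hq
    obtain ⟨i, rfl⟩ := Subgroup.mem_zpowers_iff.1 hq
    rw [← conj_zpow]; exact zpow_mem hgy i
  have hYM : Y ≤ M := (Subgroup.zpowers_le).2 (hTM hyT)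
  have hCyM : Subgroup.centralizer ({y} : Set G) ≤ M := h.cent_le T hd hdT hy hyT
  -- the conjugates of `d` commuting with it
  haveI : Fintype (ConjSet d) := Fintype.ofFinite _
  have h55 : Fintype.card (ConjSet d) = 55 := by
    have := card_conjSet d
    rw [← hM, hM144.1, hG.2] at this
    rw [← Nat.card_eq_fintype_card]; omega
  set d₀ : ConjSet d := ⟨d, IsConj.refl d⟩ with hd₀
  set Γ : Finset (ConjSet d) := Finset.univ.filter fun x => Commute x.1 d ∧ x.1 ≠ d with hΓ
  have hmemΓ : ∀ x, x ∈ Γ ↔ Commute x.1 d ∧ x.1 ≠ d := fun x => by simp [hΓ]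
  have hΓM : ∀ x ∈ Γ, x.1 ∈ M := fun x hx => Subgroup.mem_centralizer_singleton_iff.2 ((hmemΓ x).1 hx).1.eq
  have hsq : ∀ x : ConjSet d, x.1 * x.1 = 1 := fun x => by
    obtain ⟨g, hg⟩ := isConj_iff.1 x.2
    rw [← hg]; calc g * d * g⁻¹ * (g * d * g⁻¹) = g * (d * d) * g⁻¹ := by group
      _ = 1 := by rw [hd2]; group
  have hMΓ : ∀ g ∈ M, ∀ x ∈ Γ, g • x ∈ Γ := by
    intro g hg x hx
    have e : g * d * g⁻¹ = d := mul_inv_eq_iff_eq_mul.2 (Subgroup.mem_centralizer_singleton_iff.1 hg)
    refine (hmemΓ _).2 ⟨?_, ?_⟩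
    · have := ((hmemΓ x).1 hx).1.map (MulAut.conj g).toMonoidHom
      change Commute (g * x.1 * g⁻¹) (g * d * g⁻¹) at this
      simpa only [smul_conjSet, e] using this
    · rw [smul_conjSet]; intro e'
      exact ((hmemΓ x).1 hx).2 (mul_left_cancel (mul_right_cancel (e'.trans e.symm)))
  -- parity and the free action of `T`
  have hfixcard : Nat.card (fixedBy (ConjSet d) d) = Γ.card + 1 := by
    rw [Nat.card_eq_fintype_card, ← Set.toFinset_card]
    have e : (fixedBy (ConjSet d) d).toFinset = insert d₀ Γ := by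
      ext x
      rw [Set.mem_toFinset, mem_fixedBy, Finset.mem_insert, hmemΓ]
      constructor
      · intro e
        have e' : d * x.1 * d⁻¹ = x.1 := congrArg (fun z : ConjSet d => z.1) e
        by_cases hx : x.1 = d
        · exact Or.inl (Subtype.ext hx)
        · exact Or.inr ⟨(mul_inv_eq_iff_eq_mul.1 e').symm, hx⟩
      · intro e
        refine Subtype.ext ?_
        rw [smul_conjSet]
        rcases e with rfl | ⟨e, -⟩
        · show d * d * d⁻¹ = d; group
        · rw [← e.eq]; group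
    rw [e, Finset.card_insert_of_notMem (fun hh => ((hmemΓ _).1 hh).2 rfl)]
  have h9Γ : 9 ∣ Γ.card := by
    letI : MulAction (T : Subgroup G) {x // x ∈ Γ} :=
      { smul := fun a x => ⟨(a : G) • x.1, hMΓ a (hTM a.2) x.1 x.2⟩
        one_smul := fun x => Subtype.ext (one_smul G x.1)
        mul_smul := fun a b x => Subtype.ext (mul_smul (a : G) (b : G) x.1) }
    have hfree' : ∀ x : {x // x ∈ Γ}, MulAction.stabilizer (T : Subgroup G) x = ⊥ := by
      intro x
      by_contra hne'
      have hdvd : 3 ∣ Nat.card (MulAction.stabilizer (T : Subgroup G) x) := by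
        have h9 := Subgroup.card_subgroup_dvd_card (MulAction.stabilizer (T : Subgroup G) x)
        rw [card_sylow_three hG T] at h9
        obtain ⟨k, -, hk⟩ := (Nat.dvd_prime_pow Nat.prime_three).1 (show _ ∣ 3 ^ 2 by simpa using h9)
        rcases k with _ | k
        · exact absurd (Subgroup.card_eq_one.1 (by simpa using hk)) hne'
        · exact (dvd_pow_self 3 (by omega : k + 1 ≠ 0)).trans (dvd_of_eq hk.symm)
      obtain ⟨s, hs⟩ := exists_prime_orderOf_dvd_card' 3 hdvd
      have hso : orderOf ((s : (T : Subgroup G)) : G) = 3 := by rw [Subgroup.orderOf_coe, Subgroup.orderOf_coe, hs]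
      have e : ((s : (T : Subgroup G)) : G) * x.1.1 * ((s : (T : Subgroup G)) : G)⁻¹ = x.1.1 :=
        congrArg (fun z : {x // x ∈ Γ} => z.1.1) (mem_stabilizer_iff.1 s.2)
      exact hfree _ (hTM (s : (T : Subgroup G)).2) hso _ x.1.2 ((hmemΓ _).1 x.2).2
        (mul_inv_eq_iff_eq_mul.1 e).symm
    have e := Nat.card_congr (MulAction.selfEquivOrbitsQuotientProd hfree')
    rw [Nat.card_prod, card_sylow_three hG T, Nat.card_eq_fintype_card, Fintype.card_coe] at e
    exact ⟨_, e.trans (mul_comm _ _)⟩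
  have hΓ18 : Γ.card = 18 := by
    obtain ⟨j, hj⟩ := moved_div_four (perfect hG) (Ω := ConjSet d) d hd2
    rw [hfixcard, Nat.card_eq_fintype_card, h55] at hj
    have hlt : Γ.card ≠ 54 := by
      intro h54
      have huniv : ∀ x : ConjSet d, d • x = x := by
        intro x
        by_contra hx
        have : Nat.card (fixedBy (ConjSet d) d) < Nat.card (ConjSet d) := by
          rw [Nat.card_eq_fintype_card, Nat.card_eq_fintype_card]
          exact Fintype.card_subtype_lt hx
        rw [hfixcard, Nat.card_eq_fintype_card, h55] at this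
        omega
      obtain ⟨x, hx⟩ : Γ.Nonempty := Finset.card_pos.1 (by omega)
      obtain ⟨g, hg⟩ := isConj_iff.1 x.2
      have hd1 := faithful hG (a := d₀) (g := g) (fun e => ((hmemΓ x).1 hx).2 (by
        rw [← hg]; exact congrArg (fun z : ConjSet d => z.1) e)) huniv
      rw [hd1, orderOf_one] at hd; omega
    obtain ⟨m, hm⟩ := h9Γ
    omega
  -- elements of `Γ` invert `y`
  have hinv : ∀ x ∈ Γ, x.1 * y * x.1 = y⁻¹ := by
    intro x hx
    have hxinv : x.1⁻¹ = x.1 := inv_eq_of_mul_eq_one_right (hsq x)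
    have hmem := hYconj x.1 (hΓM x hx) y (Subgroup.mem_zpowers y)
    rw [hxinv] at hmem
    obtain ⟨i, hi, hi'⟩ : ∃ i : ℕ, i < 3 ∧ y ^ i = x.1 * y * x.1 := by
      obtain ⟨i, hi⟩ := (mem_powers_iff_mem_zpowers.2 hmem)
      refine ⟨i % 3, Nat.mod_lt _ (by norm_num), ?_⟩
      rw [← hy, pow_mod_orderOf]; exact hi
    interval_cases i
    · exfalso
      rw [pow_zero] at hi'
      have : y = 1 := by
        calc y = x.1 * (x.1 * y * x.1) * x.1 := by
              rw [show x.1 * (x.1 * y * x.1) * x.1 = (x.1 * x.1) * y * (x.1 * x.1) by group, hsq, one_mul, mul_one]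
          _ = 1 := by rw [← hi', mul_one, hsq]
      rw [this, orderOf_one] at hy; omega
    · exfalso
      rw [pow_one] at hi'
      refine hfree y (hTM hyT) hy x.1 x.2 ((hmemΓ x).1 hx).2 ?_
      show x.1 * y = y * x.1
      calc x.1 * y = x.1 * y * x.1 * x.1 := by rw [mul_assoc _ x.1 x.1, hsq, mul_one]
        _ = y * x.1 := by rw [← hi']
    · rw [← hi']
      exact eq_inv_of_mul_eq_one_left (by rw [← pow_succ, show 2 + 1 = 3 from rfl, ← hy, pow_orderOf_eq_one])
  have hy3 : y ^ 3 = 1 := hy ▸ pow_orderOf_eq_one y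
  -- cosets of `Y`
  set f : ConjSet d → G ⧸ Y := fun x => (x.1 : G ⧸ Y) with hf
  have hfeq : ∀ a b : ConjSet d, f a = f b ↔ a.1 * b.1 ∈ Y := fun a b => by
    rw [hf]; simp only [QuotientGroup.eq, inv_eq_of_mul_eq_one_right (hsq a)]
  have hfib : ∀ x ∈ Γ, (Γ.filter fun x' => f x' = f x).card = 3 := by
    intro x hx
    apply le_antisymm
    · haveI : Fintype Y := Fintype.ofFinite _
      rw [← show (Finset.univ : Finset Y).card = 3 by rw [Finset.card_univ, ← Nat.card_eq_fintype_card, hY3]]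
      refine Finset.card_le_card_of_injOn (fun x' => if hx' : x.1 * x'.1 ∈ Y then (⟨_, hx'⟩ : Y) else 1)
        (fun _ _ => Finset.mem_univ _) ?_
      intro a ha b hb e
      have ha' := (hfeq x a).1 (Finset.mem_filter.1 (Finset.mem_coe.1 ha)).2.symm
      have hb' := (hfeq x b).1 (Finset.mem_filter.1 (Finset.mem_coe.1 hb)).2.symm
      simp only [dif_pos ha', dif_pos hb', Subtype.mk.injEq] at e
      exact Subtype.ext (mul_left_cancel e)
    · have hsub : ((Finset.range 3).image fun i : ℕ => (y ^ i) • x) ⊆ Γ.filter fun x' => f x' = f x := by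
        intro x' hx'
        obtain ⟨i, -, rfl⟩ := Finset.mem_image.1 hx'
        refine Finset.mem_filter.2 ⟨hMΓ _ (pow_mem (hTM hyT) i) x hx, ((hfeq x _).2 ?_).symm⟩
        rw [smul_conjSet]
        have e1 : x.1 * y ^ i * x.1 = (y ^ i)⁻¹ := by
          have hxi : x.1⁻¹ = x.1 := inv_eq_of_mul_eq_one_right (hsq x)
          have h1 : (x.1 * y * x.1⁻¹) ^ i = x.1 * y ^ i * x.1⁻¹ := conj_pow
          rw [hxi] at h1
          rw [← h1, hinv x hx, inv_pow]
        rw [show x.1 * (y ^ i * x.1 * (y ^ i)⁻¹) = (x.1 * y ^ i * x.1) * (y ^ i)⁻¹ by group, e1]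
        exact mul_mem (inv_mem (pow_mem (Subgroup.mem_zpowers y) i)) (inv_mem (pow_mem (Subgroup.mem_zpowers y) i))
      refine le_trans ?_ (Finset.card_le_card hsub)
      rw [Finset.card_image_of_injOn, Finset.card_range]
      intro i hi j hj e
      have hi' := Finset.mem_range.1 hi
      have hj' := Finset.mem_range.1 hj
      by_contra hij
      have key : ∀ k, 0 < k → k < 3 → ¬ Commute x.1 (y ^ k) := by
        intro k hk0 hk3
        refine hfree _ (pow_mem (hTM hyT) k) ?_ x.1 x.2 ((hmemΓ x).1 hx).2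
        rw [orderOf_pow' _ (by omega), hy]
        interval_cases k <;> norm_num
      rcases lt_or_gt_of_ne hij with hlt | hlt
      · refine key (j - i) (by omega) (by omega) ?_
        have e' : y ^ i • x = y ^ i • (y ^ (j - i) • x) := by
          rw [← mul_smul, ← pow_add, Nat.add_sub_cancel' hlt.le]; exact e
        have e'' : y ^ (j - i) * x.1 * (y ^ (j - i))⁻¹ = x.1 :=
          congrArg (fun z : ConjSet d => z.1) (smul_left_cancel _ e').symm
        exact (mul_inv_eq_iff_eq_mul.1 e'').symm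
      · refine key (i - j) (by omega) (by omega) ?_
        have e' : y ^ j • x = y ^ j • (y ^ (i - j) • x) := by
          rw [← mul_smul, ← pow_add, Nat.add_sub_cancel' hlt.le]; exact e.symm
        have e'' : y ^ (i - j) * x.1 * (y ^ (i - j))⁻¹ = x.1 :=
          congrArg (fun z : ConjSet d => z.1) (smul_left_cancel _ e').symm
        exact (mul_inv_eq_iff_eq_mul.1 e'').symm
  have himg : (Γ.image f).card = 6 := by
    have := Finset.card_eq_sum_card_image f Γ
    have h3 : ∀ b ∈ Γ.image f, (Γ.filter fun a => f a = b).card = 3 := fun b hb => by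
      obtain ⟨x, hx, rfl⟩ := Finset.mem_image.1 hb
      exact hfib x hx
    rw [hΓ18, Finset.sum_congr rfl h3, Finset.sum_const, smul_eq_mul] at this
    omega
  set Out : Finset (ConjSet d) := Finset.univ \ insert d₀ Γ with hOut
  have hOutcard : Out.card = 36 := by
    rw [hOut, Finset.card_sdiff_of_subset (Finset.subset_univ _), Finset.card_univ, h55,
      Finset.card_insert_of_notMem (fun hh => ((hmemΓ _).1 hh).2 rfl), hΓ18]
  have hA : ∀ z ∈ Out, (Γ.filter fun x => Commute x.1 z.1).card ≤ 6 := by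
    intro z hz
    rw [← himg]
    refine Finset.card_le_card_of_injOn f (fun x hx => Finset.mem_image_of_mem f (Finset.mem_filter.1 hx).1) ?_
    intro a ha b hb e
    obtain ⟨haΓ, haz⟩ := Finset.mem_filter.1 (Finset.mem_coe.1 ha)
    obtain ⟨hbΓ, hbz⟩ := Finset.mem_filter.1 (Finset.mem_coe.1 hb)
    by_contra hab
    have hq := (hfeq a b).1 e
    have hq1 : a.1 * b.1 ≠ 1 := fun e' => hab (Subtype.ext (by
      calc a.1 = a.1 * (b.1 * b.1) := by rw [hsq, mul_one]
        _ = b.1 := by rw [← mul_assoc, e', one_mul]))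
    have hq3 : orderOf (a.1 * b.1) = 3 := by
      have := Subgroup.orderOf_dvd_natCard Y hq
      rw [hY3] at this
      exact ((Nat.dvd_prime Nat.prime_three).1 this).resolve_left fun e' => hq1 (orderOf_eq_one_iff.1 e')
    have hzM : z.1 ∈ M := h.cent_le T hd hdT hq3 (((Subgroup.zpowers_le).2 hyT) hq)
      (Subgroup.mem_centralizer_singleton_iff.2 ((haz.mul_left hbz).eq.symm))
    refine (Finset.mem_sdiff.1 hz).2 (Finset.mem_insert.2 ?_)
    by_cases hzd : z.1 = d
    · exact Or.inl (Subtype.ext hzd)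
    · exact Or.inr ((hmemΓ z).2 ⟨Subgroup.mem_centralizer_singleton_iff.1 hzM, hzd⟩)
  have hnbr : ∀ x : ConjSet d, (Finset.univ.filter fun z : ConjSet d => Commute x.1 z.1 ∧ z ≠ x).card = 18 := by
    intro x
    obtain ⟨g, hg⟩ := isConj_iff.1 x.2
    have hgd : g • d₀ = x := Subtype.ext hg
    rw [← hΓ18]
    refine Finset.card_bij (fun z _ => g⁻¹ • z) ?_ (fun a _ b _ e => smul_left_cancel _ e) ?_
    · intro z hz
      obtain ⟨-, hc, hne'⟩ := Finset.mem_filter.1 hz
      refine (hmemΓ _).2 ⟨?_, fun e => hne' ?_⟩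
      · have := hc.symm.map (MulAut.conj g⁻¹).toMonoidHom
        simpa [smul_conjSet, ← hg, mul_assoc] using this
      · have : g⁻¹ • z = d₀ := Subtype.ext e
        rw [← hgd, ← this, smul_inv_smul]
    · intro z hz
      refine ⟨g • z, Finset.mem_filter.2 ⟨Finset.mem_univ _, ?_, ?_⟩, inv_smul_smul g z⟩
      · have := (((hmemΓ z).1 hz).1.map (MulAut.conj g).toMonoidHom).symm
        simpa [smul_conjSet, ← hg, mul_assoc] using this
      · intro e
        exact ((hmemΓ z).1 hz).2 (congrArg (fun z : ConjSet d => z.1) (smul_left_cancel g (e.trans hgd.symm)))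
  set B : ConjSet d → Finset (ConjSet d) := fun x => Γ.filter fun z => Commute x.1 z.1 ∧ z ≠ x with hB
  have hBinj : ∀ x ∈ Γ, Set.InjOn f ↑(B x) ∧ (B x).image f ⊆ (Γ.image f).erase (f x) := by
    intro x hx
    have key : ∀ a ∈ Γ, ∀ b ∈ Γ, Commute a.1 x.1 → Commute b.1 x.1 → f a = f b → a = b := by
      intro a ha b hb hax hbx e
      by_contra hab
      have hq := (hfeq a b).1 e
      have hq3 : orderOf (a.1 * b.1) = 3 := by
        have := Subgroup.orderOf_dvd_natCard Y hq
        rw [hY3] at this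
        refine ((Nat.dvd_prime Nat.prime_three).1 this).resolve_left fun e' => hab (Subtype.ext ?_)
        calc a.1 = a.1 * (b.1 * b.1) := by rw [hsq, mul_one]
          _ = b.1 := by rw [← mul_assoc, orderOf_eq_one_iff.1 e', one_mul]
      exact hfree _ (hYM hq) hq3 x.1 x.2 ((hmemΓ x).1 hx).2 (hax.mul_left hbx).symm
    refine ⟨fun a ha b hb e => ?_, fun c hc => ?_⟩
    · obtain ⟨haΓ, hax, -⟩ := Finset.mem_filter.1 (Finset.mem_coe.1 ha)
      obtain ⟨hbΓ, hbx, -⟩ := Finset.mem_filter.1 (Finset.mem_coe.1 hb)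
      exact key a haΓ b hbΓ hax.symm hbx.symm e
    · obtain ⟨a, ha, rfl⟩ := Finset.mem_image.1 hc
      obtain ⟨haΓ, hax, hane⟩ := Finset.mem_filter.1 ha
      refine Finset.mem_erase.2 ⟨fun e => hane ?_, Finset.mem_image_of_mem f haΓ⟩
      exact key a haΓ x hx hax.symm (Commute.refl _) e
  have hBle : ∀ x ∈ Γ, (B x).card ≤ 5 := by
    intro x hx
    have := Finset.card_le_card (hBinj x hx).2
    rw [Finset.card_image_of_injOn (hBinj x hx).1, Finset.card_erase_of_mem (Finset.mem_image_of_mem f hx), himg] at this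
    exact this
  have hsplit : ∀ x ∈ Γ, (B x).card + (Out.filter fun z => Commute x.1 z.1).card = 17 := by
    intro x hx
    have hx18 := hnbr x
    have e : (Finset.univ.filter fun z : ConjSet d => Commute x.1 z.1 ∧ z ≠ x) =
        insert d₀ (B x ∪ Out.filter fun z => Commute x.1 z.1) := by
      ext z
      simp only [hB, hOut, Finset.mem_filter, Finset.mem_univ, true_and, Finset.mem_insert, Finset.mem_union,
        Finset.mem_sdiff, not_or]
      constructor
      · rintro ⟨hc, hne'⟩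
        by_cases hz0 : z = d₀
        · exact Or.inl hz0
        by_cases hzΓ : z ∈ Γ
        · exact Or.inr (Or.inl ⟨hzΓ, hc, hne'⟩)
        · exact Or.inr (Or.inr ⟨⟨hz0, hzΓ⟩, hc⟩)
      · rintro (rfl | ⟨-, hc, hne'⟩ | ⟨⟨-, hzΓ⟩, hc⟩)
        · exact ⟨((hmemΓ x).1 hx).1, fun e => ((hmemΓ x).1 hx).2 (congrArg (fun z : ConjSet d => z.1) e).symm⟩
        · exact ⟨hc, hne'⟩
        · exact ⟨hc, fun e => hzΓ (e ▸ hx)⟩
    rw [e, Finset.card_insert_of_notMem, Finset.card_union_of_disjoint] at hx18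
    · omega
    · refine Finset.disjoint_left.2 fun z hz hz' => ?_
      exact (Finset.mem_sdiff.1 (Finset.mem_filter.1 hz').1).2 (Finset.mem_insert_of_mem (Finset.mem_filter.1 hz).1)
    · intro hh
      rcases Finset.mem_union.1 hh with hh | hh
      · exact ((hmemΓ _).1 (Finset.mem_filter.1 hh).1).2 rfl
      · exact (Finset.mem_sdiff.1 (Finset.mem_filter.1 hh).1).2 (Finset.mem_insert_self _ _)
  have hB5 : ∀ x ∈ Γ, (B x).card = 5 := by
    intro x hx
    refine le_antisymm (hBle x hx) ?_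
    by_contra hlt
    have h1 : ∀ z ∈ Γ, 12 ≤ (Out.filter fun w => Commute z.1 w.1).card := fun z hz => by
      have := hsplit z hz; have := hBle z hz; omega
    have h2 : ∑ _z ∈ Γ, 12 < ∑ z ∈ Γ, (Out.filter fun w => Commute z.1 w.1).card :=
      Finset.sum_lt_sum h1 ⟨x, hx, by have := hsplit x hx; omega⟩
    have h3 : ∑ z ∈ Γ, (Out.filter fun w => Commute z.1 w.1).card =
        ∑ w ∈ Out, (Γ.filter fun z => Commute z.1 w.1).card := by
      simp only [Finset.card_filter]
      exact Finset.sum_comm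
    have h4' := Finset.sum_le_card_nsmul Out (fun w => (Γ.filter fun z => Commute z.1 w.1).card) 6 hA
    rw [Finset.sum_const, hΓ18] at h2
    rw [hOutcard] at h4'
    simp only [smul_eq_mul] at h2 h4'
    omega
  -- pass to the quotient of `M` by `Y`
  set Ym := Y.subgroupOf M with hYm
  haveI hYn : Ym.Normal := ⟨fun a ha g => Subgroup.mem_subgroupOf.2 (hYconj g g.2 a (Subgroup.mem_subgroupOf.1 ha))⟩
  set π : M →* M ⧸ Ym := QuotientGroup.mk' Ym with hπ
  have hπeq : ∀ a b : M, π a = π b ↔ (a : G)⁻¹ * b ∈ Y := fun a b => by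
    rw [hπ, QuotientGroup.mk'_apply, QuotientGroup.mk'_apply, QuotientGroup.eq, Subgroup.mem_subgroupOf]; rfl
  let im : {x // x ∈ Γ} → M ⧸ Ym := fun x => π ⟨x.1.1, hΓM x.1 x.2⟩
  have himeq : ∀ a b : {x // x ∈ Γ}, im a = im b ↔ f a.1 = f b.1 := fun a b => by
    rw [hπeq, hfeq, inv_eq_of_mul_eq_one_right (hsq a.1)]
  have hcomm : ∀ a b : {x // x ∈ Γ}, Commute (im a) (im b) := by
    intro a b
    by_cases hab : f b.1 = f a.1
    · rw [(himeq b a).2 hab]
    have hmem : f b.1 ∈ (B a.1).image f := by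
      have e := Finset.eq_of_subset_of_card_le (hBinj a.1 a.2).2 (by
        rw [Finset.card_image_of_injOn (hBinj a.1 a.2).1, hB5 a.1 a.2,
          Finset.card_erase_of_mem (Finset.mem_image_of_mem f a.2), himg])
      rw [e]
      exact Finset.mem_erase.2 ⟨hab, Finset.mem_image_of_mem f b.2⟩
    obtain ⟨c, hc, hcb⟩ := Finset.mem_image.1 hmem
    obtain ⟨hcΓ, hca, -⟩ := Finset.mem_filter.1 hc
    rw [← (himeq ⟨c, hcΓ⟩ b).2 hcb]
    refine Commute.map ?_ π
    exact Subtype.ext hca.eq
  set E : Subgroup (M ⧸ Ym) := Subgroup.closure (Set.range im) with hE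
  have hEcomm : ∀ a ∈ E, ∀ b ∈ E, a * b = b * a := by
    intro a ha b hb
    have hle : E ≤ Subgroup.centralizer (E : Set (M ⧸ Ym)) := by
      rw [hE, Subgroup.centralizer_closure, Subgroup.closure_le]
      rintro _ ⟨u, rfl⟩
      exact Subgroup.mem_centralizer_iff.2 (by rintro _ ⟨v, rfl⟩; exact (hcomm v u).eq)
    exact (Subgroup.mem_centralizer_iff.1 (hle ha) b hb).symm
  have hEsq : ∀ a ∈ E, a ^ 2 = 1 := by
    intro a ha
    refine Subgroup.closure_induction (p := fun a _ => a ^ 2 = 1) ?_ (one_pow _) ?_ ?_ ha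
    · rintro _ ⟨u, rfl⟩
      show π _ ^ 2 = 1
      rw [← map_pow, sq]
      convert map_one π
      exact Subtype.ext (hsq u.1)
    · intro u v hu hv hu2 hv2
      rw [(show Commute u v from hEcomm u hu v hv).mul_pow, hu2, hv2, one_mul]
    · intro u _ hu2
      rw [inv_pow, hu2, inv_one]
  have hcardQ : Nat.card (M ⧸ Ym) = 48 := by
    have := Ym.index_mul_card
    rw [Nat.card_congr (Subgroup.subgroupOfEquivOfLe hYM).toEquiv, hY3, hM144.1] at this
    show Ym.index = 48
    omega
  have hE16 : Nat.card E = 16 := by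
    obtain ⟨k, hk⟩ := IsPGroup.exists_card_eq (p := 2) (G := E)
      (fun a => ⟨1, Subtype.ext (by rw [SubmonoidClass.coe_pow, pow_one]; exact hEsq a a.2)⟩)
    have hd48 := Subgroup.card_subgroup_dvd_card E
    rw [hcardQ, hk] at hd48
    have hk4 : k ≤ 4 := by
      by_contra hh
      have : 2 ^ 5 ∣ 48 := (pow_dvd_pow 2 (by omega)).trans hd48
      norm_num at this
    set M0 : Subgroup (M ⧸ Ym) := ((Subgroup.centralizer ({y} : Set G)).subgroupOf M).map π with hM0
    have hout : ∀ u, im u ∉ M0 := by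
      intro u hu
      obtain ⟨c, hc, hc'⟩ := Subgroup.mem_map.1 hu
      have hc1 : (c : G) * y = y * c := Subgroup.mem_centralizer_singleton_iff.1 (Subgroup.mem_subgroupOf.1 hc)
      have hq : (c : G)⁻¹ * u.1.1 ∈ Y := (hπeq c ⟨u.1.1, hΓM u.1 u.2⟩).1 hc'
      have hu' : Commute u.1.1 y := by
        have h1 : Commute ((c : G) * ((c : G)⁻¹ * u.1.1)) y := by
          refine Commute.mul_left hc1 ?_
          obtain ⟨i, hi⟩ := Subgroup.mem_zpowers_iff.1 hq
          rw [← hi]
          exact Commute.zpow_left (Commute.refl y) i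
        rwa [mul_inv_cancel_left] at h1
      exact hfree y (hTM hyT) hy u.1.1 u.1.2 ((hmemΓ _).1 u.2).2 hu'
    haveI : Fintype E := Fintype.ofFinite _
    obtain ⟨x₀, hx₀⟩ : Γ.Nonempty := Finset.card_pos.1 (by omega)
    let e₀ : E := ⟨im ⟨x₀, hx₀⟩, Subgroup.subset_closure ⟨_, rfl⟩⟩
    let emb : {x // x ∈ Γ} → E := fun u => ⟨im u, Subgroup.subset_closure ⟨u, rfl⟩⟩
    set S6 : Finset E := Finset.univ.image emb with hS6
    have hS6c : S6.card = 6 := by
      have e1 : (Finset.univ.image im).card = 6 := by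
        rw [← himg]
        refine Finset.card_bij' (fun c hc => f (Classical.choose (Finset.mem_image.1 hc)).1)
          (fun c hc => im ⟨Classical.choose (Finset.mem_image.1 hc), (Classical.choose_spec (Finset.mem_image.1 hc)).1⟩)
          ?_ ?_ ?_ ?_
        · intro c hc
          exact Finset.mem_image_of_mem f (Classical.choose (Finset.mem_image.1 hc)).2
        · intro c hc
          exact Finset.mem_image_of_mem im (Finset.mem_univ _)
        · intro c hc
          have hmem2 : f (Classical.choose (Finset.mem_image.1 hc)).1 ∈ Γ.image f :=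
            Finset.mem_image_of_mem f (Classical.choose (Finset.mem_image.1 hc)).2
          conv_rhs => rw [← (Classical.choose_spec (Finset.mem_image.1 hc)).2]
          exact (himeq _ _).2 (Classical.choose_spec (Finset.mem_image.1 hmem2)).2
        · intro c hc
          have hmem2 : im ⟨Classical.choose (Finset.mem_image.1 hc),
              (Classical.choose_spec (Finset.mem_image.1 hc)).1⟩ ∈ Finset.univ.image im :=
            Finset.mem_image_of_mem im (Finset.mem_univ _)
          conv_rhs => rw [← (Classical.choose_spec (Finset.mem_image.1 hc)).2]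
          exact (himeq _ _).1 (Classical.choose_spec (Finset.mem_image.1 hmem2)).2
      rw [← e1]
      exact Finset.card_bij (fun c _ => c.1)
        (fun c hc => by
          obtain ⟨u, -, rfl⟩ := Finset.mem_image.1 hc
          exact Finset.mem_image_of_mem im (Finset.mem_univ u))
        (fun a _ b _ e => Subtype.ext e)
        (fun c hc => by
          obtain ⟨u, -, rfl⟩ := Finset.mem_image.1 hc
          exact ⟨emb u, Finset.mem_image_of_mem emb (Finset.mem_univ u), rfl⟩)
    have hM0i : M0.index = 2 := by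
      have hci : ((Subgroup.centralizer ({y} : Set G)).subgroupOf M).index = 2 := by
        have := ((Subgroup.centralizer ({y} : Set G)).subgroupOf M).index_mul_card
        rw [Nat.card_congr (Subgroup.subgroupOfEquivOfLe hCyM).toEquiv, hC72, hM144.1] at this
        omega
      rw [hM0, Subgroup.index_map_eq _ (QuotientGroup.mk'_surjective Ym), hci]
      rw [QuotientGroup.ker_mk']
      intro a ha
      refine Subgroup.mem_subgroupOf.2 (Subgroup.mem_centralizer_singleton_iff.2 ?_)
      obtain ⟨i, hi⟩ := Subgroup.mem_zpowers_iff.1 (Subgroup.mem_subgroupOf.1 ha)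
      rw [← hi]; exact ((Commute.refl y).zpow_left i).eq
    have hprod : ∀ u, im ⟨x₀, hx₀⟩ * im u ∈ M0 := fun u =>
      (Subgroup.mul_mem_iff_of_index_two hM0i).2 (iff_of_false (hout _) (hout u))
    have hdisj : Disjoint S6 (S6.image fun c => e₀ * c) := by
      refine Finset.disjoint_left.2 fun c hc hc' => ?_
      obtain ⟨u, -, rfl⟩ := Finset.mem_image.1 hc
      obtain ⟨c', hc1, hc2⟩ := Finset.mem_image.1 hc'
      obtain ⟨v, -, rfl⟩ := Finset.mem_image.1 hc1
      refine hout u ?_
      have e := congrArg Subtype.val hc2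
      change im ⟨x₀, hx₀⟩ * im v = im u at e
      rw [← e]; exact hprod v
    have h12 := Finset.card_le_univ (S6 ∪ S6.image fun c => e₀ * c)
    rw [Finset.card_union_of_disjoint hdisj, Finset.card_image_of_injective _ (mul_right_injective e₀), hS6c,
      ← Nat.card_eq_fintype_card, hk] at h12
    rw [hk]
    interval_cases k <;> omega
  -- the final commutator
  haveI hEn : E.Normal := by
    refine ⟨fun a ha g => ?_⟩
    obtain ⟨g, rfl⟩ := QuotientGroup.mk'_surjective Ym g
    have hle : E ≤ E.comap (MulAut.conj (π g)).toMonoidHom := by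
      rw [hE, Subgroup.closure_le]
      rintro _ ⟨u, rfl⟩
      refine Subgroup.subset_closure ⟨⟨(g : G) • u.1, hMΓ _ g.2 _ u.2⟩, ?_⟩
      show π _ = π g * π _ * (π g)⁻¹
      rw [← map_inv, ← map_mul, ← map_mul]
      rfl
    exact hle ha
  obtain ⟨n, hnN, hnC⟩ := h.exists_inverter T
  obtain ⟨t, htT, htY⟩ : ∃ t ∈ (T : Subgroup G), t ∉ Y := by
    by_contra hh; push Not at hh
    have := Subgroup.card_dvd_of_le (show (T : Subgroup G) ≤ Y from hh)
    rw [card_sylow_three hG T, hY3] at this; omega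
  set tb : M := ⟨t, hTM htT⟩ with htb
  set nb : M := ⟨n, hNM hnN⟩ with hnb
  have hcomE : π nb * π tb * (π nb)⁻¹ * (π tb)⁻¹ ∈ E := by
    haveI : Fact (Nat.Prime 3) := inferInstance
    have h3 : Nat.card ((M ⧸ Ym) ⧸ E) = 3 := by
      have := E.index_mul_card
      rw [hE16, hcardQ] at this
      show E.index = 3
      omega
    haveI : IsCyclic ((M ⧸ Ym) ⧸ E) := isCyclic_of_prime_card h3
    letI : CommGroup ((M ⧸ Ym) ⧸ E) := IsCyclic.commGroup
    rw [← QuotientGroup.eq_one_iff, ← QuotientGroup.mk'_apply, map_mul, map_mul, map_mul, map_inv, map_inv]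
    rw [mul_comm (QuotientGroup.mk' E (π nb)), mul_inv_cancel_right, mul_inv_cancel]
  have hval : π nb * π tb * (π nb)⁻¹ * (π tb)⁻¹ = π tb⁻¹ * π tb⁻¹ := by
    rw [← map_inv, ← map_inv, ← map_mul, ← map_mul, ← map_mul, ← map_mul]
    congr 1
    apply Subtype.ext
    show n * t * n⁻¹ * t⁻¹ = t⁻¹ * t⁻¹
    rw [h.inverts T hnN hnC htT]
  rw [hval] at hcomE
  have h16 : (π tb⁻¹ * π tb⁻¹) ^ 2 = 1 := hEsq _ hcomE
  rw [← map_mul, ← map_pow] at h16
  have h4m : (t⁻¹ * t⁻¹) ^ 2 ∈ Y := by
    have := (QuotientGroup.eq_one_iff (N := Ym) _).1 h16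
    exact Subgroup.mem_subgroupOf.1 this
  have h9 : t ^ 9 = 1 := orderOf_dvd_iff_pow_eq_one.1 (card_sylow_three hG T ▸ Subgroup.orderOf_dvd_natCard _ htT)
  refine htY ?_
  have e : t = ((t⁻¹ * t⁻¹) ^ 2) ^ 2 := by
    rw [← pow_two, ← pow_mul, ← pow_mul, inv_pow]
    refine (inv_eq_of_mul_eq_one_left ?_).symm
    rw [← pow_succ', show 2 * 2 * 2 + 1 = 9 from rfl, h9]
  rw [e]; exact pow_mem h4m 2

end H18

end Cfsg.Agent.MathieuEleven
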