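import Cfsg.Agent.Lib.Small.MathieuEleven.Sylow3
import Cfsg.Agent.Lib.Fusion.ThompsonTransferCyclic

/-!
The case of 220 self-centralising Sylow 3-subgroups does not occur.
-/

set_option autoImplicit false
set_option linter.style.haveILetI false
set_option linter.unusedSectionVars false

namespace Cfsg.Agent.MathieuEleven

open MulAction
open scoped Pointwise

variable {G : Type*} [Group G] [Finite G]

theorem three_of_mem (hG : Cfsg.IsM11 G) (T : Sylow 3 G) {t : G} (ht : t ∈ (T : Subgroup G)) (h1 : t ≠ 1) :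
    ∃ y, y ∈ Subgroup.zpowers t ∧ orderOf y = 3 := by
  have h9 := Subgroup.orderOf_dvd_natCard _ ht
  rw [card_sylow_three hG T] at h9
  obtain ⟨k, hk2, hk⟩ := (Nat.dvd_prime_pow Nat.prime_three).1 (show orderOf t ∣ 3 ^ 2 by simpa using h9)
  rcases (show k = 0 ∨ k = 1 ∨ k = 2 by omega) with rfl | rfl | rfl
  · exact absurd (orderOf_eq_one_iff.1 (by simpa using hk)) h1
  · exact ⟨t, Subgroup.mem_zpowers t, by simpa using hk⟩
  · exact ⟨t ^ 3, Subgroup.pow_mem _ (Subgroup.mem_zpowers t) 3,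
      by rw [orderOf_pow' _ (by norm_num), hk]; norm_num⟩

theorem sylow_le_of_two (hG : Cfsg.IsM11 G) (T : Sylow 3 G) {y z : G} (hy : y ∈ (T : Subgroup G))
    (hy3 : orderOf y = 3) (hz : z ∈ (T : Subgroup G)) (hzy : z ∉ Subgroup.zpowers y) {H : Subgroup G}
    (hyH : y ∈ H) (hzH : z ∈ H) : (T : Subgroup G) ≤ H := by
  have hd := Subgroup.card_dvd_of_le (inf_le_left : (T : Subgroup G) ⊓ H ≤ _)
  rw [card_sylow_three hG T] at hd
  have hlt : 3 < Nat.card ↥((T : Subgroup G) ⊓ H) := by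
    by_contra hle
    refine hzy ?_
    rw [Subgroup.eq_of_le_of_card_ge ((Subgroup.zpowers_le).2 (Subgroup.mem_inf.2 ⟨hy, hyH⟩))
      (by rw [Nat.card_zpowers, hy3]; omega)]
    exact Subgroup.mem_inf.2 ⟨hz, hzH⟩
  have h9 : Nat.card ↥((T : Subgroup G) ⊓ H) = 9 := by
    have := Nat.le_of_dvd (by norm_num) hd
    interval_cases hc : Nat.card ↥((T : Subgroup G) ⊓ H) <;> omega
  intro a ha
  have e := Subgroup.eq_of_le_of_card_ge (inf_le_left : (T : Subgroup G) ⊓ H ≤ _)
    (by rw [h9, card_sylow_three hG T])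
  exact (Subgroup.mem_inf.1 (e.symm ▸ ha : a ∈ (T : Subgroup G) ⊓ H)).2

theorem orderOf_two {g : G} (h : g * g = 1) (h1 : g ≠ 1) : orderOf g = 2 :=
  ((Nat.dvd_prime Nat.prime_two).1 (orderOf_dvd_of_pow_eq_one (by rw [sq, h]))).resolve_left
    fun e => h1 (orderOf_eq_one_iff.1 e)

theorem sq_of_two {g : G} (h : orderOf g = 2) : g * g = 1 := by rw [← sq, ← h, pow_orderOf_eq_one]

theorem three_sq {g : G} (h : orderOf g = 3) : g ^ 3 = 1 := h ▸ pow_orderOf_eq_one g

theorem inv_ne_self {y : G} (hy : orderOf y = 3) : y⁻¹ ≠ y := fun e => by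
  have : y ^ 2 = 1 := by rw [sq]; nth_rewrite 1 [← e]; exact inv_mul_cancel y
  have := orderOf_dvd_of_pow_eq_one this
  rw [hy] at this
  omega

theorem conj_mem_zpowers_three {y g : G} (hy : orderOf y = 3) (h : g * y * g⁻¹ ∈ Subgroup.zpowers y) :
    g * y * g⁻¹ = y ∨ g * y * g⁻¹ = y⁻¹ := by
  obtain ⟨i, hi⟩ := mem_powers_iff_mem_zpowers.2 h
  have hi' : y ^ (i % 3) = g * y * g⁻¹ := by rw [← hy, pow_mod_orderOf]; exact hi
  have := Nat.mod_lt i (show 3 > 0 by norm_num)
  interval_cases hh : i % 3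
  · exfalso
    rw [pow_zero] at hi'
    have h1 : y = 1 := by simpa using hi'.symm
    rw [h1, orderOf_one] at hy; omega
  · exact Or.inl (by rw [← hi', pow_one])
  · exact Or.inr (by
      rw [← hi']
      exact eq_inv_of_mul_eq_one_left (by rw [← pow_succ, show 2 + 1 = 3 from rfl, three_sq hy]))

/-- The hypotheses: the Sylow 3-subgroups are self-centralising with normalisers of order 36. -/
structure H9 (G : Type*) [Group G] [Finite G] : Prop where
  m11 : Cfsg.IsM11 G
  norm : ∀ T : Sylow 3 G, Nat.card (Subgroup.normalizer ((T : Subgroup G) : Set G)) = 36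
  cent : ∀ T : Sylow 3 G, Nat.card (Subgroup.centralizer ((T : Subgroup G) : Set G)) = 9

namespace H9

variable (h : H9 G)
include h

theorem cent_eq (T : Sylow 3 G) : Subgroup.centralizer ((T : Subgroup G) : Set G) = (T : Subgroup G) :=
  (Subgroup.eq_of_le_of_card_ge (fun a ha => Subgroup.mem_centralizer_iff.2 fun b hb =>
    sylow_comm h.m11 T b hb a ha) (by rw [h.cent T, card_sylow_three h.m11 T])).symm

theorem no_central_invol (T : Sylow 3 G) {v : G} (hv : orderOf v = 2) :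
    v ∉ Subgroup.centralizer ((T : Subgroup G) : Set G) := by
  rw [h.cent_eq T]
  intro hm
  have := Subgroup.orderOf_dvd_natCard _ hm
  rw [hv, card_sylow_three h.m11 T] at this
  omega

theorem no_nine {v : G} (hv : orderOf v = 2) : ¬ 9 ∣ Nat.card (Subgroup.centralizer ({v} : Set G)) := by
  intro h9
  obtain ⟨y, hy⟩ := exists_prime_orderOf_dvd_card' (G := Subgroup.centralizer ({v} : Set G)) 3
    ((by norm_num : 3 ∣ 9).trans h9)
  obtain ⟨Q, -, hQ⟩ := exists_sylow_in h.m11 _ h9 y.2 (by rw [Subgroup.orderOf_coe, hy])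
  exact h.no_central_invol Q hv (Subgroup.mem_centralizer_iff.2 fun a ha =>
    Subgroup.mem_centralizer_singleton_iff.1 (hQ ha))

/-- An involution of the normaliser inverting the Sylow subgroup. -/
theorem exists_inverter (T : Sylow 3 G) :
    ∃ w ∈ Subgroup.normalizer ((T : Subgroup G) : Set G), orderOf w = 2 ∧
      ∀ t ∈ (T : Subgroup G), w * t * w⁻¹ = t⁻¹ := by
  classical
  set N := Subgroup.normalizer ((T : Subgroup G) : Set G) with hN
  obtain ⟨W0, hW0⟩ := Sylow.exists_subgroup_card_pow_prime (G := N) 2 (n := 2)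
    (by rw [hN, h.norm T]; norm_num)
  set W : Subgroup G := W0.map N.subtype with hW
  have hW4 : Nat.card W = 4 := by
    rw [hW, Subgroup.card_map_of_injective Subtype.val_injective, hW0]; norm_num
  have hWN : W ≤ N := Subgroup.map_subtype_le _
  have hWcomm : ∀ a ∈ W, ∀ b ∈ W, a * b = b * a := fun a ha b hb => by
    have h' := IsPGroup.isMulCommutative_of_card_eq_prime_sq (p := 2) (G := W) (by rw [hW4]; norm_num)
    exact congrArg Subtype.val (h'.is_comm.comm (⟨a, ha⟩ : W) ⟨b, hb⟩)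
  have hWT : ∀ g ∈ W, g ∈ Subgroup.centralizer ((T : Subgroup G) : Set G) → g = 1 := by
    intro g hg hgc
    rw [h.cent_eq T] at hgc
    have h1 := Subgroup.orderOf_dvd_natCard _ hgc
    have h2 := Subgroup.orderOf_dvd_natCard _ hg
    rw [card_sylow_three h.m11 T] at h1
    rw [hW4] at h2
    exact orderOf_eq_one_iff.1 (Nat.eq_one_of_dvd_coprimes (by norm_num) h2 h1)
  by_contra hne
  push Not at hne
  obtain ⟨u', hu'⟩ := exists_prime_orderOf_dvd_card' (G := W) 2 (by rw [hW4]; norm_num)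
  obtain ⟨u, hudef⟩ : ∃ u : G, u = u' := ⟨_, rfl⟩
  have huW : u ∈ W := hudef ▸ u'.2
  have hu : orderOf u = 2 := by rw [hudef, Subgroup.orderOf_coe, hu']
  have hui : u⁻¹ = u := inv_eq_of_mul_eq_one_right (sq_of_two hu)
  have hconjT : ∀ g ∈ W, ∀ t ∈ (T : Subgroup G), g * t * g⁻¹ ∈ (T : Subgroup G) :=
    fun g hg t ht => (Subgroup.mem_normalizer_iff.1 (hWN hg) t).1 ht
  have hinvg : ∀ g ∈ W, g * g = 1 → g ≠ 1 → ¬ ∀ t ∈ (T : Subgroup G), g * t * g⁻¹ = t⁻¹ := by
    intro g hg hgg hg1 hall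
    obtain ⟨t, ht, ht'⟩ := hne g (hWN hg) (orderOf_two hgg hg1)
    exact ht' (hall t ht)
  -- fixed and inverted elements
  obtain ⟨y, hyT, hy3, hyu⟩ : ∃ y ∈ (T : Subgroup G), orderOf y = 3 ∧ u * y = y * u := by
    obtain ⟨t, ht, ht'⟩ : ∃ t ∈ (T : Subgroup G), u * t * u⁻¹ ≠ t⁻¹ := by
      by_contra hh; push Not at hh
      exact hinvg u huW (sq_of_two hu) (fun e => by rw [e, orderOf_one] at hu; omega) hh
    have hf : t * (u * t * u⁻¹) ≠ 1 := fun e => ht' (eq_inv_of_mul_eq_one_right e)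
    have hfT := mul_mem ht (hconjT u huW t ht)
    obtain ⟨y, hy, hy3⟩ := three_of_mem h.m11 T hfT hf
    refine ⟨y, (Subgroup.zpowers_le).2 hfT hy, hy3, ?_⟩
    have hc : t * (u * t * u⁻¹) ∈ Subgroup.centralizer ({u} : Set G) := by
      refine Subgroup.mem_centralizer_singleton_iff.2 ?_
      calc t * (u * t * u⁻¹) * u = t * u * t := by group
        _ = (u * u) * t * u * t := by rw [sq_of_two hu, one_mul]
        _ = u * ((u * t * u⁻¹) * t) := by rw [hui]; group
        _ = u * (t * (u * t * u⁻¹)) := by rw [sylow_comm h.m11 T _ (hconjT u huW t ht) t ht]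
    exact (Subgroup.mem_centralizer_singleton_iff.1 ((Subgroup.zpowers_le).2 hc hy)).symm
  obtain ⟨z, hzT, hz3, hzu⟩ : ∃ z ∈ (T : Subgroup G), orderOf z = 3 ∧ u * z * u⁻¹ = z⁻¹ := by
    obtain ⟨t, ht, ht'⟩ : ∃ t ∈ (T : Subgroup G), u * t * u⁻¹ ≠ t := by
      by_contra hh; push Not at hh
      have := hWT u huW (Subgroup.mem_centralizer_iff.2 fun a ha => (mul_inv_eq_iff_eq_mul.1 (hh a ha)).symm)
      rw [this, orderOf_one] at hu; omega
    have hf : t * (u * t * u⁻¹)⁻¹ ≠ 1 := fun e => ht' (mul_inv_eq_one.1 e).symm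
    have hfT := mul_mem ht (inv_mem (hconjT u huW t ht))
    obtain ⟨z, hz, hz3⟩ := three_of_mem h.m11 T hfT hf
    refine ⟨z, (Subgroup.zpowers_le).2 hfT hz, hz3, ?_⟩
    obtain ⟨i, rfl⟩ := Subgroup.mem_zpowers_iff.1 hz
    rw [← conj_zpow, ← inv_zpow]
    congr 1
    calc u * (t * (u * t * u⁻¹)⁻¹) * u⁻¹ = (u * t * u⁻¹) * ((u * u) * t⁻¹ * (u * u)⁻¹) := by group
      _ = (t * (u * t * u⁻¹)⁻¹)⁻¹ := by rw [sq_of_two hu]; group
  have hzy : z ∉ Subgroup.zpowers y := by
    intro hz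
    have hc : z ∈ Subgroup.centralizer ({u} : Set G) :=
      (Subgroup.zpowers_le).2 (Subgroup.mem_centralizer_singleton_iff.2 hyu.symm) hz
    rw [← Subgroup.mem_centralizer_singleton_iff.1 hc, mul_inv_cancel_right] at hzu
    exact inv_ne_self hz3 hzu.symm
  have hcent : ∀ g ∈ W, g * y * g⁻¹ = y → g * z * g⁻¹ = z → g = 1 := by
    intro g hg h1 h2
    refine hWT g hg (Subgroup.mem_centralizer_iff.2 fun a ha => ?_)
    exact Subgroup.mem_centralizer_singleton_iff.1 (sylow_le_of_two h.m11 T hyT hy3 hzT hzy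
      (H := Subgroup.centralizer ({g} : Set G))
      (Subgroup.mem_centralizer_singleton_iff.2 (mul_inv_eq_iff_eq_mul.1 h1).symm)
      (Subgroup.mem_centralizer_singleton_iff.2 (mul_inv_eq_iff_eq_mul.1 h2).symm) ha)
  have hinv2 : ∀ g ∈ W, g * y * g⁻¹ = y⁻¹ → g * z * g⁻¹ = z⁻¹ → ∀ t ∈ (T : Subgroup G), g * t * g⁻¹ = t⁻¹ := by
    intro g hg h1 h2
    let H : Subgroup G :=
      { carrier := {t | t ∈ (T : Subgroup G) ∧ g * t * g⁻¹ = t⁻¹}
        mul_mem' := fun {a b} ha hb => ⟨mul_mem ha.1 hb.1, by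
          rw [show g * (a * b) * g⁻¹ = (g * a * g⁻¹) * (g * b * g⁻¹) by group, ha.2, hb.2, mul_inv_rev,
            sylow_comm h.m11 T _ (inv_mem ha.1) _ (inv_mem hb.1)]⟩
        one_mem' := ⟨one_mem _, by simp⟩
        inv_mem' := fun {a} ha => ⟨inv_mem ha.1, by rw [← conj_inv, ha.2]⟩ }
    exact fun t ht => (sylow_le_of_two h.m11 T hyT hy3 hzT hzy (H := H) ⟨hyT, h1⟩ ⟨hzT, h2⟩ ht).2
  have hsign : ∀ g ∈ W, (g * y * g⁻¹ = y ∨ g * y * g⁻¹ = y⁻¹) ∧ (g * z * g⁻¹ = z ∨ g * z * g⁻¹ = z⁻¹) := by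
    intro g hg
    have hgu : g * u = u * g := hWcomm g hg u huW
    constructor
    · refine conj_mem_zpowers_three hy3 ?_
      have hfx : g * y * g⁻¹ ∈ (T : Subgroup G) ⊓ Subgroup.centralizer ({u} : Set G) := by
        refine Subgroup.mem_inf.2 ⟨hconjT g hg y hyT, Subgroup.mem_centralizer_singleton_iff.2 ?_⟩
        calc g * y * g⁻¹ * u = g * y * (g⁻¹ * u * g) * g⁻¹ := by group
          _ = g * y * u * g⁻¹ := by rw [mul_assoc g⁻¹, ← hgu, inv_mul_cancel_left]
          _ = (g * u) * y * g⁻¹ := by rw [mul_assoc g y u, ← hyu]; group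
          _ = u * (g * y * g⁻¹) := by rw [hgu]; group
      have e : (T : Subgroup G) ⊓ Subgroup.centralizer ({u} : Set G) = Subgroup.zpowers y := by
        refine (Subgroup.eq_of_le_of_card_ge ((Subgroup.zpowers_le).2
          (Subgroup.mem_inf.2 ⟨hyT, Subgroup.mem_centralizer_singleton_iff.2 hyu.symm⟩)) ?_).symm
        rw [Nat.card_zpowers, hy3]
        have hd := Subgroup.card_dvd_of_le
          (inf_le_left : (T : Subgroup G) ⊓ Subgroup.centralizer ({u} : Set G) ≤ _)
        rw [card_sylow_three h.m11 T] at hd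
        have hne9 : Nat.card ↥((T : Subgroup G) ⊓ Subgroup.centralizer ({u} : Set G)) ≠ 9 := fun e9 => by
          have e1 := Subgroup.eq_of_le_of_card_ge
            (inf_le_left : (T : Subgroup G) ⊓ Subgroup.centralizer ({u} : Set G) ≤ _)
            (by rw [e9, card_sylow_three h.m11 T])
          have := Subgroup.mem_inf.1 (e1.symm ▸ hzT : z ∈ (T : Subgroup G) ⊓ Subgroup.centralizer ({u} : Set G))
          rw [← Subgroup.mem_centralizer_singleton_iff.1 this.2, mul_inv_cancel_right] at hzu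
          exact inv_ne_self hz3 hzu.symm
        have := Nat.le_of_dvd (by norm_num) hd
        interval_cases hc : Nat.card ↥((T : Subgroup G) ⊓ Subgroup.centralizer ({u} : Set G)) <;> omega
      exact e ▸ hfx
    · refine conj_mem_zpowers_three hz3 ?_
      let I : Subgroup G :=
        { carrier := {t | t ∈ (T : Subgroup G) ∧ u * t * u⁻¹ = t⁻¹}
          mul_mem' := fun {a b} ha hb => ⟨mul_mem ha.1 hb.1, by
            rw [show u * (a * b) * u⁻¹ = (u * a * u⁻¹) * (u * b * u⁻¹) by group, ha.2, hb.2, mul_inv_rev,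
              sylow_comm h.m11 T _ (inv_mem ha.1) _ (inv_mem hb.1)]⟩
          one_mem' := ⟨one_mem _, by simp⟩
          inv_mem' := fun {a} ha => ⟨inv_mem ha.1, by rw [← conj_inv, ha.2]⟩ }
      have hfx : g * z * g⁻¹ ∈ I := by
        refine ⟨hconjT g hg z hzT, ?_⟩
        rw [show u * (g * z * g⁻¹) * u⁻¹ = (u * g) * z * (u * g)⁻¹ by group, ← hgu,
          show g * u * z * (g * u)⁻¹ = g * (u * z * u⁻¹) * g⁻¹ by group, hzu, conj_inv]
      have e : I = Subgroup.zpowers z := by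
        have hIT : I ≤ (T : Subgroup G) := fun a ha => ha.1
        refine (Subgroup.eq_of_le_of_card_ge ((Subgroup.zpowers_le (H := I)).2 ⟨hzT, hzu⟩) ?_).symm
        rw [Nat.card_zpowers, hz3]
        have hd := Subgroup.card_dvd_of_le hIT
        rw [card_sylow_three h.m11 T] at hd
        have hne9 : Nat.card I ≠ 9 := fun e9 => by
          have e1 := Subgroup.eq_of_le_of_card_ge hIT (by rw [e9, card_sylow_three h.m11 T])
          have hyI : y ∈ I := e1.symm ▸ hyT
          have := hyI.2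
          rw [hyu, mul_inv_cancel_right] at this
          exact inv_ne_self hy3 this.symm
        have := Nat.le_of_dvd (by norm_num) hd
        interval_cases hc : Nat.card I <;> omega
      exact e ▸ hfx
  have hsq : ∀ g ∈ W, g * g = 1 := by
    intro g hg
    refine hcent _ (mul_mem hg hg) ?_ ?_
    · rw [show g * g * y * (g * g)⁻¹ = g * (g * y * g⁻¹) * g⁻¹ by group]
      rcases (hsign g hg).1 with e | e <;> rw [e]
      · exact e
      · rw [← conj_inv, e, inv_inv]
    · rw [show g * g * z * (g * g)⁻¹ = g * (g * z * g⁻¹) * g⁻¹ by group]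
      rcases (hsign g hg).2 with e | e <;> rw [e]
      · exact e
      · rw [← conj_inv, e, inv_inv]
  obtain ⟨g, hg, hg1, hgu⟩ : ∃ g ∈ W, g ≠ 1 ∧ g ≠ u := by
    by_contra hh; push Not at hh
    haveI : Fintype W := Fintype.ofFinite W
    have hsub : (Finset.univ : Finset W) ⊆ {1, ⟨u, huW⟩} := fun a _ => by
      rcases em (a = 1) with e | e
      · simp [e]
      · have := hh a a.2 (fun e' => e (Subtype.ext e'))
        simp [Subtype.ext_iff, this]
    have := (Finset.card_le_card hsub).trans Finset.card_le_two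
    rw [Finset.card_univ, ← Nat.card_eq_fintype_card, hW4] at this
    omega
  have huyc : u * y * u⁻¹ = y := mul_inv_eq_iff_eq_mul.2 hyu
  rcases (hsign g hg).1 with e1 | e1 <;> rcases (hsign g hg).2 with e2 | e2
  · exact hg1 (hcent g hg e1 e2)
  · refine hgu ?_
    have h1 := hcent (u * g) (mul_mem huW hg) (by
      rw [show u * g * y * (u * g)⁻¹ = u * (g * y * g⁻¹) * u⁻¹ by group, e1, huyc]) (by
      rw [show u * g * z * (u * g)⁻¹ = u * (g * z * g⁻¹) * u⁻¹ by group, e2, ← conj_inv, hzu, inv_inv])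
    exact (eq_inv_of_mul_eq_one_right h1).trans hui
  · refine hinvg (u * g) (mul_mem huW hg) (hsq _ (mul_mem huW hg)) (fun e => hgu ?_) (hinv2 _ (mul_mem huW hg) ?_ ?_)
    · exact (eq_inv_of_mul_eq_one_right e).trans hui
    · rw [show u * g * y * (u * g)⁻¹ = u * (g * y * g⁻¹) * u⁻¹ by group, e1, ← conj_inv, huyc]
    · rw [show u * g * z * (u * g)⁻¹ = u * (g * z * g⁻¹) * u⁻¹ by group, e2, hzu]
  · exact hinvg g hg (hsq g hg) hg1 (hinv2 g hg e1 e2)

/-- The normaliser of a subgroup of order three inside a given subgroup is twice the centraliser. -/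
theorem card_norm_three (H : Subgroup G) {y : G} (hy : orderOf y = 3) {w : G} (hwH : w ∈ H)
    (hwy : w * y * w⁻¹ = y⁻¹) :
    Nat.card ↥(H ⊓ Subgroup.normalizer (Subgroup.zpowers y : Set G)) =
      2 * Nat.card ↥(H ⊓ Subgroup.centralizer ({y} : Set G)) := by
  classical
  set M := H ⊓ Subgroup.normalizer (Subgroup.zpowers y : Set G) with hM
  set C := H ⊓ Subgroup.centralizer ({y} : Set G) with hC
  have hcn : ∀ g, g * y * g⁻¹ = y ∨ g * y * g⁻¹ = y⁻¹ → g ∈ Subgroup.normalizer (Subgroup.zpowers y : Set G) := by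
    intro g hg
    rw [Subgroup.mem_normalizer_iff]
    have hfw : ∀ q ∈ Subgroup.zpowers y, g * q * g⁻¹ ∈ Subgroup.zpowers y := by
      intro q hq
      obtain ⟨i, rfl⟩ := Subgroup.mem_zpowers_iff.1 hq
      rw [← conj_zpow]
      rcases hg with e | e <;> rw [e]
      · exact zpow_mem (Subgroup.mem_zpowers y) i
      · exact zpow_mem (inv_mem (Subgroup.mem_zpowers y)) i
    refine fun q => ⟨hfw q, fun hq => ?_⟩
    obtain ⟨i, hi⟩ := Subgroup.mem_zpowers_iff.1 hq
    have : q = g⁻¹ * y ^ i * g := by rw [hi]; group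
    rw [this]
    have hgi : g⁻¹ * y * g = y ∨ g⁻¹ * y * g = y⁻¹ := by
      rcases hg with e | e
      · left; nth_rewrite 1 [← e]; group
      · right
        have e' := congrArg (fun a => g⁻¹ * a⁻¹ * g) e
        simp only [inv_inv] at e'
        rw [← e']; group
    rw [show g⁻¹ * y ^ i * g = g⁻¹ * y ^ i * g⁻¹⁻¹ by group, ← conj_zpow,
      show g⁻¹ * y * g⁻¹⁻¹ = g⁻¹ * y * g by group]
    rcases hgi with e | e <;> rw [e]
    · exact zpow_mem (Subgroup.mem_zpowers y) i
    · exact zpow_mem (inv_mem (Subgroup.mem_zpowers y)) i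
  have hCM : C ≤ M := fun c hc => Subgroup.mem_inf.2 ⟨(Subgroup.mem_inf.1 hc).1,
    hcn c (Or.inl (mul_inv_eq_iff_eq_mul.2 (Subgroup.mem_centralizer_singleton_iff.1 (Subgroup.mem_inf.1 hc).2)))⟩
  have hwM : w ∈ M := Subgroup.mem_inf.2 ⟨hwH, hcn w (Or.inr hwy)⟩
  have hi : (C.subgroupOf M).index = 2 := by
    refine Subgroup.index_eq_two_iff.2 ⟨⟨w, hwM⟩, fun b => ?_⟩
    have hb := conj_mem_zpowers_three hy
      ((Subgroup.mem_normalizer_iff.1 (Subgroup.mem_inf.1 b.2).2 y).1 (Subgroup.mem_zpowers y))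
    rcases hb with e | e
    · refine Or.inr ⟨?_, fun hbad => ?_⟩
      · exact Subgroup.mem_subgroupOf.2 (Subgroup.mem_inf.2 ⟨(Subgroup.mem_inf.1 b.2).1,
          Subgroup.mem_centralizer_singleton_iff.2 (mul_inv_eq_iff_eq_mul.1 e)⟩)
      · have h2 : (b : G) * w * y * ((b : G) * w)⁻¹ = y := mul_inv_eq_iff_eq_mul.2
          (Subgroup.mem_centralizer_singleton_iff.1 (Subgroup.mem_inf.1 (Subgroup.mem_subgroupOf.1 hbad)).2)
        rw [show (b : G) * w * y * ((b : G) * w)⁻¹ = (b : G) * (w * y * w⁻¹) * (b : G)⁻¹ by group, hwy,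
          ← conj_inv, e] at h2
        exact inv_ne_self hy h2
    · refine Or.inl ⟨?_, fun hbad => ?_⟩
      · refine Subgroup.mem_subgroupOf.2 (Subgroup.mem_inf.2 ⟨mul_mem (Subgroup.mem_inf.1 b.2).1 hwH, ?_⟩)
        refine Subgroup.mem_centralizer_singleton_iff.2 (mul_inv_eq_iff_eq_mul.1 ?_)
        show (b : G) * w * y * ((b : G) * w)⁻¹ = y
        rw [show (b : G) * w * y * ((b : G) * w)⁻¹ = (b : G) * (w * y * w⁻¹) * (b : G)⁻¹ by group, hwy,
          ← conj_inv, e, inv_inv]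
      · have h2 : (b : G) * y * (b : G)⁻¹ = y := mul_inv_eq_iff_eq_mul.2
          (Subgroup.mem_centralizer_singleton_iff.1 (Subgroup.mem_inf.1 (Subgroup.mem_subgroupOf.1 hbad)).2)
        rw [e] at h2
        exact inv_ne_self hy h2
  have := (C.subgroupOf M).index_mul_card
  rw [hi, Nat.card_congr (Subgroup.subgroupOfEquivOfLe hCM).toEquiv] at this
  exact this.symm

/-- The case with a full Sylow 2-subgroup in the normaliser of the element. -/
theorem case_big (T : Sylow 3 G) {w y : G} (hwT : w ∈ Subgroup.normalizer ((T : Subgroup G) : Set G))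
    (hw : orderOf w = 2) (hwi : ∀ t ∈ (T : Subgroup G), w * t * w⁻¹ = t⁻¹) (hy : orderOf y = 3)
    (hyT : y ∈ (T : Subgroup G))
    (h18 : Nat.card ↥(Subgroup.centralizer ({y} : Set G) ⊓ Subgroup.normalizer ((T : Subgroup G) : Set G)) = 18)
    (h72 : Nat.card (Subgroup.centralizer ({y} : Set G)) = 72) : False := by
  classical
  have hG := h.m11
  set N := Subgroup.normalizer ((T : Subgroup G) : Set G) with hN
  obtain ⟨r', hr'⟩ := exists_prime_orderOf_dvd_card' (G := ↥(Subgroup.centralizer ({y} : Set G) ⊓ N)) 2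
    (by rw [h18]; norm_num)
  obtain ⟨r, hrdef⟩ : ∃ r : G, r = r' := ⟨_, rfl⟩
  have hr : orderOf r = 2 := by rw [hrdef, Subgroup.orderOf_coe, hr']
  have hrN : r ∈ N := hrdef ▸ (Subgroup.mem_inf.1 r'.2).2
  have hry : r * y = y * r := hrdef ▸ Subgroup.mem_centralizer_singleton_iff.1 (Subgroup.mem_inf.1 r'.2).1
  have hri : r⁻¹ = r := inv_eq_of_mul_eq_one_right (sq_of_two hr)
  have hconj : ∀ t ∈ (T : Subgroup G), r * t * r⁻¹ ∈ (T : Subgroup G) :=
    fun t ht => (Subgroup.mem_normalizer_iff.1 hrN t).1 ht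
  obtain ⟨z, hzT, hz3, hzr⟩ : ∃ z ∈ (T : Subgroup G), orderOf z = 3 ∧ r * z * r⁻¹ = z⁻¹ := by
    obtain ⟨t, ht, ht'⟩ : ∃ t ∈ (T : Subgroup G), r * t * r⁻¹ ≠ t := by
      by_contra hh; push Not at hh
      exact h.no_central_invol T hr (Subgroup.mem_centralizer_iff.2 fun a ha =>
        (mul_inv_eq_iff_eq_mul.1 (hh a ha)).symm)
    have hf : t * (r * t * r⁻¹)⁻¹ ≠ 1 := fun e => ht' (mul_inv_eq_one.1 e).symm
    have hfT := mul_mem ht (inv_mem (hconj t ht))
    obtain ⟨z, hz, hz3⟩ := three_of_mem hG T hfT hf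
    refine ⟨z, (Subgroup.zpowers_le).2 hfT hz, hz3, ?_⟩
    obtain ⟨i, rfl⟩ := Subgroup.mem_zpowers_iff.1 hz
    rw [← conj_zpow, ← inv_zpow]
    congr 1
    calc r * (t * (r * t * r⁻¹)⁻¹) * r⁻¹ = (r * t * r⁻¹) * ((r * r) * t⁻¹ * (r * r)⁻¹) := by group
      _ = (t * (r * t * r⁻¹)⁻¹)⁻¹ := by rw [sq_of_two hr]; group
  have hzy : z ∉ Subgroup.zpowers y := by
    intro hz
    have hc : z ∈ Subgroup.centralizer ({r} : Set G) :=
      (Subgroup.zpowers_le).2 (Subgroup.mem_centralizer_singleton_iff.2 hry.symm) hz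
    rw [← Subgroup.mem_centralizer_singleton_iff.1 hc, mul_inv_cancel_right] at hzr
    exact inv_ne_self hz3 hzr.symm
  -- an involution centralising `z` and inverting `y`
  obtain ⟨u, hu, huy, huz⟩ : ∃ u : G, orderOf u = 2 ∧ u * y * u⁻¹ = y⁻¹ ∧ u * z * u⁻¹ = z := by
    obtain ⟨g, hg⟩ : ∃ g : G, g = w * r := ⟨_, rfl⟩
    have g1 : g * y * g⁻¹ = y⁻¹ := by
      rw [hg, show w * r * y * (w * r)⁻¹ = w * (r * y * r⁻¹) * w⁻¹ by group, mul_inv_eq_iff_eq_mul.2 hry,
        hwi y hyT]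
    have g2 : g * z * g⁻¹ = z := by
      rw [hg, show w * r * z * (w * r)⁻¹ = w * (r * z * r⁻¹) * w⁻¹ by group, hzr, ← conj_inv, hwi z hzT, inv_inv]
    have ggy : g * g * y * (g * g)⁻¹ = y := by
      rw [show g * g * y * (g * g)⁻¹ = g * (g * y * g⁻¹) * g⁻¹ by group, g1, ← conj_inv, g1, inv_inv]
    have ggz : g * g * z * (g * g)⁻¹ = z := by
      rw [show g * g * z * (g * g)⁻¹ = g * (g * z * g⁻¹) * g⁻¹ by group, g2, g2]
    have hggC : g * g ∈ Subgroup.centralizer ((T : Subgroup G) : Set G) := Subgroup.mem_centralizer_iff.2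
      fun a ha => Subgroup.mem_centralizer_singleton_iff.1 (sylow_le_of_two hG T hyT hy hzT hzy
        (H := Subgroup.centralizer ({g * g} : Set G))
        (Subgroup.mem_centralizer_singleton_iff.2 (mul_inv_eq_iff_eq_mul.1 ggy).symm)
        (Subgroup.mem_centralizer_singleton_iff.2 (mul_inv_eq_iff_eq_mul.1 ggz).symm) ha)
    rw [h.cent_eq T] at hggC
    have h9 : (g * g) ^ 9 = 1 := orderOf_dvd_iff_pow_eq_one.1
      (card_sylow_three hG T ▸ Subgroup.orderOf_dvd_natCard _ hggC)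
    have hu9 : g ^ 9 * y * (g ^ 9)⁻¹ = y⁻¹ ∧ g ^ 9 * z * (g ^ 9)⁻¹ = z := by
      have e8 : g ^ 9 = (g * g) ^ 4 * g := by rw [← pow_two, ← pow_mul, ← pow_succ]
      have hq : ∀ a, a ∈ (T : Subgroup G) → (g * g) ^ 4 * a * ((g * g) ^ 4)⁻¹ = a := fun a ha =>
        mul_inv_eq_iff_eq_mul.2 (sylow_comm hG T _ (pow_mem hggC 4) a ha)
      constructor
      · rw [e8, show (g * g) ^ 4 * g * y * ((g * g) ^ 4 * g)⁻¹ =
          (g * g) ^ 4 * (g * y * g⁻¹) * ((g * g) ^ 4)⁻¹ by group, g1, hq _ (inv_mem hyT)]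
      · rw [e8, show (g * g) ^ 4 * g * z * ((g * g) ^ 4 * g)⁻¹ =
          (g * g) ^ 4 * (g * z * g⁻¹) * ((g * g) ^ 4)⁻¹ by group, g2, hq _ hzT]
    refine ⟨g ^ 9, orderOf_two (by rw [← (Commute.refl g).mul_pow, h9]) (fun e => ?_), hu9.1, hu9.2⟩
    have := hu9.1
    rw [e, one_mul, inv_one, mul_one] at this
    exact inv_ne_self hy this.symm
  set Y := Subgroup.zpowers y with hY
  set M := Subgroup.normalizer (Y : Set G) with hM
  have hM144 : Nat.card M = 144 := by
    have := card_norm_three h (⊤ : Subgroup G) hy (w := w) (Subgroup.mem_top w) (hwi y hyT)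
    rw [top_inf_eq, top_inf_eq, h72] at this
    exact this
  have hNM : N ≤ M := by
    have := card_norm_three h N hy hwT (hwi y hyT)
    rw [show N ⊓ Subgroup.centralizer ({y} : Set G) = Subgroup.centralizer ({y} : Set G) ⊓ N from inf_comm ..,
      h18] at this
    have e := Subgroup.eq_of_le_of_card_ge (inf_le_left : N ⊓ M ≤ N) (by rw [this, hN, h.norm T])
    exact inf_eq_left.1 e
  have huM : u ∈ M := (card_norm_three_mem hy huy)
  obtain ⟨S0, hS0⟩ := IsPGroup.exists_le_sylow (G := M) (P := Subgroup.zpowers (⟨u, huM⟩ : M))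
    (IsPGroup.of_card (n := 1) (by rw [Nat.card_zpowers, Subgroup.orderOf_mk, hu, pow_one]))
  obtain ⟨S, hS⟩ := (S0.isPGroup'.map M.subtype).exists_le_sylow
  have hS16 : Nat.card ((S0 : Subgroup M).map M.subtype) = 16 := by
    rw [Subgroup.card_map_of_injective Subtype.val_injective, S0.card_eq_multiplicity, hM144,
      show (144 : ℕ) = 2 ^ 4 * 9 by norm_num, Nat.factorization_mul (by norm_num) (by norm_num), Finsupp.add_apply,
      Nat.prime_two.factorization_pow, Finsupp.single_eq_same,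
      Nat.factorization_eq_zero_of_not_dvd (by norm_num)]
    norm_num
  have hSeq : (S0 : Subgroup M).map M.subtype = (S : Subgroup G) :=
    Subgroup.eq_of_le_of_card_ge hS (by rw [card_sylow_two hG S, hS16])
  have hSM : (S : Subgroup G) ≤ M := hSeq ▸ Subgroup.map_subtype_le _
  have huS : u ∈ (S : Subgroup G) :=
    hSeq ▸ Subgroup.mem_map.2 ⟨⟨u, huM⟩, hS0 (Subgroup.mem_zpowers _), rfl⟩
  set D := (S : Subgroup G) ⊓ Subgroup.centralizer ({y} : Set G) with hD
  have hD8 : (D.subgroupOf (S : Subgroup G)).index = 2 := by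
    have := card_norm_three h (S : Subgroup G) hy huS huy
    rw [inf_eq_left.2 hSM, card_sylow_two hG S, ← hD] at this
    have h2 := (D.subgroupOf (S : Subgroup G)).index_mul_card
    rw [Nat.card_congr (Subgroup.subgroupOfEquivOfLe (inf_le_left : D ≤ _)).toEquiv, card_sylow_two hG S] at h2
    have hD' : Nat.card D = 8 := by omega
    rw [hD'] at h2
    omega
  haveI : (D.subgroupOf (S : Subgroup G)).Normal := Subgroup.normal_of_index_eq_two hD8
  have hcyc : IsCyclic (↥(S : Subgroup G) ⧸ D.subgroupOf (S : Subgroup G)) :=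
    isCyclic_of_prime_card (p := 2) hD8
  have huD : u ∉ D := fun hh => by
    have := mul_inv_eq_iff_eq_mul.2 (Subgroup.mem_centralizer_singleton_iff.1 (Subgroup.mem_inf.1 hh).2)
    rw [huy] at this
    exact inv_ne_self hy this
  obtain ⟨g, hg, -, -⟩ := Cfsg.Agent.Fusion.extremal_transfer_cyclic (perfect hG : commutator G = ⊤) S D
    inf_le_left hcyc hu huS huD
  obtain ⟨y', hy'def⟩ : ∃ y' : G, y' = g⁻¹ * y * g := ⟨_, rfl⟩
  have hy'3 : orderOf y' = 3 := by
    rw [hy'def, show g⁻¹ * y * g = g⁻¹ * y * g⁻¹⁻¹ by group, order_conj, hy]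
  set C := Subgroup.centralizer ({u} : Set G) with hC
  have hy'C : y' ∈ C := by
    refine Subgroup.mem_centralizer_singleton_iff.2 ?_
    rw [hy'def]
    have e := Subgroup.mem_centralizer_singleton_iff.1 (Subgroup.mem_inf.1 hg).2
    calc g⁻¹ * y * g * u = g⁻¹ * (y * (g * u * g⁻¹)) * g := by group
      _ = g⁻¹ * ((g * u * g⁻¹) * y) * g := by rw [e]
      _ = u * (g⁻¹ * y * g) := by group
  have hzC : z ∈ C := Subgroup.mem_centralizer_singleton_iff.2 (mul_inv_eq_iff_eq_mul.1 huz).symm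
  obtain ⟨P, hP⟩ := IsPGroup.exists_le_sylow (G := C) (P := Subgroup.zpowers (⟨y', hy'C⟩ : C))
    (IsPGroup.of_card (n := 1) (by rw [Nat.card_zpowers, Subgroup.orderOf_mk, hy'3, pow_one]))
  obtain ⟨P', hP'⟩ := IsPGroup.exists_le_sylow (G := C) (P := Subgroup.zpowers (⟨z, hzC⟩ : C))
    (IsPGroup.of_card (n := 1) (by rw [Nat.card_zpowers, Subgroup.orderOf_mk, hz3, pow_one]))
  have hP3 : ∀ R : Sylow 3 C, Nat.card (R : Subgroup C) ≤ 3 := by
    intro R
    obtain ⟨k, hk⟩ := R.isPGroup'.exists_card_eq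
    rw [hk]
    by_contra hlt
    have hk2 : 2 ≤ k := by
      by_contra hh
      interval_cases k <;> norm_num at hlt
    refine h.no_nine hu ?_
    exact ((pow_dvd_pow 3 hk2).trans (dvd_of_eq hk.symm)).trans (Subgroup.card_subgroup_dvd_card _)
  have eP : Subgroup.zpowers (⟨y', hy'C⟩ : C) = (P : Subgroup C) :=
    Subgroup.eq_of_le_of_card_ge hP (by rw [Nat.card_zpowers, Subgroup.orderOf_mk, hy'3]; exact hP3 P)
  obtain ⟨c, hc⟩ := MulAction.exists_smul_eq C P' P
  have hmem : c * ⟨z, hzC⟩ * c⁻¹ ∈ (P : Subgroup C) := hc ▸ conj_mem_smul P' (hP' (Subgroup.mem_zpowers _))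
  rw [← eP] at hmem
  obtain ⟨i, hi⟩ := Subgroup.mem_zpowers_iff.1 hmem
  have hi' : y' ^ i = (c : G) * z * (c : G)⁻¹ := by simpa using congrArg Subtype.val hi
  obtain ⟨b, hb⟩ : ∃ b : G, b = g * c := ⟨_, rfl⟩
  have hbz : b * z * b⁻¹ ∈ Y := by
    rw [hb, show g * (c : G) * z * (g * c)⁻¹ = g * ((c : G) * z * (c : G)⁻¹) * g⁻¹ by group, ← hi', hy'def,
      ← conj_zpow, show g * (g⁻¹ * y * g) * g⁻¹ = y by group]
    exact zpow_mem (Subgroup.mem_zpowers y) i
  have hYT : Y ≤ (T : Subgroup G) := (Subgroup.zpowers_le).2 hyT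
  obtain ⟨m, hm, hme⟩ := conj_in_normalizer hG T hzT (hYT hbz)
  rw [← hme] at hbz
  exact hzy ((Subgroup.mem_normalizer_iff.1 (hNM hm) z).2 hbz)
where
  /-- an element inverting `y` normalises its subgroup -/
  card_norm_three_mem {y g : G} (hy : orderOf y = 3) (e : g * y * g⁻¹ = y⁻¹) :
      g ∈ Subgroup.normalizer (Subgroup.zpowers y : Set G) := by
    rw [Subgroup.mem_normalizer_iff]
    have key : ∀ q, q ∈ Subgroup.zpowers y → g * q * g⁻¹ ∈ Subgroup.zpowers y := by
      intro q hq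
      obtain ⟨i, rfl⟩ := Subgroup.mem_zpowers_iff.1 hq
      rw [← conj_zpow, e]
      exact zpow_mem (inv_mem (Subgroup.mem_zpowers y)) i
    refine fun q => ⟨key q, fun hq => ?_⟩
    have hk := key _ hq
    obtain ⟨i, hi⟩ := Subgroup.mem_zpowers_iff.1 hq
    have : q = g⁻¹ * y ^ i * g := by rw [hi]; group
    have e' : g⁻¹ * y * g = y⁻¹ := by
      have e'' := congrArg (fun a => g⁻¹ * a⁻¹ * g) e
      simp only [inv_inv] at e''
      rw [← e'']; group
    rw [this, show g⁻¹ * y ^ i * g = g⁻¹ * y ^ i * g⁻¹⁻¹ by group, ← conj_zpow,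
      show g⁻¹ * y * g⁻¹⁻¹ = g⁻¹ * y * g by group, e']
    exact zpow_mem (inv_mem (Subgroup.mem_zpowers y)) i

/-- The case where the centraliser of the element has order 36. -/
theorem case_small (T : Sylow 3 G) {w y : G} (hwT : w ∈ Subgroup.normalizer ((T : Subgroup G) : Set G))
    (hwi : ∀ t ∈ (T : Subgroup G), w * t * w⁻¹ = t⁻¹) (hy : orderOf y = 3) (hyT : y ∈ (T : Subgroup G))
    (h9 : Nat.card ↥(Subgroup.centralizer ({y} : Set G) ⊓ Subgroup.normalizer ((T : Subgroup G) : Set G)) = 9)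
    (h4 : Nat.card {Q : Sylow 3 G // y ∈ (Q : Subgroup G)} = 4)
    (h36 : Nat.card (Subgroup.centralizer ({y} : Set G)) = 36) : False := by
  classical
  have hG := h.m11
  set Y := Subgroup.zpowers y with hY
  set M := Subgroup.normalizer (Y : Set G) with hM
  set C := Subgroup.centralizer ({y} : Set G) with hC
  have hY3 : Nat.card Y = 3 := by rw [hY, Nat.card_zpowers, hy]
  have hCM : C ≤ M := fun c hc => by
    refine Subgroup.mem_normalizer_iff.2 fun q => ?_
    have hcq : ∀ q ∈ Y, c * q * c⁻¹ = q := fun q hq => by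
      obtain ⟨i, rfl⟩ := Subgroup.mem_zpowers_iff.1 hq
      rw [← conj_zpow, mul_inv_eq_iff_eq_mul.2 (Subgroup.mem_centralizer_singleton_iff.1 hc)]
    refine ⟨fun hq => (hcq q hq).symm ▸ hq, fun hq => ?_⟩
    have := hcq _ hq
    have e : c * q * c⁻¹ = q := mul_left_cancel (mul_right_cancel this)
    rwa [e] at hq
  have hM72 : Nat.card M = 72 := by
    have := card_norm_three h (⊤ : Subgroup G) hy (w := w) (Subgroup.mem_top w) (hwi y hyT)
    rw [top_inf_eq, top_inf_eq, h36] at this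
    exact this
  have hwM : w ∈ M := case_big.card_norm_three_mem hy (hwi y hyT)
  have hTC : (T : Subgroup G) ≤ C := sylow_le_centralizer hG T hyT
  -- the elements of the centraliser outside the four Sylow subgroups
  haveI : Fintype (Sylow 3 G) := Fintype.ofFinite _
  haveI : Fintype G := Fintype.ofFinite G
  set Qs : Finset (Sylow 3 G) := Finset.univ.filter fun Q => y ∈ (Q : Subgroup G) with hQs
  have hQs4 : Qs.card = 4 := by
    rw [← h4, Nat.card_eq_fintype_card, Fintype.card_subtype]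
  set U : Finset G := Qs.biUnion fun Q => Finset.univ.filter fun a => a ∈ (Q : Subgroup G) ∧ a ∉ Y with hU
  set Cf : Finset G := Finset.univ.filter fun a => a ∈ C with hCf
  set Yf : Finset G := Finset.univ.filter fun a => a ∈ Y with hYf
  have hYf3 : Yf.card = 3 := by rw [← hY3, Nat.card_eq_fintype_card, Fintype.card_subtype]
  have hU24 : U.card = 24 := by
    rw [hU, Finset.card_biUnion, Finset.sum_congr rfl (g := fun _ => 6) fun Q hQ => ?_, Finset.sum_const, hQs4]
    · rfl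
    · have hyQ := (Finset.mem_filter.1 hQ).2
      have e : (Finset.univ.filter fun a => a ∈ (Q : Subgroup G) ∧ a ∉ Y) =
          (Finset.univ.filter fun a => a ∈ (Q : Subgroup G)) \ Yf := by ext a; simp [hYf]
      rw [e, Finset.card_sdiff_of_subset, hYf3]
      · have : (Finset.univ.filter fun a => a ∈ (Q : Subgroup G)).card = 9 := by
          rw [← Fintype.card_subtype, ← Nat.card_eq_fintype_card]
          exact card_sylow_three hG Q
        omega
      · intro a ha
        exact Finset.mem_filter.2 ⟨Finset.mem_univ _, (Subgroup.zpowers_le).2 hyQ (Finset.mem_filter.1 ha).2⟩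
    · intro P hP Q hQ hPQ
      refine Finset.disjoint_left.2 fun a ha hb => ?_
      obtain ⟨-, haP, haY⟩ := Finset.mem_filter.1 ha
      obtain ⟨-, haQ, -⟩ := Finset.mem_filter.1 hb
      exact hPQ (Sylow.ext (le_antisymm
        (sylow_le_of_two hG P (Finset.mem_filter.1 hP).2 hy haP haY (Finset.mem_filter.1 hQ).2 haQ)
        (sylow_le_of_two hG Q (Finset.mem_filter.1 hQ).2 hy haQ haY (Finset.mem_filter.1 hP).2 haP)))
  have hUC : U ∪ Yf ⊆ Cf := by
    intro a ha
    refine Finset.mem_filter.2 ⟨Finset.mem_univ _, ?_⟩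
    rcases Finset.mem_union.1 ha with ha | ha
    · obtain ⟨Q, hQ, ha⟩ := Finset.mem_biUnion.1 ha
      exact sylow_le_centralizer hG Q (Finset.mem_filter.1 hQ).2 (Finset.mem_filter.1 ha).2.1
    · exact hTC ((Subgroup.zpowers_le).2 hyT (Finset.mem_filter.1 ha).2)
  set A : Finset G := Cf \ (U ∪ Yf) with hA
  have hA9 : A.card = 9 := by
    have hdis : Disjoint U Yf := Finset.disjoint_left.2 fun a ha hb => by
      obtain ⟨Q, -, ha⟩ := Finset.mem_biUnion.1 ha
      exact (Finset.mem_filter.1 ha).2.2 (Finset.mem_filter.1 hb).2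
    rw [hA, Finset.card_sdiff_of_subset hUC, Finset.card_union_of_disjoint hdis, hU24, hYf3]
    have : Cf.card = 36 := by rw [← h36, Nat.card_eq_fintype_card, Fintype.card_subtype]
    omega
  -- a Sylow 2-subgroup of the centraliser
  obtain ⟨V0, hV0⟩ := Sylow.exists_subgroup_card_pow_prime (G := C) 2 (n := 2) (by rw [h36]; norm_num)
  set V : Subgroup G := V0.map C.subtype with hV
  have hV4 : Nat.card V = 4 := by rw [hV, Subgroup.card_map_of_injective Subtype.val_injective, hV0]; norm_num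
  have hVC : V ≤ C := Subgroup.map_subtype_le _
  have hpow4 : ∀ {W : Subgroup G}, Nat.card W = 4 → ∀ v ∈ W, v ^ 4 = 1 := fun {W} hW v hv =>
    orderOf_dvd_iff_pow_eq_one.1 (hW ▸ Subgroup.orderOf_dvd_natCard _ hv)
  have hmemA : ∀ v ∈ C, v ^ 4 = 1 → v ≠ 1 → ∀ q ∈ Y, q * v ∈ A := by
    intro v hv hv4 hv1 q hq
    refine Finset.mem_sdiff.2 ⟨Finset.mem_filter.2 ⟨Finset.mem_univ _,
      mul_mem (hTC ((Subgroup.zpowers_le).2 hyT hq)) hv⟩, fun hh => hv1 ?_⟩
    obtain ⟨Q, hQy, hQ⟩ : ∃ Q : Sylow 3 G, y ∈ (Q : Subgroup G) ∧ q * v ∈ (Q : Subgroup G) := by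
      rcases Finset.mem_union.1 hh with hh | hh
      · obtain ⟨Q, hQ, hh⟩ := Finset.mem_biUnion.1 hh
        exact ⟨Q, (Finset.mem_filter.1 hQ).2, (Finset.mem_filter.1 hh).2.1⟩
      · exact ⟨T, hyT, (Subgroup.zpowers_le).2 hyT (Finset.mem_filter.1 hh).2⟩
    have hvQ : v ∈ (Q : Subgroup G) := by
      have := mul_mem (inv_mem ((Subgroup.zpowers_le).2 hQy hq)) hQ
      rwa [inv_mul_cancel_left] at this
    have h9' : v ^ 9 = 1 :=
      orderOf_dvd_iff_pow_eq_one.1 (card_sylow_three hG Q ▸ Subgroup.orderOf_dvd_natCard _ hvQ)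
    simpa using (pow_gcd_eq_one.2 ⟨hv4, h9'⟩ : v ^ Nat.gcd 4 9 = 1)
  have hcommY : ∀ v ∈ C, ∀ q ∈ Y, v * q = q * v := fun v hv q hq => by
    obtain ⟨i, rfl⟩ := Subgroup.mem_zpowers_iff.1 hq
    exact ((show Commute v y from Subgroup.mem_centralizer_singleton_iff.1 hv).zpow_right i).eq
  have hY3' : ∀ q ∈ Y, q ^ 3 = 1 := fun q hq =>
    orderOf_dvd_iff_pow_eq_one.1 (hY3 ▸ Subgroup.orderOf_dvd_natCard _ hq)
  have hY4 : ∀ q ∈ Y, q ^ 4 = q := fun q hq => by rw [pow_succ, hY3' q hq, one_mul]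
  have hAeq : ∀ a ∈ A, ∃ q ∈ Y, ∃ v ∈ V, a = q * v := by
    set P : Finset (G × G) := Yf ×ˢ (Finset.univ.filter fun v => v ∈ V ∧ v ≠ 1) with hP
    have hP9 : 9 ≤ P.card := by
      have e : (Finset.univ.filter fun v => v ∈ V ∧ v ≠ 1) = (Finset.univ.filter fun v => v ∈ V).erase 1 := by
        ext v; simp [and_comm]
      rw [hP, Finset.card_product, hYf3, e, Finset.card_erase_of_mem (by simp [one_mem]),
        ← Fintype.card_subtype, ← Nat.card_eq_fintype_card]
      change 9 ≤ 3 * (Nat.card V - 1)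
      omega
    have himg : P.image (fun z => z.1 * z.2) = A := by
      refine Finset.eq_of_subset_of_card_le (fun a ha => ?_) ?_
      · obtain ⟨⟨q, v⟩, hz, rfl⟩ := Finset.mem_image.1 ha
        obtain ⟨hq, hv⟩ := Finset.mem_product.1 hz
        obtain ⟨-, hv, hv1⟩ := Finset.mem_filter.1 hv
        exact hmemA v (hVC hv) (hpow4 hV4 v hv) hv1 q (Finset.mem_filter.1 hq).2
      · rw [hA9, Finset.card_image_of_injOn]
        · exact hP9
        · rintro ⟨q, v⟩ hz ⟨q', v'⟩ hz' e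
          obtain ⟨hq, hv⟩ := Finset.mem_product.1 hz
          obtain ⟨hq', hv'⟩ := Finset.mem_product.1 hz'
          have hqY := (Finset.mem_filter.1 hq).2
          have hqY' := (Finset.mem_filter.1 hq').2
          have hvV := (Finset.mem_filter.1 hv).2.1
          have hvV' := (Finset.mem_filter.1 hv').2.1
          have e4 := congrArg (fun a => a ^ 4) (e : q * v = q' * v')
          simp only at e4
          rw [(show Commute q v from (hcommY v (hVC hvV) q hqY).symm).mul_pow,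
            (show Commute q' v' from (hcommY v' (hVC hvV') q' hqY').symm).mul_pow,
            hpow4 hV4 v hvV, hpow4 hV4 v' hvV', mul_one, mul_one, hY4 q hqY, hY4 q' hqY'] at e4
          subst e4
          exact congrArg (Prod.mk q) (mul_left_cancel (e : q * v = q * v'))
    intro a ha
    rw [← himg] at ha
    obtain ⟨⟨q, v⟩, hz, rfl⟩ := Finset.mem_image.1 ha
    obtain ⟨hq, hv⟩ := Finset.mem_product.1 hz
    exact ⟨q, (Finset.mem_filter.1 hq).2, v, (Finset.mem_filter.1 hv).2.1, rfl⟩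
  have hVuniq : ∀ v ∈ C, v ^ 4 = 1 → v ∈ V := by
    intro v hv hv4
    by_cases hv1 : v = 1
    · rw [hv1]; exact one_mem V
    obtain ⟨q, hq, v', hv', e⟩ := hAeq v (one_mul v ▸ hmemA v hv hv4 hv1 1 (one_mem Y))
    have e4 := congrArg (fun a => a ^ 4) e
    change v ^ 4 = (q * v') ^ 4 at e4
    rw [hv4, (show Commute q v' from (hcommY v' (hVC hv') q hq).symm).mul_pow, hpow4 hV4 v' hv', mul_one,
      hY4 q hq] at e4
    rw [e, ← e4, one_mul]; exact hv'
  have hCn : ∀ g ∈ M, ∀ c ∈ C, g * c * g⁻¹ ∈ C := by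
    intro g hg c hc
    refine Subgroup.mem_centralizer_singleton_iff.2 ?_
    have hgy : g⁻¹ * y * g ∈ Y := (Subgroup.mem_normalizer_iff''.1 hg y).1 (Subgroup.mem_zpowers y)
    have e := hcommY c hc _ hgy
    calc g * c * g⁻¹ * y = g * (c * (g⁻¹ * y * g)) * g⁻¹ := by group
      _ = g * ((g⁻¹ * y * g) * c) * g⁻¹ := by rw [e]
      _ = y * (g * c * g⁻¹) := by group
  have hVn : ∀ g ∈ M, ∀ v ∈ V, g * v * g⁻¹ ∈ V := fun g hg v hv =>
    hVuniq _ (hCn g hg v (hVC hv)) (by rw [conj_pow, hpow4 hV4 v hv, mul_one, mul_inv_cancel])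
  have hTV : ∀ v ∈ V, v ≠ 1 → v ∉ Subgroup.centralizer ((T : Subgroup G) : Set G) := by
    intro v hv hv1 hc
    rw [h.cent_eq T] at hc
    exact hv1 (by simpa using (pow_gcd_eq_one.2 ⟨hpow4 hV4 v hv, orderOf_dvd_iff_pow_eq_one.1
      (card_sylow_three hG T ▸ Subgroup.orderOf_dvd_natCard _ hc)⟩ : v ^ Nat.gcd 4 9 = 1))
  -- a Sylow 2-subgroup of the normaliser and a central involution
  obtain ⟨R0⟩ : Nonempty (Sylow 2 M) := inferInstance
  set R : Subgroup G := (R0 : Subgroup M).map M.subtype with hR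
  have hR8 : Nat.card R = 8 := by
    rw [hR, Subgroup.card_map_of_injective Subtype.val_injective, R0.card_eq_multiplicity, hM72,
      show (72 : ℕ) = 2 ^ 3 * 9 by norm_num, Nat.factorization_mul (by norm_num) (by norm_num), Finsupp.add_apply,
      Nat.prime_two.factorization_pow, Finsupp.single_eq_same,
      Nat.factorization_eq_zero_of_not_dvd (by norm_num)]
    norm_num
  have hRM : R ≤ M := Subgroup.map_subtype_le _
  obtain ⟨S, hS⟩ := (R0.isPGroup'.map M.subtype).exists_le_sylow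
  have hRS : R ≤ (S : Subgroup G) := hS
  have hi2 : (R.subgroupOf (S : Subgroup G)).index = 2 := by
    have := (R.subgroupOf (S : Subgroup G)).index_mul_card
    rw [Nat.card_congr (Subgroup.subgroupOfEquivOfLe hRS).toEquiv, card_sylow_two hG S, hR8] at this
    omega
  haveI hRn : (R.subgroupOf (S : Subgroup G)).Normal := Subgroup.normal_of_index_eq_two hi2
  have hRS' : ∀ s ∈ (S : Subgroup G), ∀ a ∈ R, s * a * s⁻¹ ∈ R := fun s hs a ha =>
    Subgroup.mem_subgroupOf.1 (hRn.conj_mem ⟨a, hRS ha⟩ (Subgroup.mem_subgroupOf.2 ha) ⟨s, hs⟩)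
  obtain ⟨z, hzR, hz2, hzS⟩ : ∃ z ∈ R, orderOf z = 2 ∧ ∀ s ∈ (S : Subgroup G), s * z = z * s := by
    letI : MulAction (S : Subgroup G) R :=
      { smul := fun s a => ⟨(s : G) * a * (s : G)⁻¹, hRS' s s.2 a a.2⟩
        one_smul := fun a => Subtype.ext (show (1 : G) * a * (1 : G)⁻¹ = a by group)
        mul_smul := fun s t a => Subtype.ext
          (show (s : G) * t * a * ((s : G) * t)⁻¹ = (s : G) * ((t : G) * a * (t : G)⁻¹) * (s : G)⁻¹ by group) }
    have hmod := S.isPGroup'.card_modEq_card_fixedPoints R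
    rw [hR8] at hmod
    have hne1 : Nat.card (fixedPoints (S : Subgroup G) R) ≠ 1 := fun e => by rw [e] at hmod; exact absurd hmod (by decide)
    have hpos : Nonempty (fixedPoints (S : Subgroup G) R) :=
      ⟨⟨⟨1, one_mem R⟩, fun s => Subtype.ext (show (s : G) * 1 * (s : G)⁻¹ = 1 by group)⟩⟩
    obtain ⟨⟨a, ha⟩, ha1⟩ : ∃ a : fixedPoints (S : Subgroup G) R, ((a : R) : G) ≠ 1 := by
      by_contra hh; push Not at hh
      exact hne1 (Nat.card_eq_one_iff_unique.2
        ⟨⟨fun a b => Subtype.ext (Subtype.ext ((hh a).trans (hh b).symm))⟩, hpos⟩)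
    have hcs : ∀ s ∈ (S : Subgroup G), s * (a : G) = (a : G) * s := fun s hs =>
      mul_inv_eq_iff_eq_mul.1 (congrArg Subtype.val (ha ⟨s, hs⟩))
    have h2' : 2 ∣ orderOf (a : G) := by
      have := Subgroup.orderOf_dvd_natCard R a.2
      rw [hR8] at this
      obtain ⟨k, -, hk⟩ := (Nat.dvd_prime_pow Nat.prime_two).1 (show _ ∣ 2 ^ 3 by simpa using this)
      rcases k with _ | k
      · exact absurd (orderOf_eq_one_iff.1 (by simpa using hk)) ha1
      · exact (dvd_pow_self 2 (by omega : k + 1 ≠ 0)).trans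
          (dvd_of_eq (hk.symm.trans (Subgroup.orderOf_coe a).symm))
    obtain ⟨m, hm⟩ := h2'
    refine ⟨(a : G) ^ m, pow_mem a.2 m, ?_, fun s hs => ((show Commute s (a : G) from hcs s hs).pow_right m).eq⟩
    have hpos' := orderOf_pos (a : G)
    rw [orderOf_pow' _ (by omega), hm, Nat.gcd_mul_left_left, Nat.mul_div_cancel _ (by omega)]
  have hVR : V ≤ R := by
    have hle : V.subgroupOf M ≤ (R0 : Subgroup M) := by
      haveI : (V.subgroupOf M).Normal := ⟨fun a ha g => Subgroup.mem_subgroupOf.2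
        (hVn g g.2 a (Subgroup.mem_subgroupOf.1 ha))⟩
      refine IsPGroup.le_sylow_of_normal ?_ R0
      exact IsPGroup.of_card (n := 2) (by
        rw [Nat.card_congr (Subgroup.subgroupOfEquivOfLe (hVC.trans hCM)).toEquiv, hV4]; norm_num)
    intro v hv
    exact Subgroup.mem_map.2 ⟨⟨v, hCM (hVC hv)⟩, hle (Subgroup.mem_subgroupOf.2 hv), rfl⟩
  by_cases hzC : z ∈ C
  · -- a 2-central involution commuting with `y`
    have hzV : z ∈ V := hVuniq z hzC (by
      rw [show (4 : ℕ) = 2 * 2 from rfl, pow_mul]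
      nth_rewrite 1 [← hz2]
      rw [pow_orderOf_eq_one, one_pow])
    set Cz := Subgroup.centralizer ({z} : Set G) with hCz
    have hSCz : (S : Subgroup G) ≤ Cz := fun s hs => Subgroup.mem_centralizer_singleton_iff.2 (hzS s hs)
    have hyCz : y ∈ Cz :=
      Subgroup.mem_centralizer_singleton_iff.2 (Subgroup.mem_centralizer_singleton_iff.1 hzC).symm
    have hd16 : 16 ∣ Nat.card Cz := card_sylow_two hG S ▸ Subgroup.card_dvd_of_le hSCz
    have hd3 : 3 ∣ Nat.card Cz := hy ▸ Subgroup.orderOf_dvd_natCard _ hyCz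
    have h48 : Nat.card Cz = 48 := by
      have h9' : ¬ 9 ∣ Nat.card Cz := h.no_nine hz2
      rcases centralizer_two_cases hG hz2 with hc | hc | hc
      · rw [← hCz] at hc
        obtain ⟨k, hk⟩ : 48 ∣ Nat.card Cz := by omega
        rw [hk] at hc h9' ⊢
        have hk3 : k ∣ 3 := Nat.dvd_of_mul_dvd_mul_left (by norm_num : 0 < 48) (by simpa using hc)
        rcases (Nat.dvd_prime Nat.prime_three).1 hk3 with rfl | rfl
        · rfl
        · norm_num at h9'
      · rw [← hCz] at hc; omega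
      · rw [← hCz] at hc; omega
    set D := Cz ⊓ M with hD
    have hD24 : Nat.card D = 24 := by
      have h1 : 8 ∣ Nat.card D := hR8 ▸ Subgroup.card_dvd_of_le (le_inf (hRS.trans hSCz) hRM)
      have h2 : 3 ∣ Nat.card D := hY3 ▸ Subgroup.card_dvd_of_le
        (le_inf ((Subgroup.zpowers_le).2 hyCz) Subgroup.le_normalizer)
      have h3 : Nat.card D ∣ 72 := hM72 ▸ Subgroup.card_dvd_of_le inf_le_right
      have h4' : Nat.card D ≠ 72 := fun e => by
        have hMz : M ≤ Cz := inf_eq_right.1 (Subgroup.eq_of_le_of_card_ge inf_le_right (by rw [e, hM72]))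
        exact hTV z hzV (fun e1 => by rw [e1, orderOf_one] at hz2; omega)
          (Subgroup.mem_centralizer_iff.2 fun a ha =>
            Subgroup.mem_centralizer_singleton_iff.1 (hMz (hCM (hTC ha))))
      obtain ⟨k, hk⟩ : 24 ∣ Nat.card D := by omega
      rw [hk] at h3 h4' ⊢
      have hk3 : k ∣ 3 := Nat.dvd_of_mul_dvd_mul_left (by norm_num : 0 < 24) (by simpa using h3)
      rcases (Nat.dvd_prime Nat.prime_three).1 hk3 with rfl | rfl
      · rfl
      · norm_num at h4'
    obtain ⟨P, hP⟩ := IsPGroup.exists_le_sylow (G := Cz) (P := Y.subgroupOf Cz)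
      (IsPGroup.of_card (n := 1) (by
        rw [Nat.card_congr (Subgroup.subgroupOfEquivOfLe ((Subgroup.zpowers_le).2 hyCz)).toEquiv, hY3, pow_one]))
    have hP3 : Nat.card (P : Subgroup Cz) = 3 := by
      rw [P.card_eq_multiplicity, h48, show (48 : ℕ) = 3 ^ 1 * 16 by norm_num,
        Nat.factorization_mul (by norm_num) (by norm_num), Finsupp.add_apply,
        Nat.prime_three.factorization_pow, Finsupp.single_eq_same,
        Nat.factorization_eq_zero_of_not_dvd (by norm_num)]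
      norm_num
    have eP : Y.subgroupOf Cz = (P : Subgroup Cz) := Subgroup.eq_of_le_of_card_ge hP (by
      rw [hP3, Nat.card_congr (Subgroup.subgroupOfEquivOfLe ((Subgroup.zpowers_le).2 hyCz)).toEquiv, hY3])
    have hnorm : Nat.card (Subgroup.normalizer ((P : Subgroup Cz) : Set Cz)) = 24 := by
      rw [← hD24]
      refine Nat.card_congr
        { toFun := fun g => ⟨(g : Cz), Subgroup.mem_inf.2 ⟨(g : Cz).2, ?_⟩⟩
          invFun := fun g => ⟨⟨(g : G), (Subgroup.mem_inf.1 g.2).1⟩, ?_⟩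
          left_inv := fun g => rfl
          right_inv := fun g => rfl }
      · refine Subgroup.mem_normalizer_iff.2 fun q => ⟨fun hq => ?_, fun hq => ?_⟩
        · have := (Subgroup.mem_normalizer_iff.1 g.2 ⟨q, (Subgroup.zpowers_le).2 hyCz hq⟩).1
            ((SetLike.ext_iff.1 eP _).1 (Subgroup.mem_subgroupOf.2 hq))
          exact Subgroup.mem_subgroupOf.1 ((SetLike.ext_iff.1 eP _).2 this)
        · have hqC : q ∈ Cz := by
            have h1 := mul_mem (mul_mem (inv_mem ((g : Cz).2)) ((Subgroup.zpowers_le).2 hyCz hq)) (g : Cz).2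
            rwa [show ((g : Cz) : G)⁻¹ * (((g : Cz) : G) * q * ((g : Cz) : G)⁻¹) * ((g : Cz) : G) = q by group] at h1
          have := (Subgroup.mem_normalizer_iff.1 g.2 ⟨q, hqC⟩).2
            ((SetLike.ext_iff.1 eP _).1 (Subgroup.mem_subgroupOf.2 hq))
          exact Subgroup.mem_subgroupOf.1 ((SetLike.ext_iff.1 eP _).2 this)
      · refine Subgroup.mem_normalizer_iff.2 fun q => ?_
        rw [← eP, Subgroup.mem_subgroupOf, Subgroup.mem_subgroupOf]
        exact Subgroup.mem_normalizer_iff.1 (Subgroup.mem_inf.1 g.2).2 (q : G)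
    have hn := Subgroup.index_mul_card (Subgroup.normalizer ((P : Subgroup Cz) : Set Cz))
    have hidx : Nat.card (Sylow 3 Cz) = (Subgroup.normalizer ((P : Subgroup Cz) : Set Cz)).index :=
      Sylow.card_eq_index_normalizer P
    rw [hnorm, h48, ← hidx] at hn
    have hmod : Nat.card (Sylow 3 Cz) % 3 = 1 := by rw [card_sylow_modEq_one 3 Cz]
    omega
  · -- the involution inverts `y`
    have hzM : z ∈ M := hRM hzR
    have hzV : ∀ v ∈ V, z * v = v * z := fun v hv => (hzS v (hRS (hVR hv))).symm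
    have hzy : z * y * z⁻¹ = y⁻¹ := by
      refine (conj_mem_zpowers_three hy ((Subgroup.mem_normalizer_iff.1 hzM y).1 (Subgroup.mem_zpowers y))).resolve_left
        fun e => hzC ?_
      exact Subgroup.mem_centralizer_singleton_iff.2 (mul_inv_eq_iff_eq_mul.1 e)
    have hwz : w * z ∈ C := by
      refine Subgroup.mem_centralizer_singleton_iff.2 (mul_inv_eq_iff_eq_mul.1 ?_)
      show w * z * y * (w * z)⁻¹ = y
      rw [show w * z * y * (w * z)⁻¹ = w * (z * y * z⁻¹) * w⁻¹ by group, hzy, ← conj_inv, hwi y hyT, inv_inv]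
    obtain ⟨v, hv, t', ht', hvt⟩ : ∃ v ∈ V, ∃ t' ∈ (T : Subgroup G), w * z = v * t' := by
      have himg : ((Finset.univ.filter fun a => a ∈ V) ×ˢ (Finset.univ.filter fun a => a ∈ (T : Subgroup G))).image
          (fun p => p.1 * p.2) = Cf := by
        refine Finset.eq_of_subset_of_card_le (fun a ha => ?_) ?_
        · obtain ⟨⟨p, q⟩, hz', rfl⟩ := Finset.mem_image.1 ha
          exact Finset.mem_filter.2 ⟨Finset.mem_univ _, mul_mem (hVC (Finset.mem_filter.1 (Finset.mem_product.1 hz').1).2)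
            (hTC (Finset.mem_filter.1 (Finset.mem_product.1 hz').2).2)⟩
        · have hVf : (Finset.univ.filter fun a => a ∈ V).card = 4 := by
            rw [← Fintype.card_subtype, ← Nat.card_eq_fintype_card]; exact hV4
          have hTf : (Finset.univ.filter fun a => a ∈ (T : Subgroup G)).card = 9 := by
            rw [← Fintype.card_subtype, ← Nat.card_eq_fintype_card]; exact card_sylow_three hG T
          have hCf36 : Cf.card = 36 := by
            rw [hCf, ← Fintype.card_subtype, ← Nat.card_eq_fintype_card]; exact h36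
          rw [Finset.card_image_of_injOn, Finset.card_product, hVf, hTf, hCf36]
          · rintro ⟨p, q⟩ hz' ⟨p', q'⟩ hz'' e
            obtain ⟨hp, hq⟩ := Finset.mem_product.1 hz'
            obtain ⟨hp', hq'⟩ := Finset.mem_product.1 hz''
            have hm1 : p'⁻¹ * p ∈ V := mul_mem (inv_mem (Finset.mem_filter.1 hp').2) (Finset.mem_filter.1 hp).2
            have e' : p'⁻¹ * p = q' * q⁻¹ := by
              rw [inv_mul_eq_iff_eq_mul, ← mul_assoc, eq_mul_inv_iff_mul_eq]; exact e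
            have hm2 : p'⁻¹ * p ∈ (T : Subgroup G) :=
              e' ▸ mul_mem (Finset.mem_filter.1 hq').2 (inv_mem (Finset.mem_filter.1 hq).2)
            have h1 : p'⁻¹ * p = 1 := by
              simpa using (pow_gcd_eq_one.2 ⟨hpow4 hV4 _ hm1, orderOf_dvd_iff_pow_eq_one.1
                (card_sylow_three hG T ▸ Subgroup.orderOf_dvd_natCard _ hm2)⟩ : (p'⁻¹ * p) ^ Nat.gcd 4 9 = 1)
            obtain rfl : p' = p := inv_mul_eq_one.1 h1
            exact congrArg (Prod.mk p') (mul_left_cancel (e : p' * q = p' * q'))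
      have : w * z ∈ Cf := Finset.mem_filter.2 ⟨Finset.mem_univ _, hwz⟩
      rw [← himg] at this
      obtain ⟨⟨p, q⟩, hz', e⟩ := Finset.mem_image.1 this
      exact ⟨p, (Finset.mem_filter.1 (Finset.mem_product.1 hz').1).2, q,
        (Finset.mem_filter.1 (Finset.mem_product.1 hz').2).2, e.symm⟩
    set B := Y ⊔ V with hB
    have hBn : ∀ g ∈ M, ∀ b ∈ B, g * b * g⁻¹ ∈ B := by
      intro g hg
      have hle : B ≤ B.comap (MulAut.conj g).toMonoidHom := sup_le
        (fun q hq => (le_sup_left : Y ≤ B) ((Subgroup.mem_normalizer_iff.1 hg q).1 hq))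
        (fun u hu => (le_sup_right : V ≤ B) (hVn g hg u hu))
      exact fun b hb => hle hb
    obtain ⟨t, htT, htY⟩ : ∃ t ∈ (T : Subgroup G), t ∉ Y := by
      by_contra hh; push Not at hh
      have := Subgroup.card_dvd_of_le (show (T : Subgroup G) ≤ Y from hh)
      rw [card_sylow_three hG T, hY3] at this; omega
    obtain ⟨b, hb, hbt⟩ : ∃ b ∈ B, z * t * z⁻¹ = b * t := by
      refine ⟨z * t * z⁻¹ * t⁻¹, ?_, by group⟩
      have h1 : z * t * z⁻¹ * t⁻¹ ∈ C := by
        exact mul_mem (hCn z hzM t (hTC htT)) (inv_mem (hTC htT))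
      have hcV : ∀ u ∈ V, (z * t * z⁻¹ * t⁻¹) * u = u * (z * t * z⁻¹ * t⁻¹) := by
        intro u hu
        have hu' : t⁻¹ * u * t ∈ V := by
          have := hVn t⁻¹ (inv_mem (hCM (hTC htT))) u hu
          rwa [inv_inv] at this
        have hzu : z⁻¹ * u = u * z⁻¹ := by
          rw [inv_mul_eq_iff_eq_mul, ← mul_assoc, eq_mul_inv_iff_mul_eq, hzV u hu]
        have hzu' : z⁻¹ * (t⁻¹ * u * t) = (t⁻¹ * u * t) * z⁻¹ := by
          rw [inv_mul_eq_iff_eq_mul, ← mul_assoc, eq_mul_inv_iff_mul_eq, hzV _ hu']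
        calc z * t * z⁻¹ * t⁻¹ * u = z * t * (z⁻¹ * (t⁻¹ * u * t)) * t⁻¹ := by group
          _ = z * t * ((t⁻¹ * u * t) * z⁻¹) * t⁻¹ := by rw [hzu']
          _ = (z * u) * t * z⁻¹ * t⁻¹ := by group
          _ = _ := by rw [hzV u hu]; group
      by_cases hA' : z * t * z⁻¹ * t⁻¹ ∈ A
      · obtain ⟨q, hq, u, hu, e⟩ := hAeq _ hA'
        rw [e]; exact mul_mem ((le_sup_left : Y ≤ B) hq) ((le_sup_right : V ≤ B) hu)
      · have hq' : z * t * z⁻¹ * t⁻¹ ∈ U ∪ Yf := by
          by_contra hh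
          exact hA' (Finset.mem_sdiff.2 ⟨Finset.mem_filter.2 ⟨Finset.mem_univ _, h1⟩, hh⟩)
        obtain ⟨Q, hQy, hQ⟩ : ∃ Q : Sylow 3 G, y ∈ (Q : Subgroup G) ∧ z * t * z⁻¹ * t⁻¹ ∈ (Q : Subgroup G) := by
          rcases Finset.mem_union.1 hq' with hh | hh
          · obtain ⟨Q, hQ, hh⟩ := Finset.mem_biUnion.1 hh
            exact ⟨Q, (Finset.mem_filter.1 hQ).2, (Finset.mem_filter.1 hh).2.1⟩
          · exact ⟨T, hyT, (Subgroup.zpowers_le).2 hyT (Finset.mem_filter.1 hh).2⟩
        refine (le_sup_left : Y ≤ B) ?_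
        by_contra hnY
        obtain ⟨u, hu⟩ := exists_prime_orderOf_dvd_card' (G := V) 2 (by rw [hV4]; norm_num)
        refine h.no_central_invol Q (v := u) (by rw [Subgroup.orderOf_coe, hu]) ?_
        refine Subgroup.mem_centralizer_iff.2 fun a ha => ?_
        exact Subgroup.mem_centralizer_singleton_iff.1 (sylow_le_of_two hG Q hQy hy hQ hnY
          (H := Subgroup.centralizer ({(u : G)} : Set G))
          (Subgroup.mem_centralizer_singleton_iff.2 (Subgroup.mem_centralizer_singleton_iff.1 (hVC u.2)).symm)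
          (Subgroup.mem_centralizer_singleton_iff.2 (hcV u u.2)) ha)
    have hwe : w = v * t' * z⁻¹ := by rw [← hvt, mul_inv_cancel_right]
    have hzz : z⁻¹ = z := inv_eq_of_mul_eq_one_right (sq_of_two hz2)
    have key : t⁻¹ * t⁻¹ ∈ B := by
      have e1 : w * t * w⁻¹ = v * ((t' * b * t'⁻¹) * t) * v⁻¹ := by
        rw [hwe, hzz, show v * t' * z * t * (v * t' * z)⁻¹ = v * (t' * (z * t * z⁻¹) * t'⁻¹) * v⁻¹ by group, hbt]
        have : t * t'⁻¹ = t'⁻¹ * t := sylow_comm hG T t htT _ (inv_mem ht')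
        calc v * (t' * (b * t) * t'⁻¹) * v⁻¹ = v * (t' * b * (t * t'⁻¹)) * v⁻¹ := by group
          _ = _ := by rw [this]; group
      rw [hwi t htT] at e1
      have hb' : t' * b * t'⁻¹ ∈ B := hBn t' (hCM (hTC ht')) b hb
      have e2 : t⁻¹ * t⁻¹ = v * (t' * b * t'⁻¹) * (t * v⁻¹ * t⁻¹) := by
        calc t⁻¹ * t⁻¹ = (v * ((t' * b * t'⁻¹) * t) * v⁻¹) * t⁻¹ := by rw [← e1]
          _ = _ := by group
      rw [e2]
      exact mul_mem (mul_mem ((le_sup_right : V ≤ B) hv) hb') ((le_sup_right : V ≤ B)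
        (hVn t (hCM (hTC htT)) v⁻¹ (inv_mem hv)))
    obtain ⟨q, hq, u, hu, e⟩ : ∃ q ∈ Y, ∃ u ∈ V, t⁻¹ * t⁻¹ = q * u := by
      have hle : Y ≤ Subgroup.normalizer (V : Set G) := fun q hq => by
        refine Subgroup.mem_normalizer_iff.2 fun u => ⟨fun hu => hVn q (hCM (hTC ((Subgroup.zpowers_le).2 hyT hq))) u hu,
          fun hu => ?_⟩
        have := hVn q⁻¹ (inv_mem (hCM (hTC ((Subgroup.zpowers_le).2 hyT hq)))) _ hu
        rwa [show q⁻¹ * (q * u * q⁻¹) * q⁻¹⁻¹ = u by group] at this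
      have hset : (↑(Y ⊔ V) : Set G) = (Y : Set G) * (V : Set G) :=
        Subgroup.coe_mul_of_left_le_normalizer_right Y V hle
      have : t⁻¹ * t⁻¹ ∈ (Y : Set G) * (V : Set G) := hset ▸ key
      obtain ⟨q, hq, u, hu, e⟩ := Set.mem_mul.1 this
      exact ⟨q, hq, u, hu, e.symm⟩
    have huT : u ∈ (T : Subgroup G) := by
      have : u = q⁻¹ * (t⁻¹ * t⁻¹) := by rw [e, inv_mul_cancel_left]
      rw [this]
      exact mul_mem (inv_mem ((Subgroup.zpowers_le).2 hyT hq)) (mul_mem (inv_mem htT) (inv_mem htT))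
    have hu1 : u = 1 := by
      simpa using (pow_gcd_eq_one.2 ⟨hpow4 hV4 _ hu, orderOf_dvd_iff_pow_eq_one.1
        (card_sylow_three hG T ▸ Subgroup.orderOf_dvd_natCard _ huT)⟩ : u ^ Nat.gcd 4 9 = 1)
    rw [hu1, mul_one] at e
    refine htY ?_
    have h9' : t ^ 9 = 1 :=
      orderOf_dvd_iff_pow_eq_one.1 (card_sylow_three hG T ▸ Subgroup.orderOf_dvd_natCard _ htT)
    have ht4 : t = (t⁻¹ * t⁻¹) ^ 4 := by
      rw [← pow_two, ← pow_mul, inv_pow]
      refine (inv_eq_of_mul_eq_one_left ?_).symm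
      rw [← pow_succ', show 2 * 4 + 1 = 9 from rfl, h9']
    rw [ht4, e]
    exact pow_mem hq 4

theorem false : False := by
  obtain ⟨T⟩ : Nonempty (Sylow 3 G) := inferInstance
  have hG := h.m11
  have h220 : Nat.card (Sylow 3 G) = 220 := by
    have := card_normalizer hG T
    rw [h.norm T] at this; omega
  obtain ⟨y, hy, hyT, hne⟩ := exists_shared hG T (by omega)
  obtain ⟨w, hwT, hw, hwi⟩ := h.exists_inverter T
  obtain ⟨hn3, hcard, ⟨a, ha⟩, -⟩ := containing hG T hy hyT
  set N := Subgroup.normalizer ((T : Subgroup G) : Set G) with hN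
  have h2 := card_norm_three h N hy hwT (hwi y hyT)
  have hd : Nat.card ↥(N ⊓ Subgroup.normalizer (Subgroup.zpowers y : Set G)) ∣ 36 :=
    (h.norm T) ▸ Subgroup.card_dvd_of_le inf_le_left
  rw [h2, show N ⊓ Subgroup.centralizer ({y} : Set G) = Subgroup.centralizer ({y} : Set G) ⊓ N from inf_comm ..,
    ha] at hd
  have ha2 : a = 1 ∨ a = 2 := by
    have := Nat.le_of_dvd (by norm_num) hd
    have : a ≠ 0 := by rintro rfl; simp at hd
    omega
  have hC : Nat.card (Subgroup.centralizer ({y} : Set G)) * 2 ∣ 7920 := by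
    have h' := Subgroup.card_subgroup_dvd_card (Subgroup.normalizer (Subgroup.zpowers y : Set G))
    have e := card_norm_three h (⊤ : Subgroup G) hy (w := w) (Subgroup.mem_top w) (hwi y hyT)
    rw [top_inf_eq, top_inf_eq] at e
    rw [e, hG.2, mul_comm] at h'
    exact h'
  rw [← hcard, ha] at hC
  rcases containing_bound hG T hy hyT with e | e | e
  · exact hne e
  · rw [e, ha] at hcard
    rcases ha2 with rfl | rfl
    · exact h.case_small T hwT hwi hy hyT (by rw [ha]) e (by rw [← hcard])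
    · exact h.case_big T hwT hw hwi hy hyT (by rw [ha]) (by rw [← hcard])
  · rw [e] at hC
    rcases ha2 with rfl | rfl <;> norm_num at hC

end H9

end Cfsg.Agent.MathieuEleven
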