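import Mathlib

/-!
There is no strongly regular graph with parameters (55, 18, 1, 8).
-/

set_option autoImplicit false

namespace Cfsg.Agent.MathieuEleven

open Matrix

theorem no_srg_55 {V : Type*} [Fintype V] [DecidableEq V] (hn : Fintype.card V = 55) (A J : Matrix V V ℝ)
    (hJ : ∀ i j, J i j = 1) (hdiag : ∀ i, A i i = 0) (hrow : A * J = (18 : ℝ) • J) (hcol : J * A = (18 : ℝ) • J)
    (hsq : A * A = (10 : ℝ) • (1 : Matrix V V ℝ) - (7 : ℝ) • A + (8 : ℝ) • J) : False := by
  have hJJ : J * J = (55 : ℝ) • J := by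
    ext i j
    simp [Matrix.mul_apply, hJ, hn]
  set E : Matrix V V ℝ := 1 - (1 / 55 : ℝ) • J with hE
  set M : Matrix V V ℝ := (2 : ℝ) • A + (7 : ℝ) • (1 : Matrix V V ℝ) - (43 / 55 : ℝ) • J with hM
  have hEE : E * E = E := by
    simp only [hE, sub_mul, mul_sub, one_mul, mul_one, smul_mul_assoc, mul_smul_comm, hJJ]
    module
  have hME : M * E = M := by
    simp only [hE, hM, sub_mul, add_mul, mul_sub, mul_one, smul_mul_assoc, mul_smul_comm, one_mul,
      hrow, hJJ]
    module
  have hEM : E * M = M := by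
    simp only [hE, hM, sub_mul, mul_add, mul_sub, mul_one, smul_mul_assoc, mul_smul_comm, one_mul,
      hcol, hJJ]
    module
  have hMM : M * M = (89 : ℝ) • E := by
    simp only [hE, hM, sub_mul, add_mul, mul_add, mul_sub, mul_one, smul_mul_assoc, mul_smul_comm, one_mul,
      hrow, hcol, hJJ, hsq]
    module
  obtain ⟨s, hs⟩ : ∃ s : ℝ, s = Real.sqrt 89 := ⟨_, rfl⟩
  have hs2 : s * s = 89 := by rw [hs]; exact Real.mul_self_sqrt (by norm_num)
  have hs0 : s ≠ 0 := fun e => by rw [e] at hs2; norm_num at hs2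
  set P : Matrix V V ℝ := (1 / 2 : ℝ) • (E + s⁻¹ • M) with hP
  have hPP : IsIdempotentElem P := by
    show P * P = P
    simp only [hP, smul_mul_assoc, mul_smul_comm, add_mul, mul_add, hEE, hEM, hME, hMM, smul_smul, smul_add]
    match_scalars <;> field_simp
    all_goals nlinarith [hs2]
  have htrE : E.trace = 54 := by
    simp [hE, Matrix.trace, Matrix.one_apply, hJ, hn]
    norm_num
  have htrM : M.trace = 342 := by
    simp [hM, Matrix.trace, Matrix.one_apply, hJ, hdiag, hn]
    norm_num
  have hidem : IsIdempotentElem (Matrix.toLin' P) := by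
    show Matrix.toLin' P * Matrix.toLin' P = Matrix.toLin' P
    rw [Module.End.mul_eq_comp, ← Matrix.toLin'_mul, hPP.eq]
  have htr := (LinearMap.IsIdempotentElem.isProj_range _ hidem).trace
  rw [Matrix.trace_toLin'_eq] at htr
  set n := Module.finrank ℝ (LinearMap.range (Matrix.toLin' P))
  have h342 : (54 : ℝ) + 342 / s = 2 * n := by
    rw [← htr, hP, Matrix.trace_smul, Matrix.trace_add, Matrix.trace_smul, htrE, htrM, smul_eq_mul, smul_eq_mul]
    ring
  have hirr : Irrational s := hs ▸ by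
    exact_mod_cast (by norm_num : Nat.Prime 89).irrational_sqrt
  have e : (342 : ℝ) = (2 * (n : ℝ) - 54) * s := by
    rw [← h342]; field_simp; ring
  refine hirr ⟨(342 : ℚ) / (2 * n - 54), ?_⟩
  have hne : (2 * (n : ℝ) - 54) ≠ 0 := fun e0 => by rw [e0, zero_mul] at e; norm_num at e
  push_cast
  rw [div_eq_iff hne, e, mul_comm]

end Cfsg.Agent.MathieuEleven
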