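import Cfsg.Agent.Lib.Small.MathieuEleven.Graph
import Cfsg.Agent.Lib.Small.MathieuEleven.Srg

/-!
The graph on the Sylow 3-subgroups is the triangular graph: the neighbourhood splits into two cliques.
-/

set_option autoImplicit false
set_option linter.style.haveILetI false
set_option linter.unusedSectionVars false

namespace Cfsg.Agent.MathieuEleven

open MulAction

variable {G : Type*} [Group G] [Finite G]

/-- The orbit of a neighbour is a clique. -/
def OrbitClique (G : Type*) [Group G] : Prop :=
  ∀ (z : G) (T U V : Sylow 3 G), Tri z T U V → ∀ t ∈ (T : Subgroup G), t ≠ 1 → Adj U (t • U)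

/-- The two orbits are completely joined. -/
def OrbitJoin (G : Type*) [Group G] : Prop :=
  ∀ (z : G) (T U V : Sylow 3 G), Tri z T U V → ∀ t ∈ (T : Subgroup G), t ≠ 1 → Adj U (t • V)

theorem exists_config (hG : Cfsg.IsM11 G) (T : Sylow 3 G) : ∃ z U V, Tri z T U V := by
  obtain ⟨⟨z, hz⟩⟩ : Nonempty {z : G // Inverts z T} :=
    (Nat.card_pos_iff.1 (by rw [card_inverts hG T]; norm_num)).1
  obtain ⟨U, V, h⟩ := exists_tri' hG hz
  exact ⟨z, U, V, h⟩

theorem smul_smul_conj {G α : Type*} [Group G] [MulAction G α] (g t : G) (X : α) :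
    g • t • X = (g * t * g⁻¹) • g • X := by
  rw [← mul_smul, ← mul_smul]; group

theorem config_move (hG : Cfsg.IsM11 G) {z z' : G} {T U V T' U' V' : Sylow 3 G} (h : Tri z T U V)
    (h' : Tri z' T' U' V') {t t' : G} (ht : t ∈ (T : Subgroup G)) (ht1 : t ≠ 1)
    (ht' : t' ∈ (T' : Subgroup G)) (ht'1 : t' ≠ 1) :
    ∃ g : G, g • U = U' ∧ g • V = V' ∧ g • t • U = t' • U' ∧ g • t • V = t' • V' := by
  obtain ⟨g, -, hgT, hgU, hgV⟩ := h.config_trans hG h'
  have hm : g * t * g⁻¹ ∈ (T' : Subgroup G) := hgT ▸ conj_mem_smul T ht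
  obtain ⟨q, -, hqU, hqV, hq⟩ := h'.pair_transitive hG hm
    (fun e => ht1 (by rwa [mul_inv_eq_one, mul_eq_left] at e)) ht' ht'1
  refine ⟨q * g, by rw [mul_smul, hgU, hqU], by rw [mul_smul, hgV, hqV], ?_, ?_⟩
  · rw [mul_smul, smul_smul_conj g t U, hgU, smul_smul_conj q, hq, hqU]
  · rw [mul_smul, smul_smul_conj g t V, hgV, smul_smul_conj q, hq, hqV]

theorem orbitClique_or (hG : Cfsg.IsM11 G) : OrbitClique G ∨
    ∀ (z : G) (T U V : Sylow 3 G), Tri z T U V → ∀ t ∈ (T : Subgroup G), t ≠ 1 → ¬ Adj U (t • U) := by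
  by_contra hh
  push Not at hh
  obtain ⟨h1, z, T, U, V, h, t, ht, ht1, hadj⟩ := hh
  refine h1 fun z' T' U' V' h' t' ht' ht'1 => ?_
  obtain ⟨g, hU, -, hgU, -⟩ := config_move hG h h' ht ht1 ht' ht'1
  have := hadj.conj g
  rwa [hU, hgU] at this

theorem orbitJoin_or (hG : Cfsg.IsM11 G) : OrbitJoin G ∨
    ∀ (z : G) (T U V : Sylow 3 G), Tri z T U V → ∀ t ∈ (T : Subgroup G), t ≠ 1 → ¬ Adj U (t • V) := by
  by_contra hh
  push Not at hh
  obtain ⟨h1, z, T, U, V, h, t, ht, ht1, hadj⟩ := hh
  refine h1 fun z' T' U' V' h' t' ht' ht'1 => ?_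
  obtain ⟨g, hU, -, -, hgV⟩ := config_move hG h h' ht ht1 ht' ht'1
  have := hadj.conj g
  rwa [hU, hgV] at this

theorem adj_orb (T : Sylow 3 G) {X Y : Sylow 3 G} {s : G} (hs : s ∈ (T : Subgroup G))
    (h : ∀ t ∈ (T : Subgroup G), Adj X (t • Y)) {W : Sylow 3 G} (hW : W ∈ Orb T Y) : Adj (s • X) W := by
  obtain ⟨t, ht, rfl⟩ := hW
  have h1 := (h (s⁻¹ * t) (mul_mem (inv_mem hs) ht)).conj s
  rwa [← mul_smul s (s⁻¹ * t), mul_inv_cancel_left] at h1

theorem smul_adj_set (T : Sylow 3 G) : ∀ g : G, {W | Adj (g • T) W} = (g • ·) '' {W | Adj T W} := by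
  intro g
  ext W
  constructor
  · intro h
    refine ⟨g⁻¹ • W, ?_, smul_inv_smul g W⟩
    have := h.conj g⁻¹
    rwa [inv_smul_smul] at this
  · rintro ⟨X, hX, rfl⟩
    exact hX.conj g

theorem Tri.nbr_eq (hG : Cfsg.IsM11 G) {z : G} {T U V : Sylow 3 G} (h : Tri z T U V) :
    {W | Adj T W} = Orb T U ∪ Orb T V := Set.ext fun _ => h.adj_iff hG

theorem nbr_ncard (hG : Cfsg.IsM11 G) (T : Sylow 3 G) : {W | Adj T W}.ncard = 18 := by
  obtain ⟨z, U, V, h⟩ := exists_config hG T
  rw [h.nbr_eq hG, Set.ncard_union_eq (h.disjoint hG), orb_ncard hG h.tu, orb_ncard hG h.tv]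

theorem fibre_dvd {α β : Type*} [Finite α] (F : α → β) (m : ℕ) (h : ∀ a, {b | F b = F a}.ncard = m) :
    m ∣ Nat.card α := by
  classical
  haveI : Fintype α := Fintype.ofFinite α
  rw [Nat.card_eq_fintype_card, ← Finset.card_univ, Finset.card_eq_sum_card_image F]
  refine Finset.dvd_sum fun y hy => ?_
  obtain ⟨a, -, rfl⟩ := Finset.mem_image.1 hy
  rw [← h a, ← Set.ncard_coe_finset]
  exact dvd_of_eq (congrArg Set.ncard (by ext b; simp))

theorem not_complete_join (hG : Cfsg.IsM11 G) (hA : OrbitClique G) (hB : OrbitJoin G) : False := by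
  let F : Sylow 3 G → Set (Sylow 3 G) := fun T => insert T {W | Adj T W}
  have hF : ∀ T W, Adj T W → F W = F T := by
    intro T U hU
    obtain ⟨z, V, h⟩ := hU
    have hsub : F T ⊆ F U := by
      rintro W (rfl | hW)
      · exact Or.inr (Adj.symm ⟨z, V, h⟩)
      · rcases (h.adj_iff hG).1 hW with ⟨t, ht, rfl⟩ | ⟨t, ht, rfl⟩
        · by_cases ht1 : t = 1
          · rw [ht1, one_smul]; exact Or.inl rfl
          · exact Or.inr (hA z T U V h t ht ht1)
        · by_cases ht1 : t = 1
          · rw [ht1, one_smul]; exact Or.inr (h.adj hG).2.2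
          · exact Or.inr (hB z T U V h t ht ht1)
    have hc : ∀ X, (F X).ncard = 19 := fun X => by
      show (insert X {W | Adj X W} : Set (Sylow 3 G)).ncard = 19
      rw [Set.ncard_insert_of_notMem (a := X) (s := {W | Adj X W}) (fun h' : Adj X X => h'.ne rfl), nbr_ncard hG X]
    exact (Set.eq_of_subset_of_ncard_le hsub (by rw [hc, hc]) (Set.toFinite _)).symm
  have := fibre_dvd F 19 fun T => by
    have : {b | F b = F T} = F T := by
      ext W
      constructor
      · intro (hW : F W = F T)
        rw [← hW]; exact Or.inl rfl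
      · rintro (rfl | hW)
        · rfl
        · exact hF T W hW
    rw [this]
    show (insert T {W | Adj T W} : Set (Sylow 3 G)).ncard = 19
    rw [Set.ncard_insert_of_notMem (a := T) (s := {W | Adj T W}) (fun h' : Adj T T => h'.ne rfl), nbr_ncard hG T]
  rw [(normalizer_three hG (Classical.arbitrary _)).1] at this
  omega

theorem not_bipartite_join (hG : Cfsg.IsM11 G)
    (hA : ∀ (z : G) (T U V : Sylow 3 G), Tri z T U V → ∀ t ∈ (T : Subgroup G), t ≠ 1 → ¬ Adj U (t • U))
    (hB : OrbitJoin G) : False := by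
  have join : ∀ {z : G} {T U V : Sylow 3 G}, Tri z T U V → ∀ t ∈ (T : Subgroup G), Adj U (t • V) := by
    intro z T U V h t ht
    by_cases ht1 : t = 1
    · rw [ht1, one_smul]; exact (h.adj hG).2.2
    · exact hB z T U V h t ht ht1
  have indep : ∀ {z : G} {T U V : Sylow 3 G}, Tri z T U V → ∀ W ∈ Orb T U, ¬ Adj U W := by
    rintro z T U V h W ⟨t, ht, rfl⟩ hadj
    by_cases ht1 : t = 1
    · rw [ht1, one_smul] at hadj; exact hadj.ne rfl
    · exact hA z T U V h t ht ht1 hadj
  let F : Sylow 3 G → Set (Sylow 3 G) := fun T => {W | Adj T W}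
  have hclass : ∀ {z : G} {T U V : Sylow 3 G}, Tri z T U V → {X | F X = F U}.ncard = 9 := by
    intro z T U V h
    have h' : Tri z V T U := h.swap.flip
    have hopp : Orb V U = Orb T U := by
      apply Set.eq_of_subset_of_ncard_le _ (by rw [orb_ncard hG h.uv.symm, orb_ncard hG h.tu]) (Set.toFinite _)
      rintro W ⟨t, ht, rfl⟩
      have hT : Adj T (t • U) := join h' t ht
      have hV : Adj V (t • U) := (h'.adj_iff hG).2 (Or.inr ⟨t, ht, rfl⟩)
      rcases (h.adj_iff hG).1 hT with e | e
      · exact e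
      · exact absurd hV (indep h.swap _ e)
    have hN : ∀ X ∈ Orb T U, F X = Orb T V ∪ Orb V T := by
      intro X hX
      have hsub : Orb T V ∪ Orb V T ⊆ F X := by
        rintro W (hW | hW)
        · obtain ⟨s, hs, rfl⟩ := hX
          exact adj_orb T hs (join h) hW
        · rw [← hopp] at hX
          obtain ⟨s, hs, rfl⟩ := hX
          exact adj_orb V hs (join h'.swap) hW
      refine (Set.eq_of_subset_of_ncard_le hsub ?_ (Set.toFinite _)).symm
      have hdis : Disjoint (Orb T V) (Orb V T) := Set.disjoint_left.2 fun W hW hW' =>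
        indep h.swap W hW ((h'.adj_iff hG).2 (Or.inl hW'))
      rw [Set.ncard_union_eq hdis, orb_ncard hG h.tv, orb_ncard hG h'.tu]
      exact (nbr_ncard hG X).le
    have hU : U ∈ Orb T U := ⟨1, one_mem _, one_smul G U⟩
    rw [show {X | F X = F U} = Orb T U from ?_, orb_ncard hG h.tu]
    ext X
    refine ⟨fun (hX : F X = F U) => ?_, fun hX => (hN X hX).trans (hN U hU).symm⟩
    have hT : T ∈ F X := hX ▸ (h.adj hG).1.symm
    rcases (h.adj_iff hG).1 (Adj.symm hT) with e | e
    · exact e
    · have h2 : X ∈ F U := by rw [hN U hU]; exact Or.inl e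
      rw [← hX] at h2
      exact absurd rfl h2.ne
  have := fibre_dvd F 9 fun U => by
    obtain ⟨z, T, V, h⟩ := exists_config hG U
    exact hclass h.flip
  rw [(normalizer_three hG (Classical.arbitrary _)).1] at this
  omega

theorem not_sparse (hG : Cfsg.IsM11 G)
    (hA : ∀ (z : G) (T U V : Sylow 3 G), Tri z T U V → ∀ t ∈ (T : Subgroup G), t ≠ 1 → ¬ Adj U (t • U))
    (hB : ∀ (z : G) (T U V : Sylow 3 G), Tri z T U V → ∀ t ∈ (T : Subgroup G), t ≠ 1 → ¬ Adj U (t • V)) :
    False := by
  classical
  haveI : Fintype (Sylow 3 G) := Fintype.ofFinite _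
  have h55 : Fintype.card (Sylow 3 G) = 55 := by
    rw [← Nat.card_eq_fintype_card, (normalizer_three hG (Classical.arbitrary _)).1]
  let nb : Sylow 3 G → Finset (Sylow 3 G) := fun T => Finset.univ.filter fun W => Adj T W
  have hnb : ∀ T, (nb T).card = 18 := fun T => by
    rw [← nbr_ncard hG T, ← Set.ncard_coe_finset]
    congr 1; ext W; simp [nb]
  have hone : ∀ {T U : Sylow 3 G}, Adj T U → (nb T ∩ nb U).card = 1 := by
    rintro T U ⟨z, V, h⟩
    rw [Finset.card_eq_one]
    refine ⟨V, Finset.ext fun W => ?_⟩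
    simp only [nb, Finset.mem_inter, Finset.mem_filter, Finset.mem_univ, true_and, Finset.mem_singleton]
    refine ⟨fun ⟨h1, h2⟩ => ?_, fun e => e ▸ ⟨(h.adj hG).2.1, (h.adj hG).2.2⟩⟩
    rcases (h.adj_iff hG).1 h1 with ⟨t, ht, rfl⟩ | ⟨t, ht, rfl⟩
    · by_cases ht1 : t = 1
      · rw [ht1, one_smul] at h2; exact absurd rfl h2.ne
      · exact absurd h2 (hA z T U V h t ht ht1)
    · by_cases ht1 : t = 1
      · rw [ht1, one_smul]
      · exact absurd h2 (hB z T U V h t ht ht1)
  let far : Sylow 3 G → Finset (Sylow 3 G) := fun T => Finset.univ.filter fun W => W ≠ T ∧ ¬ Adj T W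
  have hpart : ∀ T (s : Finset (Sylow 3 G)),
      s.card = (if T ∈ s then 1 else 0) + (nb T ∩ s).card + (far T ∩ s).card := by
    intro T s
    have e : s = s.filter (· = T) ∪ (nb T ∩ s) ∪ (far T ∩ s) := by
      ext W
      simp only [nb, far, Finset.mem_union, Finset.mem_inter, Finset.mem_filter, Finset.mem_univ, true_and]
      tauto
    conv_lhs => rw [e]
    rw [Finset.card_union_of_disjoint, Finset.card_union_of_disjoint]
    · rw [show s.filter (fun a => a = T) = if T ∈ s then {T} else ∅ from Finset.filter_eq' s T]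
      split_ifs with hT <;> simp
    · rw [Finset.disjoint_left]
      simp only [nb, Finset.mem_inter, Finset.mem_filter, Finset.mem_univ, true_and]
      rintro W ⟨-, rfl⟩ ⟨h1, -⟩
      exact h1.ne rfl
    · rw [Finset.disjoint_left]
      simp only [nb, far, Finset.mem_union, Finset.mem_inter, Finset.mem_filter, Finset.mem_univ, true_and]
      rintro W (⟨-, rfl⟩ | ⟨h1, -⟩) ⟨⟨h2, h3⟩, -⟩
      · exact h2 rfl
      · exact h3 h1
  have hfar : ∀ T, (far T).card = 36 := fun T => by
    have := hpart T Finset.univ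
    simp only [Finset.card_univ, h55, Finset.inter_univ, Finset.mem_univ, if_true, hnb T] at this
    omega
  -- the normaliser is transitive on the far points
  have htr : ∀ T W X, W ∈ far T → X ∈ far T → ∃ g : G, g • T = T ∧ g • W = X := by
    intro T W X hW hX
    obtain ⟨hWT, hWA⟩ := (Finset.mem_filter.1 hW).2
    set R := stabilizer G T ⊓ stabilizer G W with hR
    have hst : ∀ Y : Sylow 3 G, Nat.card (stabilizer G Y) = 144 := fun Y => by
      rw [Sylow.stabilizer_eq_normalizer]; exact (normalizer_three hG Y).2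
    have hR144 : Nat.card R ∣ 144 := hst T ▸ Subgroup.card_dvd_of_le inf_le_left
    have hR3 : ¬ 3 ∣ Nat.card R := fun h3 => by
      haveI := Fact.mk Nat.prime_three
      obtain ⟨y', hy⟩ := exists_prime_orderOf_dvd_card' (G := R) 3 h3
      have hy3 : orderOf (y' : G) = 3 := by rw [Subgroup.orderOf_coe, hy]
      have := semiregular hG (mem_of_three hG T hy3 (Sylow.smul_eq_iff_mem_normalizer.1 y'.2.1)) y'.2.2 hWT
      rw [this, orderOf_one] at hy3
      omega
    obtain ⟨k, hk16, hk⟩ : ∃ k ≤ 4, Nat.card R = 2 ^ k := by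
      have h16 : Nat.card R ∣ 2 ^ 4 := by
        have h9 : Nat.Coprime (Nat.card R) 9 := by
          rw [show (9 : ℕ) = 3 ^ 2 by norm_num]
          exact Nat.Coprime.pow_right _ (Nat.prime_three.coprime_iff_not_dvd.2 hR3).symm
        exact h9.dvd_of_dvd_mul_right (show Nat.card R ∣ 2 ^ 4 * 9 from hR144)
      exact (Nat.dvd_prime_pow Nat.prime_two).1 h16
    have hk2 : k ≤ 2 := by
      by_contra hk3
      -- a Sylow 2-subgroup of the normaliser of `W` containing `R`
      set N := Subgroup.normalizer ((W : Subgroup G) : Set G) with hN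
      have hRN : R ≤ N := fun g hg => Sylow.smul_eq_iff_mem_normalizer.1 hg.2
      obtain ⟨S0, hS0⟩ := IsPGroup.exists_le_sylow (G := N) (P := R.subgroupOf N)
        (IsPGroup.of_card (n := k) (by rw [Nat.card_congr (Subgroup.subgroupOfEquivOfLe hRN).toEquiv, hk]))
      obtain ⟨S, hS⟩ := (S0.isPGroup'.map N.subtype).exists_le_sylow
      have hS16 : Nat.card ((S0 : Subgroup N).map N.subtype) = 16 := by
        rw [Subgroup.card_map_of_injective Subtype.val_injective, S0.card_eq_multiplicity,
          show Nat.card N = 2 ^ 4 * 9 from (normalizer_three hG W).2,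
          Nat.factorization_mul (by norm_num) (by norm_num), Finsupp.add_apply,
          Nat.prime_two.factorization_pow, Finsupp.single_eq_same,
          Nat.factorization_eq_zero_of_not_dvd (by norm_num)]
        norm_num
      have hSeq : (S0 : Subgroup N).map N.subtype = (S : Subgroup G) :=
        Subgroup.eq_of_le_of_card_ge hS (by rw [card_sylow_two hG S, hS16])
      have hSN : (S : Subgroup G) ≤ N := hSeq ▸ Subgroup.map_subtype_le _
      have hRS : R ≤ (S : Subgroup G) := by
        intro g hg
        rw [← hSeq]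
        exact ⟨⟨g, hRN hg⟩, hS0 (Subgroup.mem_subgroupOf.2 hg), rfl⟩
      have hn : ∀ s ∈ (S : Subgroup G), ∀ a ∈ R, s * a * s⁻¹ ∈ R := by
        have hidx : (R.subgroupOf (S : Subgroup G)).index ∣ 2 := by
          have := (R.subgroupOf (S : Subgroup G)).index_mul_card
          rw [Nat.card_congr (Subgroup.subgroupOfEquivOfLe hRS).toEquiv, card_sylow_two hG S, hk] at this
          rcases (show k = 3 ∨ k = 4 by omega) with rfl | rfl
          · exact dvd_of_eq (by omega)
          · rw [show (R.subgroupOf (S : Subgroup G)).index = 1 by omega]; norm_num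
        have hnorm : (R.subgroupOf (S : Subgroup G)).Normal := by
          rcases (Nat.dvd_prime Nat.prime_two).1 hidx with e | e
          · rw [Subgroup.index_eq_one] at e; rw [e]; infer_instance
          · exact Subgroup.normal_of_index_eq_two e
        intro s hs a ha
        exact hnorm.conj_mem ⟨a, hRS ha⟩ ha ⟨s, hs⟩
      obtain ⟨r, hrR, hr, hrc⟩ := central_invol S R hRS hn (fun e => by
        rw [e, Subgroup.card_bot] at hk
        have : 2 ^ 1 ≤ 2 ^ k := Nat.pow_le_pow_right (by norm_num) (by omega)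
        omega)
      -- it inverts `W`
      obtain ⟨w, hwS, hw, hwc, hwi⟩ := inverter hG W S hSN
      have hrW : Inverts r W := by
        refine ⟨hr, fun t ht => ?_⟩
        rcases invert_or_centralise hG W hr (hSN (hRS hrR)) with hi | ⟨y, hy, hy3, hry⟩
        · exact hi t ht
        · exfalso
          refine no_central_invol hG W hr (Subgroup.mem_centralizer_iff.2 fun a ha => ?_)
          by_cases ha1 : a = 1
          · rw [ha1, one_mul, mul_one]
          obtain ⟨s, hs, rfl⟩ := normalizer_transitive hG W S hSN hy hy3 ha ha1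
          have e := hrc s hs
          have e' : s⁻¹ * r = r * s⁻¹ := by rw [inv_mul_eq_iff_eq_mul, ← mul_assoc, eq_mul_inv_iff_mul_eq, e]
          calc s * y * s⁻¹ * r = s * y * (s⁻¹ * r) := by group
            _ = s * (y * r) * s⁻¹ := by rw [e']; group
            _ = s * r * y * s⁻¹ := by rw [← hry]; group
            _ = r * (s * y * s⁻¹) := by rw [e]; group
      have hrT : ¬ ∀ t ∈ (T : Subgroup G), r * t * r⁻¹ = t⁻¹ := fun hi => by
        obtain ⟨V, hV⟩ := exists_tri hG (T := T) (U := W) ⟨hr, hi⟩ hrW hWT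
        exact hWA (hV.adj hG).1
      obtain ⟨y, hy, hy3, hry⟩ := (invert_or_centralise hG T hr
        (Sylow.smul_eq_iff_mem_normalizer.1 hrR.1)).resolve_left hrT
      -- `R` normalises the fixed points of `r` on `T`
      set E := R ⊓ Subgroup.centralizer ({y} : Set G) with hE
      have hE2 : Nat.card E ≤ 2 := by
        have h18 : Nat.card E ∣ 18 := centralizer_in_normalizer_three hG T hy hy3 ▸
          Subgroup.card_dvd_of_le (le_inf inf_le_right
            (fun g hg => Sylow.smul_eq_iff_mem_normalizer.1 hg.1.1))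
        have h16 : Nat.card E ∣ 16 := by
          refine (Subgroup.card_dvd_of_le inf_le_left).trans ?_
          rw [hk]; exact pow_dvd_pow 2 hk16
        exact Nat.le_of_dvd (by norm_num) (by simpa using Nat.dvd_gcd h18 h16)
      have hsign : ∀ g ∈ R, g * y * g⁻¹ = y ∨ g * y * g⁻¹ = y⁻¹ := by
        intro g hg
        have hgN := Sylow.smul_eq_iff_mem_normalizer.1 hg.1
        refine conj_mem_zpowers_three hy3 ?_
        have hgy := (Subgroup.mem_normalizer_iff.1 hgN y).1 hy
        by_contra hz
        refine no_central_invol hG T hr (Subgroup.mem_centralizer_iff.2 fun a ha => ?_)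
        refine Subgroup.mem_centralizer_singleton_iff.1 (sylow_le_of_two hG T hy hy3 hgy hz
          (H := Subgroup.centralizer ({r} : Set G)) (Subgroup.mem_centralizer_singleton_iff.2 hry.symm)
          (Subgroup.mem_centralizer_singleton_iff.2 ?_) ha)
        have e := hrc g (hRS hg)
        have e' : g⁻¹ * r = r * g⁻¹ := by rw [inv_mul_eq_iff_eq_mul, ← mul_assoc, eq_mul_inv_iff_mul_eq, e]
        calc g * y * g⁻¹ * r = g * y * (g⁻¹ * r) := by group
          _ = g * (y * r) * g⁻¹ := by rw [e']; group
          _ = g * r * y * g⁻¹ := by rw [← hry]; group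
          _ = r * (g * y * g⁻¹) := by rw [e]; group
      have hRE : Nat.card R ≤ 2 * Nat.card E := by
        rcases le_or_gt (Nat.card R) (2 * Nat.card E) with h | h
        · exact h
        exfalso
        haveI : Fintype R := Fintype.ofFinite _
        have hs : ∀ b : R, ((b : G) * y * (b : G)⁻¹ = y ↔ (b : G) ∈ E) := fun b => by
          rw [hE, Subgroup.mem_inf, Subgroup.mem_centralizer_singleton_iff, mul_inv_eq_iff_eq_mul]
          simp [b.2]
        have h1 : (Finset.univ.filter fun b : R => (b : G) ∈ E).card = Nat.card E := by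
          rw [← Fintype.card_subtype, ← Nat.card_eq_fintype_card]
          exact Nat.card_congr
            { toFun := fun b => ⟨(b : R), b.2⟩
              invFun := fun b => ⟨⟨b, b.2.1⟩, b.2⟩
              left_inv := fun b => rfl
              right_inv := fun b => rfl }
        have h2 : (Finset.univ.filter fun b : R => (b : G) ∉ E).card ≤ Nat.card E := by
          rcases (Finset.univ.filter fun b : R => (b : G) ∉ E).eq_empty_or_nonempty with e | ⟨c, hc⟩
          · rw [e]; simp
          rw [← h1]
          refine Finset.card_le_card_of_injOn (fun b => c⁻¹ * b) (fun b hb => ?_)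
            fun a _ b _ e => mul_left_cancel e
          simp only [Finset.mem_coe, Finset.mem_filter, Finset.mem_univ, true_and] at hb hc ⊢
          rw [← hs] at hb hc ⊢
          have eb := (hsign b b.2).resolve_left hb
          have ec := (hsign c c.2).resolve_left hc
          push_cast
          calc (c : G)⁻¹ * b * y * ((c : G)⁻¹ * b)⁻¹ = (c : G)⁻¹ * ((b : G) * y * (b : G)⁻¹) * c := by group
            _ = y := by rw [eb, ← ec]; group
        have h3 := Finset.card_filter_add_card_filter_not (s := Finset.univ) (fun b : R => (b : G) ∈ E)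
        rw [Finset.card_univ, ← Nat.card_eq_fintype_card, h1] at h3
        omega
      have : 2 ^ 3 ≤ 2 ^ k := Nat.pow_le_pow_right (by norm_num) (by omega)
      omega
    have horb : orbit (stabilizer G T) W = ↑(far T) := by
      refine Set.eq_of_subset_of_ncard_le ?_ ?_ (Set.toFinite _)
      · rintro _ ⟨⟨g, hg⟩, rfl⟩
        simp only [far, Finset.coe_filter, Finset.mem_univ, true_and, Set.mem_setOf_eq]
        refine ⟨fun e => hWT (MulAction.injective g (e.trans (mem_stabilizer_iff.1 hg).symm)), fun e => hWA ?_⟩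
        have e' : Adj (g • T) (g • W) := by rw [mem_stabilizer_iff.1 hg]; exact e
        exact (adj_smul_iff g).1 e'
      · rw [Set.ncard_coe_finset, hfar, ← index_stabilizer]
        have e : Nat.card (stabilizer (stabilizer G T) W) = Nat.card R :=
          Nat.card_congr
            { toFun := fun g => ⟨((g : stabilizer G T) : G), (g : stabilizer G T).2, g.2⟩
              invFun := fun g => ⟨⟨(g : G), g.2.1⟩, g.2.2⟩
              left_inv := fun g => rfl
              right_inv := fun g => rfl }
        have h1 := (stabilizer (stabilizer G T) W).index_mul_card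
        rw [e, hst T, hk] at h1
        have : 2 ^ k ≤ 2 ^ 2 := Nat.pow_le_pow_right (by norm_num) hk2
        nlinarith
    obtain ⟨⟨g, hg⟩, hge⟩ : X ∈ orbit (stabilizer G T) W := by rw [horb]; exact hX
    exact ⟨g, mem_stabilizer_iff.1 hg, hge⟩
  -- eight common neighbours for far points
  have height : ∀ T W, W ∈ far T → (nb T ∩ nb W).card = 8 := by
    intro T W hW
    have hconst : ∀ X ∈ far T, (nb T ∩ nb X).card = (nb T ∩ nb W).card := by
      intro X hX
      obtain ⟨g, hgT, rfl⟩ := htr T W X hW hX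
      refine (Finset.card_bij (fun Y _ => g • Y) ?_ (fun a _ b _ e => MulAction.injective g e) ?_).symm
      · intro Y hY
        simp only [nb, Finset.mem_inter, Finset.mem_filter, Finset.mem_univ, true_and] at hY ⊢
        have h1 := hY.1.conj g
        rw [hgT] at h1
        exact ⟨h1, hY.2.conj g⟩
      · intro Y hY
        simp only [nb, Finset.mem_inter, Finset.mem_filter, Finset.mem_univ, true_and] at hY ⊢
        obtain ⟨Z, rfl⟩ := MulAction.surjective g Y
        have h1 := hY.1
        rw [← hgT, adj_smul_iff] at h1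
        exact ⟨Z, ⟨h1, (adj_smul_iff g).1 hY.2⟩, rfl⟩
    have hsum : ∑ X ∈ far T, (nb T ∩ nb X).card = ∑ U ∈ nb T, (far T ∩ nb U).card := by
      have e1 : ∀ X, (nb T ∩ nb X).card = ∑ U ∈ nb T, if Adj X U then 1 else 0 := fun X => by
        rw [← Finset.card_filter]; congr 1; ext U; simp [nb]
      have e2 : ∀ U, (far T ∩ nb U).card = ∑ X ∈ far T, if Adj X U then 1 else 0 := fun U => by
        rw [← Finset.card_filter]; congr 1; ext X
        simp only [nb, Finset.mem_inter, Finset.mem_filter, Finset.mem_univ, true_and]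
        exact and_congr_right fun _ => ⟨Adj.symm, Adj.symm⟩
      simp only [e1, e2]
      exact Finset.sum_comm
    have h16 : ∀ U ∈ nb T, (far T ∩ nb U).card = 16 := by
      intro U hU
      have hadj : Adj T U := (Finset.mem_filter.1 hU).2
      have := hpart T (nb U)
      rw [hnb U, hone hadj, if_pos (Finset.mem_filter.2 ⟨Finset.mem_univ _, hadj.symm⟩)] at this
      omega
    rw [Finset.sum_congr rfl hconst, Finset.sum_congr rfl h16, Finset.sum_const, Finset.sum_const, hfar, hnb,
      smul_eq_mul, smul_eq_mul] at hsum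
    omega
  -- the adjacency matrix
  refine no_srg_55 h55 (Matrix.of fun T U => if Adj T U then (1 : ℝ) else 0) (Matrix.of fun _ _ => 1) (fun _ _ => rfl)
    (fun T => if_neg fun h => h.ne rfl) ?_ ?_ ?_
  · ext T U
    simp only [Matrix.mul_apply, Matrix.of_apply, mul_one, Matrix.smul_apply, smul_eq_mul]
    rw [← Finset.sum_filter, Finset.sum_const, nsmul_one]
    exact_mod_cast hnb T
  · ext T U
    simp only [Matrix.mul_apply, Matrix.of_apply, one_mul, mul_one, Matrix.smul_apply, smul_eq_mul]
    rw [← Finset.sum_filter, Finset.sum_const, nsmul_one]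
    have : (Finset.univ.filter fun W => Adj W U) = nb U :=
      Finset.filter_congr fun W _ => ⟨Adj.symm, Adj.symm⟩
    rw [this]
    exact_mod_cast hnb U
  · ext T U
    have e : ∑ W, (if Adj T W then (1 : ℝ) else 0) * (if Adj W U then (1 : ℝ) else 0) = ((nb T ∩ nb U).card : ℝ) := by
      rw [show ((nb T ∩ nb U).card : ℝ) = ∑ W, if W ∈ nb T ∩ nb U then (1 : ℝ) else 0 by rw [Finset.sum_boole, Finset.filter_univ_mem]]
      refine Finset.sum_congr rfl fun W _ => ?_
      have : (W ∈ nb T ∩ nb U) ↔ Adj T W ∧ Adj W U := by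
        simp only [nb, Finset.mem_inter, Finset.mem_filter, Finset.mem_univ, true_and]
        exact and_congr_right fun _ => ⟨Adj.symm, Adj.symm⟩
      by_cases h1 : Adj T W <;> by_cases h2 : Adj W U <;> simp [this, h1, h2]
    simp only [Matrix.mul_apply, Matrix.of_apply, Matrix.sub_apply, Matrix.add_apply, Matrix.smul_apply, smul_eq_mul]
    rw [e]
    rcases eq_or_ne U T with rfl | hne
    · rw [Finset.inter_self, hnb, if_neg (fun h => Adj.ne h rfl), Matrix.one_apply_eq]; norm_num
    rw [Matrix.one_apply_ne hne.symm]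
    by_cases hadj : Adj T U
    · rw [hone hadj, if_pos hadj]; norm_num
    · rw [height T U (Finset.mem_filter.2 ⟨Finset.mem_univ _, hne, hadj⟩), if_neg hadj]; norm_num

/-- The neighbourhood of a point consists of two cliques, matched to each other. -/
theorem two_cliques (hG : Cfsg.IsM11 G) : OrbitClique G ∧
    ∀ (z : G) (T U V : Sylow 3 G), Tri z T U V → ∀ t ∈ (T : Subgroup G), t ≠ 1 → ¬ Adj U (t • V) := by
  rcases orbitClique_or hG with hA | hA <;> rcases orbitJoin_or hG with hB | hB
  · exact (not_complete_join hG hA hB).elim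
  · exact ⟨hA, hB⟩
  · exact (not_bipartite_join hG hA hB).elim
  · exact (not_sparse hG hA hB).elim

end Cfsg.Agent.MathieuEleven
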