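import Cfsg.Agent.Lib.Small.MathieuEleven.Counts

/-!
A simple group of order 7920 is determined by its commuting graph.
-/

set_option autoImplicit false
set_option linter.style.haveILetI false

namespace Cfsg.Agent.MathieuEleven

theorem isM11_of_commuting {H M : Type*} [Group H] [Finite H] [Group M] [Finite M] (hM : Cfsg.IsM11 M)
    (f : {h : H // h ≠ 1} ≃ {g : M // g ≠ 1})
    (hf : ∀ x y : {h : H // h ≠ 1}, (x : H) * y = y * x ↔ ((f x) : M) * (f y) = (f y) * (f x)) :
    Cfsg.IsM11 H := by
  classical
  obtain ⟨φ, hφ1, hφc⟩ : ∃ φ : H ≃ M, φ 1 = 1 ∧ ∀ x y : H, x * y = y * x ↔ φ x * φ y = φ y * φ x := by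
    let φ : H ≃ M :=
      { toFun := fun x => if h : x = 1 then 1 else (f ⟨x, h⟩ : M)
        invFun := fun y => if h : y = 1 then 1 else (f.symm ⟨y, h⟩ : H)
        left_inv := fun x => by
          by_cases h : x = 1
          · simp [h]
          · simp only [dif_neg h, dif_neg (f ⟨x, h⟩).2]
            simp
        right_inv := fun y => by
          by_cases h : y = 1
          · simp [h]
          · simp only [dif_neg h, dif_neg (f.symm ⟨y, h⟩).2]
            simp }
    refine ⟨φ, by simp [φ], fun x y => ?_⟩
    by_cases hx : x = 1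
    · simp [φ, hx]
    by_cases hy : y = 1
    · simp [φ, hy]
    simp only [φ, Equiv.coe_fn_mk, dif_neg hx, dif_neg hy]
    exact hf ⟨x, hx⟩ ⟨y, hy⟩
  have hcard : Nat.card H = 7920 := (Nat.card_congr φ).trans (hM.2.trans (by norm_num))
  have hC : ∀ x : H, Nat.card (Subgroup.centralizer ({x} : Set H)) =
      Nat.card (Subgroup.centralizer ({φ x} : Set M)) := fun x =>
    Nat.card_congr (Equiv.subtypeEquiv φ fun y => by
      rw [Subgroup.mem_centralizer_singleton_iff, Subgroup.mem_centralizer_singleton_iff, hφc])
  have hone : ∀ x : H, orderOf x = 11 → orderOf (φ x) = 11 := by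
    intro x hx
    by_contra hne
    have h1 : φ x ≠ 1 := fun e => by
      have : x = 1 := φ.injective (e.trans hφ1.symm)
      rw [this, orderOf_one] at hx; omega
    refine not_eleven_dvd_centralizer hM h1 hne ?_
    rw [← hC x, ← hx]
    exact Subgroup.orderOf_dvd_natCard _ (Subgroup.mem_centralizer_singleton_iff.2 rfl)
  have hcent : ∀ x : H, orderOf x = 11 → Nat.card (Subgroup.centralizer ({x} : Set H)) = 11 := fun x hx =>
    (hC x).trans (centralizer_eleven hM (hone x hx))
  have hback : ∀ x : H, orderOf (φ x) = 11 → orderOf x = 11 := by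
    intro x hx
    have h := Subgroup.orderOf_dvd_natCard (Subgroup.centralizer ({x} : Set H)) (x := x)
      (Subgroup.mem_centralizer_singleton_iff.2 rfl)
    rw [hC x, centralizer_eleven hM hx] at h
    rcases (Nat.dvd_prime (by norm_num : Nat.Prime 11)).1 h with e | e
    · rw [orderOf_eq_one_iff.1 e, hφ1, orderOf_one] at hx; omega
    · exact e
  have hP : ∀ P : Sylow 11 H, Nat.card (P : Subgroup H) = 11 := fun P => by
    rw [P.card_eq_multiplicity, hcard, show (7920 : ℕ) = 11 ^ 1 * 720 by norm_num,
      Nat.factorization_mul (by norm_num) (by norm_num), Finsupp.add_apply,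
      (by norm_num : Nat.Prime 11).factorization_pow, Finsupp.single_eq_same,
      Nat.factorization_eq_zero_of_not_dvd (by norm_num)]
    norm_num
  have hcount := count_prime 10 hP (fun P a ha h => prime_order hP P a ha h) (prime_unique hP)
  have he : Nat.card {x : H // orderOf x = 11} = Nat.card {g : M // orderOf g = 11} :=
    Nat.card_congr (Equiv.subtypeEquiv φ fun x => ⟨hone x, hback x⟩)
  rw [he, count_eleven hM] at hcount
  exact ⟨simple_of_eleven hcard (by omega) hcent, hcard.trans (by norm_num)⟩

end Cfsg.Agent.MathieuEleven
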