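import Cfsg.Agent.Lib.Small.MathieuEleven.Struct

/-!
The numbers of elements of each order, and recognition of simplicity from them.
-/

set_option autoImplicit false
set_option linter.style.haveILetI false
set_option linter.unusedSectionVars false

namespace Cfsg.Agent.MathieuEleven

open MulAction

variable {G : Type*} [Group G] [Finite G]

theorem sylow_mul_normalizer {p : ℕ} [Fact p.Prime] (P : Sylow p G) :
    Nat.card (Sylow p G) * Nat.card (Subgroup.normalizer ((P : Subgroup G) : Set G)) = Nat.card G := by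
  rw [Sylow.card_eq_index_normalizer P]
  exact Subgroup.index_mul_card _

theorem count_prime {p : ℕ} [Fact p.Prime] (m : ℕ) (hcard : ∀ P : Sylow p G, Nat.card (P : Subgroup G) = m + 1)
    (hord : ∀ (P : Sylow p G), ∀ a ∈ (P : Subgroup G), a ≠ 1 → orderOf a = p)
    (huniq : ∀ (P Q : Sylow p G) (a : G), a ≠ 1 → a ∈ (P : Subgroup G) → a ∈ (Q : Subgroup G) → Q = P) :
    Nat.card {g : G // orderOf g = p} = Nat.card (Sylow p G) * m := by
  classical
  haveI : Fintype (Sylow p G) := Fintype.ofFinite _
  let f : (Σ P : Sylow p G, {a : (P : Subgroup G) // a ≠ 1}) → {g : G // orderOf g = p} :=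
    fun x => ⟨(x.2.1 : G), hord x.1 _ x.2.1.2 fun e => x.2.2 (Subtype.ext e)⟩
  have hf : Function.Bijective f := by
    constructor
    · rintro ⟨P, ⟨a, ha⟩, ha1⟩ ⟨Q, ⟨b, hb⟩, hb1⟩ e
      obtain rfl : a = b := congrArg Subtype.val e
      obtain rfl : Q = P := huniq P Q a (fun e => ha1 (Subtype.ext e)) ha hb
      rfl
    · rintro ⟨g, hg⟩
      obtain ⟨P, hP⟩ := (IsPGroup.of_card (n := 1) (by rw [Nat.card_zpowers, hg, pow_one]) :
        IsPGroup p (Subgroup.zpowers g)).exists_le_sylow
      refine ⟨⟨P, ⟨g, hP (Subgroup.mem_zpowers g)⟩, fun e => ?_⟩, rfl⟩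
      have e' : g = 1 := congrArg Subtype.val e
      rw [e', orderOf_one] at hg
      exact (Fact.out : p.Prime).ne_one hg.symm
  rw [← Nat.card_congr (Equiv.ofBijective f hf), Nat.card_sigma]
  have h1 : ∀ P : Sylow p G, Nat.card {a : (P : Subgroup G) // a ≠ 1} = m := fun P => by
    haveI : Fintype (P : Subgroup G) := Fintype.ofFinite _
    rw [Nat.card_eq_fintype_card, Fintype.card_subtype_compl, Fintype.card_subtype_eq, ← Nat.card_eq_fintype_card,
      hcard P]
    rfl
  rw [Finset.sum_congr rfl fun P _ => h1 P, Finset.sum_const, Finset.card_univ, smul_eq_mul,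
    Nat.card_eq_fintype_card]

theorem prime_unique {p : ℕ} [Fact p.Prime] (hcard : ∀ P : Sylow p G, Nat.card (P : Subgroup G) = p)
    (P Q : Sylow p G) (a : G) (ha : a ≠ 1) (hP : a ∈ (P : Subgroup G)) (hQ : a ∈ (Q : Subgroup G)) : Q = P := by
  have hz : ∀ R : Sylow p G, a ∈ (R : Subgroup G) → Subgroup.zpowers a = (R : Subgroup G) := fun R hR => by
    have ho : orderOf a = p := by
      rcases (Nat.dvd_prime (Fact.out : p.Prime)).1 (hcard R ▸ Subgroup.orderOf_dvd_natCard _ hR) with e | e
      · exact absurd (orderOf_eq_one_iff.1 e) ha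
      · exact e
    exact Subgroup.eq_of_le_of_card_ge ((Subgroup.zpowers_le).2 hR) (by rw [Nat.card_zpowers, ho, hcard R])
  exact Sylow.ext ((hz Q hQ).symm.trans (hz P hP))

theorem prime_order {p : ℕ} [Fact p.Prime] (hcard : ∀ P : Sylow p G, Nat.card (P : Subgroup G) = p)
    (P : Sylow p G) (a : G) (hP : a ∈ (P : Subgroup G)) (ha : a ≠ 1) : orderOf a = p := by
  rcases (Nat.dvd_prime (Fact.out : p.Prime)).1 (hcard P ▸ Subgroup.orderOf_dvd_natCard _ hP) with e | e
  · exact absurd (orderOf_eq_one_iff.1 e) ha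
  · exact e

theorem count_eleven (hG : Cfsg.IsM11 G) : Nat.card {g : G // orderOf g = 11} = 1440 := by
  have hc := card_sylow_eleven hG
  rw [count_prime 10 hc (fun P a ha h => prime_order hc P a ha h) (prime_unique hc),
    (eleven_local hG (Classical.arbitrary _)).1]

theorem count_five (hG : Cfsg.IsM11 G) : Nat.card {g : G // orderOf g = 5} = 1584 := by
  have hc := card_sylow_five hG
  rw [count_prime 4 hc (fun P a ha h => prime_order hc P a ha h) (prime_unique hc),
    (five_local hG (Classical.arbitrary _)).1]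

theorem count_three (hG : Cfsg.IsM11 G) : Nat.card {g : G // orderOf g = 3} = 440 := by
  rw [count_prime 8 (card_sylow_three hG) (fun P a ha h => order_three_of_mem hG P ha h)
    (fun _ _ a ha hP hQ => eq_of_common hG ha hP hQ), (normalizer_three hG (Classical.arbitrary _)).1]

theorem odd_order (hG : Cfsg.IsM11 G) (g : G) (h : ¬ 2 ∣ orderOf g) :
    orderOf g = 1 ∨ orderOf g = 3 ∨ orderOf g = 5 ∨ orderOf g = 11 := by
  have hpos := orderOf_pos g
  by_cases h11 : 11 ∣ orderOf g
  · obtain ⟨m, hm⟩ := h11
    have hm0 : m ≠ 0 := fun e => by rw [e, mul_zero] at hm; omega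
    have ho : orderOf (g ^ m) = 11 := by
      rw [orderOf_pow' _ hm0, hm, Nat.gcd_mul_left_left, Nat.mul_div_cancel _ (Nat.pos_of_ne_zero hm0)]
    have := Subgroup.orderOf_dvd_natCard (Subgroup.centralizer ({g ^ m} : Set G)) (x := g)
      (Subgroup.mem_centralizer_singleton_iff.2 ((Commute.refl g).pow_right m).eq)
    rw [centralizer_eleven hG ho] at this
    rcases (Nat.dvd_prime (by norm_num : Nat.Prime 11)).1 this with e | e <;> omega
  by_cases h5 : 5 ∣ orderOf g
  · obtain ⟨m, hm⟩ := h5
    have hm0 : m ≠ 0 := fun e => by rw [e, mul_zero] at hm; omega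
    have ho : orderOf (g ^ m) = 5 := by
      rw [orderOf_pow' _ hm0, hm, Nat.gcd_mul_left_left, Nat.mul_div_cancel _ (Nat.pos_of_ne_zero hm0)]
    have h10 := (Subgroup.orderOf_dvd_natCard (Subgroup.centralizer ({g ^ m} : Set G)) (x := g)
      (Subgroup.mem_centralizer_singleton_iff.2 ((Commute.refl g).pow_right m).eq)).trans (centralizer_five hG ho)
    have := Nat.le_of_dvd (by norm_num) h10
    interval_cases hc : orderOf g <;> omega
  have hd : orderOf g ∣ 3 ^ 2 * (2 ^ 4 * (5 * 11)) := by
    have := orderOf_dvd_natCard g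
    rw [hG.2] at this
    simpa using this
  have hcop : (orderOf g).Coprime (2 ^ 4 * (5 * 11)) :=
    Nat.Coprime.mul_right (Nat.Coprime.pow_right _ (Nat.prime_two.coprime_iff_not_dvd.2 h).symm)
      (Nat.Coprime.mul_right (Nat.prime_five.coprime_iff_not_dvd.2 h5).symm
        ((by norm_num : Nat.Prime 11).coprime_iff_not_dvd.2 h11).symm)
  have h9 := hcop.dvd_of_dvd_mul_right hd
  obtain ⟨T, hT⟩ := (IsPGroup.of_card (n := ((orderOf g).factorization 3)) (by
    rw [Nat.card_zpowers]
    obtain ⟨j, -, hj⟩ := (Nat.dvd_prime_pow Nat.prime_three).1 h9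
    rw [hj, Nat.prime_three.factorization_pow, Finsupp.single_eq_same]) :
    IsPGroup 3 (Subgroup.zpowers g)).exists_le_sylow
  by_cases h1 : g = 1
  · exact Or.inl (by rw [h1, orderOf_one])
  · exact Or.inr (Or.inl (order_three_of_mem hG T (hT (Subgroup.mem_zpowers g)) h1))

theorem even_count (hG : Cfsg.IsM11 G) {n : ℕ} (hn : 2 ∣ n) :
    165 ∣ Nat.card {g : G // orderOf g = n} := by
  classical
  haveI : Fintype G := Fintype.ofFinite G
  rcases Nat.eq_zero_or_pos n with rfl | hn0
  · haveI : IsEmpty {g : G // orderOf g = 0} := ⟨fun g => (orderOf_pos g.1).ne' g.2⟩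
    rw [Nat.card_of_isEmpty]; exact dvd_zero _
  obtain ⟨v, hv⟩ := exists_prime_orderOf_dvd_card' (G := G) 2 (by rw [hG.2]; norm_num)
  obtain ⟨m, rfl⟩ := hn
  have hm : m ≠ 0 := by omega
  let f : {g : G // orderOf g = 2 * m} → {z : G // orderOf z = 2} := fun g => ⟨(g : G) ^ m, by
    rw [orderOf_pow' _ hm, g.2, Nat.gcd_mul_left_left, Nat.mul_div_cancel _ (Nat.pos_of_ne_zero hm)]⟩
  have h1 : ∀ z : {z : G // orderOf z = 2}, Nat.card {g // f g = z} = Nat.card {g // f g = ⟨v, hv⟩} := by
    rintro ⟨z, hz⟩
    obtain ⟨c, rfl⟩ := isConj_iff.1 ((involutions hG hv).2 z hz)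
    refine (Nat.card_congr (Equiv.subtypeEquiv
      (Equiv.subtypeEquiv (MulAut.conj c).toEquiv fun g => ?_) fun g => ?_)).symm
    · show orderOf g = 2 * m ↔ orderOf (c * g * c⁻¹) = 2 * m
      rw [order_conj]
    · simp only [f, Subtype.ext_iff, Equiv.subtypeEquiv_apply]
      show (g : G) ^ m = v ↔ (c * g * c⁻¹) ^ m = c * v * c⁻¹
      rw [conj_pow]
      exact ⟨fun e => by rw [e], fun e => mul_left_cancel (mul_right_cancel e)⟩
  rw [← Nat.card_congr (Equiv.sigmaFiberEquiv f), Nat.card_sigma, Finset.sum_congr rfl fun z _ => h1 z,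
    Finset.sum_const, Finset.card_univ, smul_eq_mul, ← Nat.card_eq_fintype_card, card_inv hG hv]
  exact Dvd.intro _ rfl
where
  card_inv (hG : Cfsg.IsM11 G) {v : G} (hv : orderOf v = 2) : Nat.card {z : G // orderOf z = 2} = 165 := by
    have h := class_mul_centralizer v
    rw [(involutions hG hv).1, hG.2] at h
    have e : Nat.card {x : G // IsConj v x} = Nat.card {z : G // orderOf z = 2} :=
      Nat.card_congr (Equiv.subtypeEquivRight fun x => ⟨fun h' => by
        obtain ⟨g, rfl⟩ := isConj_iff.1 h'; rw [order_conj, hv], (involutions hG hv).2 x⟩)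
    omega

theorem count_values (hG : Cfsg.IsM11 G) {n : ℕ} (h : 0 < Nat.card {g : G // orderOf g = n}) :
    Nat.card {g : G // orderOf g = n} = 1 ∨ Nat.card {g : G // orderOf g = n} = 440 ∨
    Nat.card {g : G // orderOf g = n} = 1440 ∨ Nat.card {g : G // orderOf g = n} = 1584 ∨
    165 ∣ Nat.card {g : G // orderOf g = n} := by
  obtain ⟨⟨g, hg⟩⟩ := (Nat.card_pos_iff.1 h).1
  by_cases h2 : 2 ∣ n
  · exact Or.inr (Or.inr (Or.inr (Or.inr (even_count hG h2))))
  rcases odd_order hG g (hg ▸ h2) with e | e | e | e <;> rw [hg] at e <;> subst e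
  · refine Or.inl (Nat.card_eq_one_iff_unique.2 ⟨⟨fun a b => Subtype.ext ?_⟩, ⟨⟨1, orderOf_one⟩⟩⟩)
    rw [orderOf_eq_one_iff.1 a.2, orderOf_eq_one_iff.1 b.2]
  · exact Or.inr (Or.inl (count_three hG))
  · exact Or.inr (Or.inr (Or.inr (Or.inl (count_five hG))))
  · exact Or.inr (Or.inr (Or.inl (count_eleven hG)))

/-- A group of order 7920 with 144 self-centralising Sylow 11-subgroups and normalisers of order 55 is simple. -/
theorem simple_of_eleven (hcard : Nat.card G = 7920) (h144 : Nat.card (Sylow 11 G) = 144)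
    (hcent : ∀ x : G, orderOf x = 11 → Nat.card (Subgroup.centralizer ({x} : Set G)) = 11) : IsSimpleGroup G := by
  classical
  have hP : ∀ P : Sylow 11 G, Nat.card (P : Subgroup G) = 11 := fun P => by
    rw [P.card_eq_multiplicity, hcard, show (7920 : ℕ) = 11 ^ 1 * 720 by norm_num,
      Nat.factorization_mul (by norm_num) (by norm_num), Finsupp.add_apply,
      (by norm_num : Nat.Prime 11).factorization_pow, Finsupp.single_eq_same,
      Nat.factorization_eq_zero_of_not_dvd (by norm_num)]
    norm_num
  haveI : Nontrivial G := Finite.one_lt_card_iff_nontrivial.1 (by omega)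
  -- normal subgroups of order prime to 11
  have key : ∀ N : Subgroup G, N.Normal → ¬ 11 ∣ Nat.card N → N = ⊥ := by
    intro N hN h11
    by_contra hne
    have h1 : Nat.card N ≠ 1 := fun e => hne (Subgroup.card_eq_one.1 e)
    obtain ⟨q, hq, hqN⟩ := Nat.exists_prime_and_dvd h1
    haveI := Fact.mk hq
    haveI := hN
    obtain ⟨Q⟩ : Nonempty (Sylow q N) := inferInstance
    have htop := Sylow.normalizer_sup_eq_top Q
    set M := (Q : Subgroup N).map N.subtype with hM
    have hM11 : 11 ∣ Nat.card (Subgroup.normalizer (M : Set G)) := by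
      have hsurj : Function.Surjective ((QuotientGroup.mk' N).comp (Subgroup.normalizer (M : Set G)).subtype) := by
        intro y
        obtain ⟨g, rfl⟩ := QuotientGroup.mk'_surjective N y
        have hg : g ∈ Subgroup.normalizer (M : Set G) ⊔ N := by rw [htop]; exact Subgroup.mem_top g
        rw [← SetLike.mem_coe, Subgroup.mul_normal] at hg
        obtain ⟨a, ha, n, hn, rfl⟩ := hg
        exact ⟨⟨a, ha⟩, by
          show (QuotientGroup.mk' N) a = (QuotientGroup.mk' N) (a * n)
          rw [map_mul, show (QuotientGroup.mk' N) n = 1 from (QuotientGroup.eq_one_iff n).2 hn, mul_one]⟩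
      refine dvd_trans ?_ (Subgroup.card_dvd_of_surjective _ hsurj)
      have hd := N.index_mul_card
      have : 11 ∣ N.index * Nat.card N := by rw [hd, hcard]; norm_num
      exact ((Nat.Prime.dvd_mul (by norm_num)).1 this).resolve_right h11
    obtain ⟨x', hx⟩ := exists_prime_orderOf_dvd_card' (G := Subgroup.normalizer (M : Set G)) 11 hM11
    have hxo : orderOf (x' : G) = 11 := by rw [Subgroup.orderOf_coe, hx]
    have hMc : Nat.card M = Nat.card (Q : Subgroup N) := Subgroup.card_map_of_injective Subtype.val_injective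
    obtain ⟨k, hk⟩ := Q.isPGroup'.exists_card_eq
    have hMd : Nat.card M ∣ 720 := by
      have h7 : Nat.card M ∣ 11 * 720 := by
        have := Subgroup.card_subgroup_dvd_card M; rwa [hcard] at this
      refine Nat.Coprime.dvd_of_dvd_mul_left ?_ h7
      refine (((by norm_num : Nat.Prime 11)).coprime_iff_not_dvd.2 fun h => h11 ?_).symm
      exact h.trans (hMc ▸ Subgroup.card_subgroup_dvd_card (Q : Subgroup N))
    have hk0 : k ≠ 0 := fun e => by
      refine Q.ne_bot_of_dvd_card hqN (Subgroup.card_eq_one.1 ?_)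
      rw [hk, e, pow_zero]
    haveI : Finite M := inferInstance
    let φ : Subgroup.zpowers (x' : Subgroup.normalizer (M : Set G)) →* MulAut M :=
      (M.normalizerMonoidHom).comp (Subgroup.zpowers x').subtype
    letI : MulAction (Subgroup.zpowers x') M := MulAction.compHom _ φ
    have hxp : IsPGroup 11 (Subgroup.zpowers x') := IsPGroup.of_card (n := 1) (by rw [Nat.card_zpowers, hx, pow_one])
    have hmod := hxp.card_modEq_card_fixedPoints M
    have hne1 : Nat.card (fixedPoints (Subgroup.zpowers x') M) ≠ 1 := fun e => by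
      rw [e, hMc, hk] at hmod
      have hqk : q ^ k ∣ 720 := hk ▸ hMc ▸ hMd
      have hmod' : q ^ k % 11 = 1 := hmod
      rcases div_720 _ (Nat.lt_succ_of_le (Nat.le_of_dvd (by norm_num) hqk)) hqk hmod' with h | h | h | h
      · exact absurd h (by
          have := Nat.one_lt_pow hk0 hq.one_lt
          omega)
      all_goals
        exact absurd h fun h => by
          have h3 : 3 ∣ q ^ k := h ▸ by norm_num
          have := (Nat.prime_dvd_prime_iff_eq Nat.prime_three hq).1 (Nat.prime_three.dvd_of_dvd_pow h3)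
          subst this
          have h25 : 2 ∣ (3 : ℕ) ^ k ∨ 5 ∣ (3 : ℕ) ^ k := by rw [h]; norm_num
          rcases h25 with h' | h'
          · exact absurd (Nat.prime_two.dvd_of_dvd_pow h') (by norm_num)
          · exact absurd (Nat.prime_five.dvd_of_dvd_pow h') (by norm_num)
    obtain ⟨⟨c, hc⟩, hc1⟩ : ∃ c : fixedPoints (Subgroup.zpowers x') M, ((c : M) : G) ≠ 1 := by
      by_contra hh; push Not at hh
      refine hne1 (Nat.card_eq_one_iff_unique.2 ⟨⟨fun a b => Subtype.ext (Subtype.ext ((hh a).trans (hh b).symm))⟩,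
        ⟨⟨1, fun s => Subtype.ext (show ((s : Subgroup.normalizer (M : Set G)) : G) * 1 *
          ((s : Subgroup.normalizer (M : Set G)) : G)⁻¹ = 1 by group)⟩⟩⟩)
    have hcomm : (c : G) * (x' : G) = (x' : G) * c :=
      (mul_inv_eq_iff_eq_mul.1 (congrArg Subtype.val (hc ⟨x', Subgroup.mem_zpowers x'⟩))).symm
    have h11c := Subgroup.orderOf_dvd_natCard (Subgroup.centralizer ({(x' : G)} : Set G))
      (Subgroup.mem_centralizer_singleton_iff.2 hcomm)
    rw [hcent _ hxo] at h11c
    rcases (Nat.dvd_prime (by norm_num : Nat.Prime 11)).1 h11c with e | e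
    · exact hc1 (orderOf_eq_one_iff.1 e)
    · refine h11 (e ▸ Subgroup.orderOf_dvd_natCard N ?_)
      exact Subgroup.map_subtype_le _ c.2
  refine ⟨fun N hN => ?_⟩
  by_cases h11 : 11 ∣ Nat.card N
  swap
  · exact Or.inl (key N hN h11)
  refine Or.inr ?_
  haveI := hN
  have hall : ∀ P : Sylow 11 G, (P : Subgroup G) ≤ N := by
    intro P
    obtain ⟨x, hx⟩ := exists_prime_orderOf_dvd_card' (G := N) 11 h11
    obtain ⟨P₀, hP₀⟩ := (IsPGroup.of_card (n := 1) (by rw [Nat.card_zpowers, Subgroup.orderOf_coe, hx, pow_one]) :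
      IsPGroup 11 (Subgroup.zpowers (x : G))).exists_le_sylow
    have e : Subgroup.zpowers (x : G) = (P₀ : Subgroup G) :=
      Subgroup.eq_of_le_of_card_ge hP₀ (by rw [Nat.card_zpowers, Subgroup.orderOf_coe, hx, hP P₀])
    obtain ⟨g, rfl⟩ := MulAction.exists_smul_eq G P₀ P
    intro a ha
    have h' := (mem_smul_sylow P₀).1 ha
    rw [← e] at h'
    have h'' := hN.conj_mem _ ((Subgroup.zpowers_le).2 x.2 h') g
    rwa [show g * (g⁻¹ * a * g) * g⁻¹ = a by group] at h''
  by_contra htop
  obtain ⟨P⟩ : Nonempty (Sylow 11 G) := inferInstance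
  obtain ⟨-, hprod, -⟩ := sylow_count_in P (hall P)
  rw [Nat.card_congr (Equiv.subtypeUnivEquiv hall), h144] at hprod
  set NP := Subgroup.normalizer ((P : Subgroup G) : Set G) with hNP
  have hNP55 : Nat.card NP = 55 := by
    have h := sylow_mul_normalizer P
    rw [h144, hcard] at h
    rw [hNP]; omega
  have hNlt : Nat.card N < 7920 := by
    rcases lt_or_ge (Nat.card N) 7920 with h | h
    · exact h
    · exact absurd (Subgroup.eq_top_of_card_eq N (le_antisymm (Subgroup.card_le_card_group N) (hcard ▸ h))) htop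
  have hd : Nat.card ↥(N ⊓ NP) ∣ 11 * 5 := by
    have := Subgroup.card_dvd_of_le (inf_le_right : N ⊓ NP ≤ NP)
    rwa [hNP55] at this
  have hPd : 11 ∣ Nat.card ↥(N ⊓ NP) :=
    hP P ▸ Subgroup.card_dvd_of_le (le_inf (hall P) Subgroup.le_normalizer)
  have hNN : Nat.card ↥(N ⊓ NP) = 11 := by
    obtain ⟨a, ha⟩ := hPd
    have ha5 : a ∣ 5 := Nat.dvd_of_mul_dvd_mul_left (by norm_num : 0 < 11) (by rwa [← ha])
    rcases (Nat.dvd_prime Nat.prime_five).1 ha5 with rfl | rfl
    · exact ha
    · omega
  -- the transfer complement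
  obtain ⟨P', hP'⟩ : ∃ P' : Sylow 11 N, P' = P.subtype (hall P) := ⟨_, rfl⟩
  have hP'c : Nat.card (P' : Subgroup N) = 11 := by
    rw [hP']
    exact (Nat.card_congr (Subgroup.subgroupOfEquivOfLe (hall P)).toEquiv).trans (hP P)
  have hcen : Subgroup.normalizer ((P' : Subgroup N) : Set N) ≤ Subgroup.centralizer ((P' : Subgroup N) : Set N) := by
    have hle : (P' : Subgroup N) ≤ Subgroup.normalizer ((P' : Subgroup N) : Set N) := Subgroup.le_normalizer
    have hcd := Nat.card (Subgroup.normalizer ((P' : Subgroup N) : Set N))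
    have heq : Subgroup.normalizer ((P' : Subgroup N) : Set N) = (P' : Subgroup N) := by
      refine (Subgroup.eq_of_le_of_card_ge hle ?_).symm
      have h := sylow_mul_normalizer P'
      have h2 : Nat.card (Sylow 11 N) = 144 := by
        rw [← h144]
        refine Nat.card_congr (Equiv.ofBijective (fun Q : Sylow 11 G => Q.subtype (hall Q))
          ⟨fun a b hab => Sylow.subtype_injective hab, fun R => ?_⟩).symm
        obtain ⟨g, hg⟩ := MulAction.exists_smul_eq N (P.subtype (hall P)) R
        refine ⟨(g : G) • P, ?_⟩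
        rw [← hg, Sylow.smul_subtype (hP := hall P)]
        rfl
      rw [h2, ← hprod, hNN] at h
      rw [hP'c]; omega
    rw [heq]
    exact fun a ha => Subgroup.mem_centralizer_iff.2 fun b hb => comm_of_prime hP'c b hb a ha
  have hcompl := MonoidHom.ker_transferSylow_isComplement' P' hcen
  set f := MonoidHom.transferSylow P' hcen
  have hK : Nat.card f.ker = 144 := by
    have := hcompl.card_mul_card
    rw [hP'c, ← hprod, hNN] at this
    omega
  -- the elements of order dividing 144
  have hmem : ∀ a : N, a ∈ f.ker ↔ (a : G) ^ 144 = 1 := by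
    intro a
    constructor
    · intro ha
      have := orderOf_dvd_iff_pow_eq_one.1 (hK ▸ Subgroup.orderOf_dvd_natCard _ ha)
      exact congrArg Subtype.val this
    · intro ha
      rw [MonoidHom.mem_ker]
      have h1 : f a ^ 144 = 1 := by
        rw [← map_pow, show a ^ 144 = 1 from Subtype.ext ha, map_one]
      have h2 : f a ^ 11 = 1 := orderOf_dvd_iff_pow_eq_one.1 ((orderOf_dvd_natCard (f a)).trans (dvd_of_eq hP'c))
      simpa using (pow_gcd_eq_one.2 ⟨h1, h2⟩ : f a ^ Nat.gcd 144 11 = 1)
  have hKn : (f.ker.map N.subtype).Normal := by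
    constructor
    rintro _ ⟨a, ha, rfl⟩ g
    refine ⟨⟨g * a * g⁻¹, hN.conj_mem _ a.2 g⟩, (hmem _).2 ?_, rfl⟩
    show (g * (a : G) * g⁻¹) ^ 144 = 1
    rw [conj_pow, (hmem a).1 ha, mul_one, mul_inv_cancel]
  have hKc : Nat.card (f.ker.map N.subtype) = 144 := by
    rw [Subgroup.card_map_of_injective Subtype.val_injective, hK]
  have := key _ hKn (by rw [hKc]; norm_num)
  rw [this, Subgroup.card_bot] at hKc
  omega

/-- Recognition from the order and the set of numbers of elements of equal order. -/
theorem isM11_of_counts {M : Type*} [Group M] [Finite M] (hM : Cfsg.IsM11 M) (hcard : Nat.card G = Nat.card M)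
    (hnse : {c : ℕ | 0 < c ∧ ∃ n : ℕ, c = Nat.card {g : G // orderOf g = n}} =
      {c : ℕ | 0 < c ∧ ∃ n : ℕ, c = Nat.card {g : M // orderOf g = n}}) : Cfsg.IsM11 G := by
  classical
  rw [hM.2] at hcard
  have hcard' : Nat.card G = 7920 := hcard.trans (by norm_num)
  have hval : ∀ n, 0 < Nat.card {g : G // orderOf g = n} →
      Nat.card {g : G // orderOf g = n} = 1 ∨ Nat.card {g : G // orderOf g = n} = 440 ∨
      Nat.card {g : G // orderOf g = n} = 1440 ∨ Nat.card {g : G // orderOf g = n} = 1584 ∨
      165 ∣ Nat.card {g : G // orderOf g = n} := by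
    intro n hn
    obtain ⟨hp, m, hm⟩ := (Set.ext_iff.1 hnse (Nat.card {g : G // orderOf g = n})).1 ⟨hn, n, rfl⟩
    rw [hm] at hp ⊢
    exact count_values hM hp
  have hP : ∀ P : Sylow 11 G, Nat.card (P : Subgroup G) = 11 := fun P => by
    rw [P.card_eq_multiplicity, hcard', show (7920 : ℕ) = 11 ^ 1 * 720 by norm_num,
      Nat.factorization_mul (by norm_num) (by norm_num), Finsupp.add_apply,
      (by norm_num : Nat.Prime 11).factorization_pow, Finsupp.single_eq_same,
      Nat.factorization_eq_zero_of_not_dvd (by norm_num)]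
    norm_num
  obtain ⟨P⟩ : Nonempty (Sylow 11 G) := inferInstance
  have h144 : Nat.card (Sylow 11 G) = 144 := by
    have hmod : Nat.card (Sylow 11 G) % 11 = 1 := card_sylow_modEq_one 11 G
    have hd : Nat.card (Sylow 11 G) ∣ 720 := by
      have h := P.card_dvd_index
      have h' := (P : Subgroup G).index_mul_card
      rw [hP P, hcard'] at h'
      rwa [show (P : Subgroup G).index = 720 by omega] at h
    have hcount := count_prime 10 hP (fun P a ha h => prime_order hP P a ha h) (prime_unique hP)
    have hpos : 0 < Nat.card {g : G // orderOf g = 11} := by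
      rw [hcount]
      have : 0 < Nat.card (Sylow 11 G) := Nat.card_pos
      omega
    have := hval 11 hpos
    rw [hcount] at this
    rcases div_720 _ (Nat.lt_succ_of_le (Nat.le_of_dvd (by norm_num) hd)) hd hmod with h | h | h | h <;>
      rw [h] at this <;> first | exact h | omega
  have hcent : ∀ x : G, orderOf x = 11 → Nat.card (Subgroup.centralizer ({x} : Set G)) = 11 := by
    intro x hx
    obtain ⟨Q, hQ⟩ := (IsPGroup.of_card (n := 1) (by rw [Nat.card_zpowers, hx, pow_one]) :
      IsPGroup 11 (Subgroup.zpowers x)).exists_le_sylow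
    have e : Subgroup.zpowers x = (Q : Subgroup G) :=
      Subgroup.eq_of_le_of_card_ge hQ (by rw [Nat.card_zpowers, hx, hP Q])
    rw [← centralizer_gen e]
    have hd : Nat.card (Subgroup.centralizer ((Q : Subgroup G) : Set G)) ∣ 11 * 5 := by
      have hN : Nat.card (Subgroup.normalizer ((Q : Subgroup G) : Set G)) = 55 := by
        have h := sylow_mul_normalizer Q
        rw [h144, hcard'] at h
        omega
      have := Subgroup.card_dvd_of_le (Subgroup.centralizer_le_normalizer ((Q : Subgroup G) : Set G))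
      rwa [hN] at this
    obtain ⟨a, ha⟩ := self_dvd_centralizer (hP Q)
    have ha5 : a ∣ 5 := Nat.dvd_of_mul_dvd_mul_left (by norm_num : 0 < 11) (by rwa [← ha])
    rcases (Nat.dvd_prime Nat.prime_five).1 ha5 with rfl | rfl
    · exact ha
    exfalso
    -- elements of order 55: forty in each centraliser
    have h55 : Nat.card {g : G // orderOf g = 55} = 5760 := by
      haveI : Fintype (Sylow 11 G) := Fintype.ofFinite _
      have hC : ∀ R : Sylow 11 G, Nat.card (Subgroup.centralizer ((R : Subgroup G) : Set G)) = 55 := by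
        intro R
        obtain ⟨g, rfl⟩ := MulAction.exists_smul_eq G Q R
        refine le_antisymm ?_ ?_
        · have hN := Subgroup.card_dvd_of_le
            (Subgroup.centralizer_le_normalizer (((g • Q : Sylow 11 G) : Subgroup G) : Set G))
          have h := sylow_mul_normalizer (g • Q)
          rw [h144, hcard'] at h
          have := Nat.le_of_dvd (Nat.card_pos) hN
          omega
        · rw [← show Nat.card (Subgroup.centralizer ((Q : Subgroup G) : Set G)) = 55 from ha]
          exact Nat.card_le_card_of_injective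
            (fun a => ⟨g * a * g⁻¹, conj_centralizer_smul Q a.2⟩)
            (fun a b e => Subtype.ext (mul_left_cancel (mul_right_cancel (congrArg Subtype.val e))))
      let f : (Σ R : Sylow 11 G, {a : Subgroup.centralizer ((R : Subgroup G) : Set G) // orderOf a = 55}) →
          {g : G // orderOf g = 55} := fun x => ⟨(x.2.1 : G), by rw [Subgroup.orderOf_coe]; exact x.2.2⟩
      have hfifth : ∀ (R : Sylow 11 G) (b : G), b ∈ Subgroup.centralizer ((R : Subgroup G) : Set G) →
          orderOf b = 55 → Subgroup.zpowers (b ^ 5) = (R : Subgroup G) := by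
        intro R b hb hb55
        have h5 : orderOf (b ^ 5) = 11 := by
          rw [orderOf_pow' _ (by norm_num), hb55]; norm_num
        refine Subgroup.eq_of_le_of_card_ge ((Subgroup.zpowers_le).2 ?_) (by rw [Nat.card_zpowers, h5, hP R])
        exact mem_of_normalises ⟨1, by rw [pow_one, ← h5, pow_orderOf_eq_one]⟩ R
          (pow_mem (Subgroup.centralizer_le_normalizer _ hb) 5)
      have hf : Function.Bijective f := by
        constructor
        · rintro ⟨R, ⟨a, haR⟩, ha55⟩ ⟨R', ⟨b, hbR⟩, hb55⟩ e'
          obtain rfl : a = b := congrArg Subtype.val e'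
          have ho : orderOf a = 55 := by rw [← ha55, Subgroup.orderOf_mk]
          obtain rfl : R = R' := Sylow.ext ((hfifth R a haR ho).symm.trans (hfifth R' a hbR ho))
          rfl
        · rintro ⟨b, hb55⟩
          have h5 : orderOf (b ^ 5) = 11 := by
            rw [orderOf_pow' _ (by norm_num), hb55]; norm_num
          obtain ⟨R, hR⟩ := (IsPGroup.of_card (n := 1) (by rw [Nat.card_zpowers, h5, pow_one]) :
            IsPGroup 11 (Subgroup.zpowers (b ^ 5))).exists_le_sylow
          have eR : Subgroup.zpowers (b ^ 5) = (R : Subgroup G) :=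
            Subgroup.eq_of_le_of_card_ge hR (by rw [Nat.card_zpowers, h5, hP R])
          have hbR : b ∈ Subgroup.centralizer ((R : Subgroup G) : Set G) := by
            rw [centralizer_gen eR]
            exact Subgroup.mem_centralizer_singleton_iff.2 ((Commute.refl b).pow_right 5).eq
          exact ⟨⟨R, ⟨b, hbR⟩, by rw [Subgroup.orderOf_mk, hb55]⟩, rfl⟩
      have hphi : ∀ R : Sylow 11 G,
          Nat.card {a : Subgroup.centralizer ((R : Subgroup G) : Set G) // orderOf a = 55} = 40 := by
        intro R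
        set C := Subgroup.centralizer ((R : Subgroup G) : Set G)
        haveI : Fintype C := Fintype.ofFinite _
        obtain ⟨b, hb⟩ := exists_prime_orderOf_dvd_card' (G := C) 5 (by rw [hC R]; norm_num)
        obtain ⟨c, hcR, hco, -⟩ := gen_prime (hP R)
        have hcC : c ∈ C := Subgroup.mem_centralizer_iff.2 fun d hd => comm_of_prime (hP R) d hd c hcR
        have hcomm : Commute b ⟨c, hcC⟩ := Subtype.ext (Subgroup.mem_centralizer_iff.1 b.2 c hcR).symm
        have ho : orderOf (b * ⟨c, hcC⟩) = Nat.card C := by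
          rw [hcomm.orderOf_mul_eq_mul_orderOf_of_coprime (by rw [hb, Subgroup.orderOf_mk, hco]; norm_num), hb,
            Subgroup.orderOf_mk, hco, hC R]
        haveI : IsCyclic C := isCyclic_of_orderOf_eq_card _ ho
        rw [Nat.card_eq_fintype_card, Fintype.card_subtype,
          IsCyclic.card_orderOf_eq_totient (α := C) (by rw [← Nat.card_eq_fintype_card, hC R]), show (55 : ℕ) = 5 * 11 by norm_num,
          Nat.totient_mul (by norm_num), Nat.totient_prime Nat.prime_five, Nat.totient_prime (by norm_num)]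
      rw [← Nat.card_congr (Equiv.ofBijective f hf), Nat.card_sigma, Finset.sum_congr rfl fun R _ => hphi R,
        Finset.sum_const, Finset.card_univ, ← Nat.card_eq_fintype_card, h144, smul_eq_mul]
    have := hval 55 (by rw [h55]; norm_num)
    rw [h55] at this
    omega
  exact ⟨simple_of_eleven hcard' h144 hcent, hcard⟩

end Cfsg.Agent.MathieuEleven
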