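import Mathlib

/-!
The numerical search behind the character degrees of a simple group of order 7920.
-/

set_option autoImplicit false

namespace Cfsg.Agent.MathieuEleven.DegSearch

/-- Lower bound for the norm at an element of order eleven. -/
def mEl (d : ℕ) : ℕ := d * d % 11

/-- The value at an element of order five. -/
def vFive (d : ℕ) : ℤ :=
  if d % 5 = 0 then 0 else if d % 5 = 1 then 1 else if d % 5 = 2 then 2 else if d % 5 = 3 then -2 else -1

/-- Its square. -/
def cFive (d : ℕ) : ℕ := if d % 5 = 0 then 0 else if d % 5 = 1 ∨ d % 5 = 4 then 1 else 4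

/-- The candidate degrees. -/
def cand : List ℕ :=
  [88, 80, 72, 66, 60, 55, 48, 45, 44, 40, 36, 33, 30, 24, 22, 20, 18, 16, 15, 12, 11, 10, 9, 8, 6, 5, 4, 3, 2]

/-- All multiplicity vectors meeting the constraints. -/
def search : List ℕ → ℕ → ℕ → ℕ → ℤ → List (List ℕ)
  | [], s, _, n, l => if s = 0 ∧ n = 0 ∧ l = 0 then [[]] else []
  | d :: ds, s, e, n, l =>
    if d < 55 ∧ (e + n) * (d * d) < s then [] else
    (List.range (s / (d * d) + 1)).flatMap fun k =>
      if k * mEl d ≤ e ∧ k * cFive d ≤ n then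
        (search ds (s - k * (d * d)) (e - k * mEl d) (n - k * cFive d) (l + (k : ℤ) * (vFive d * d))).map (k :: ·)
      else []

theorem mem_search (cnt : ℕ → ℕ) : ∀ (ds : List ℕ) (s e n : ℕ) (l : ℤ),
    (∀ d ∈ ds, 0 < d) → ds.Pairwise (· ≥ ·) → (∀ d ∈ ds, d < 55 → 1 ≤ mEl d + cFive d) → (ds.map fun d => cnt d * (d * d)).sum = s → (ds.map fun d => cnt d * mEl d).sum ≤ e →
    (ds.map fun d => cnt d * cFive d).sum = n → l + (ds.map fun d => (cnt d : ℤ) * (vFive d * d)).sum = 0 →
    ds.map cnt ∈ search ds s e n l := by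
  intro ds
  induction ds with
  | nil =>
    intro s e n l _ _ _ hs _ hn hl
    simp only [List.map_nil, List.sum_nil] at hs hn hl
    simp only [search, List.map_nil]
    rw [if_pos ⟨hs.symm, hn.symm, by simpa using hl⟩]
    simp
  | cons d ds ih =>
    intro s e n l hpos hord hw hs he hn hl
    simp only [List.map_cons, List.sum_cons] at hs he hn hl ⊢
    have hd : 0 < d * d := Nat.mul_pos (hpos d List.mem_cons_self) (hpos d List.mem_cons_self)
    simp only [search]
    rw [if_neg ?_]
    swap
    · rintro ⟨h55, hlt⟩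
      have hb : ∀ a ∈ d :: ds, cnt a * (a * a) ≤ d * d * (cnt a * mEl a + cnt a * cFive a) := by
        intro a ha
        have hle : a ≤ d := by
          rcases List.mem_cons.1 ha with rfl | ha'
          · exact le_rfl
          · exact (List.pairwise_cons.1 hord).1 a ha'
        calc cnt a * (a * a) ≤ cnt a * (d * d) := Nat.mul_le_mul_left _ (Nat.mul_le_mul hle hle)
          _ ≤ d * d * (cnt a * mEl a + cnt a * cFive a) := by
            rw [← mul_add, mul_comm (cnt a), mul_left_comm]
            exact Nat.le_mul_of_pos_right _ (hw a ha (by omega)) |>.trans (le_of_eq (by ring))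
      have hsum := List.sum_le_sum hb
      rw [List.sum_map_mul_left, List.sum_map_add] at hsum
      simp only [List.map_cons, List.sum_cons] at hsum
      nlinarith
    simp only [List.mem_flatMap, List.mem_range]
    refine ⟨cnt d, ?_, ?_⟩
    · rw [Nat.lt_succ_iff, Nat.le_div_iff_mul_le hd]; omega
    · rw [if_pos ⟨by omega, by omega⟩, List.mem_map]
      refine ⟨ds.map cnt, ih _ _ _ _ (fun a ha => hpos a (List.mem_cons_of_mem _ ha)) (List.pairwise_cons.1 hord).2
        (fun a ha => hw a (List.mem_cons_of_mem _ ha)) (by omega) (by omega)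
        (by omega) (by linarith), rfl⟩

theorem unique_solution : search cand 7919 10 4 1 =
    [[0, 0, 0, 0, 0, 1, 0, 1, 1, 0, 0, 0, 0, 0, 0, 0, 0, 2, 0, 0, 1, 3, 0, 0, 0, 0, 0, 0, 0]] := by
  decide +kernel

theorem cand_complete : ∀ d : ℕ, d < 89 → 2 ≤ d → d ∣ 7920 → d ∈ cand := by
  decide +kernel

theorem cand_ordered : cand.Pairwise (· ≥ ·) := by decide

theorem cand_weight : ∀ d ∈ cand, d < 55 → 1 ≤ mEl d + cFive d := by decide

theorem cand_pos : ∀ d ∈ cand, 0 < d := by decide

end Cfsg.Agent.MathieuEleven.DegSearch
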