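import Cfsg.Agent.Lib.Small.MathieuEleven.Three

/-!
The normaliser of a Sylow 3-subgroup, involution centralisers and trivial intersections.
-/

set_option autoImplicit false
set_option linter.style.haveILetI false
set_option linter.unusedSectionVars false

namespace Cfsg.Agent.MathieuEleven

open MulAction

variable {G : Type*} [Group G] [Finite G]

/-- The automorphism orbit: a Sylow 2-subgroup of the normaliser is transitive on the non-trivial elements. -/
theorem normalizer_transitive (hG : Cfsg.IsM11 G) (T : Sylow 3 G) (S : Sylow 2 G)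
    (hSN : (S : Subgroup G) ≤ Subgroup.normalizer ((T : Subgroup G) : Set G))
    {y t : G} (hy : y ∈ (T : Subgroup G)) (hy3 : orderOf y = 3) (ht : t ∈ (T : Subgroup G)) (ht1 : t ≠ 1) :
    ∃ s ∈ (S : Subgroup G), s * y * s⁻¹ = t := by
  classical
  set Y := Subgroup.zpowers y with hY
  have hconj : ∀ s ∈ (S : Subgroup G), ∀ a ∈ (T : Subgroup G), s * a * s⁻¹ ∈ (T : Subgroup G) :=
    fun s hs a ha => (Subgroup.mem_normalizer_iff.1 (hSN hs) a).1 ha
  have hST : ∀ s ∈ (S : Subgroup G), (∀ a ∈ (T : Subgroup G), s * a * s⁻¹ = a) → s = 1 := by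
    intro s hs h
    have hc : s ∈ (T : Subgroup G) := cent_eq hG T ▸
      Subgroup.mem_centralizer_iff.2 fun a ha => (mul_inv_eq_iff_eq_mul.1 (h a ha)).symm
    have h1 := Subgroup.orderOf_dvd_natCard _ hc
    have h2 := Subgroup.orderOf_dvd_natCard _ hs
    rw [card_sylow_three hG T] at h1
    rw [card_sylow_two hG S] at h2
    exact orderOf_eq_one_iff.1 (Nat.eq_one_of_dvd_coprimes (by norm_num) h2 h1)
  obtain ⟨t₀, ht₀, ht₀Y⟩ : ∃ t₀ ∈ (T : Subgroup G), t₀ ∉ Y := by
    by_contra hh; push Not at hh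
    have := Subgroup.card_dvd_of_le (show (T : Subgroup G) ≤ Y from hh)
    rw [card_sylow_three hG T, hY, Nat.card_zpowers, hy3] at this; omega
  set Sy : Subgroup G := (S : Subgroup G) ⊓ Subgroup.centralizer ({y} : Set G) with hSy
  have hYfix : ∀ s ∈ Sy, ∀ q ∈ Y, s * q * s⁻¹ = q := by
    intro s hs q hq
    obtain ⟨i, rfl⟩ := Subgroup.mem_zpowers_iff.1 hq
    rw [← conj_zpow, mul_inv_eq_iff_eq_mul.2 (Subgroup.mem_centralizer_singleton_iff.1 (Subgroup.mem_inf.1 hs).2)]
  -- an element fixing `y` and the coset of `t₀` is trivial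
  have hplus : ∀ s ∈ Sy, t₀⁻¹ * (s * t₀ * s⁻¹) ∈ Y → s = 1 := by
    intro s hs hq
    obtain ⟨q, hq', hqe⟩ : ∃ q ∈ Y, s * t₀ * s⁻¹ = t₀ * q := ⟨_, hq, (mul_inv_cancel_left _ _).symm⟩
    have hit : ∀ n : ℕ, s ^ n * t₀ * (s ^ n)⁻¹ = t₀ * q ^ n := by
      intro n
      induction n with
      | zero => simp
      | succ n ih =>
        calc s ^ (n + 1) * t₀ * (s ^ (n + 1))⁻¹ = s * (s ^ n * t₀ * (s ^ n)⁻¹) * s⁻¹ := by group
          _ = (s * t₀ * s⁻¹) * (s * q ^ n * s⁻¹) := by rw [ih]; group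
          _ = t₀ * q * q ^ n := by rw [hqe, hYfix s hs _ (pow_mem hq' n)]
          _ = t₀ * q ^ (n + 1) := by rw [pow_succ']; group
    have hs16 : s ^ 16 = 1 := orderOf_dvd_iff_pow_eq_one.1
      (card_sylow_two hG S ▸ Subgroup.orderOf_dvd_natCard _ (Subgroup.mem_inf.1 hs).1)
    have h := hit 16
    rw [hs16, inv_one, mul_one, one_mul, left_eq_mul] at h
    have hq3 : q ^ 3 = 1 := orderOf_dvd_iff_pow_eq_one.1 (by
      have := Subgroup.orderOf_dvd_natCard _ hq'
      rwa [hY, Nat.card_zpowers, hy3] at this)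
    have hq1 : q = 1 := by simpa using (pow_gcd_eq_one.2 ⟨h, hq3⟩ : q ^ Nat.gcd 16 3 = 1)
    rw [hq1, mul_one] at hqe
    refine hST s (Subgroup.mem_inf.1 hs).1 fun a ha => ?_
    exact mul_inv_eq_iff_eq_mul.2 (Subgroup.mem_centralizer_singleton_iff.1 (sylow_le_of_two hG T hy hy3 ht₀ ht₀Y
      (H := Subgroup.centralizer ({s} : Set G))
      (Subgroup.mem_centralizer_singleton_iff.2 (Subgroup.mem_centralizer_singleton_iff.1 (Subgroup.mem_inf.1 hs).2).symm)
      (Subgroup.mem_centralizer_singleton_iff.2 (mul_inv_eq_iff_eq_mul.1 hqe).symm) ha)).symm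
  -- a non-trivial one inverts the coset
  have hminus : ∀ s ∈ Sy, s ≠ 1 → t₀ * (s * t₀ * s⁻¹) ∈ Y := by
    intro s hs hs1
    have hYT : Y.subgroupOf (T : Subgroup G) = Y.subgroupOf (T : Subgroup G) := rfl
    have hidx : (Y.subgroupOf (T : Subgroup G)).index = 3 := by
      have := (Y.subgroupOf (T : Subgroup G)).index_mul_card
      rw [Nat.card_congr (Subgroup.subgroupOfEquivOfLe ((Subgroup.zpowers_le).2 hy)).toEquiv, card_sylow_three hG T,
        hY, Nat.card_zpowers, hy3] at this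
      rw [hY]; omega
    by_contra hne
    haveI hn : (Y.subgroupOf (T : Subgroup G)).Normal := ⟨fun a ha g => by
      have e : g * a * g⁻¹ = a := Subtype.ext (by
        show (g : G) * a * (g : G)⁻¹ = a
        rw [sylow_comm hG T _ g.2 _ a.2, mul_inv_cancel_right])
      rw [e]; exact ha⟩
    let π := QuotientGroup.mk' (Y.subgroupOf (T : Subgroup G))
    set a : (T : Subgroup G) := ⟨t₀, ht₀⟩ with ha
    set b : (T : Subgroup G) := ⟨s * t₀ * s⁻¹, hconj s (Subgroup.mem_inf.1 hs).1 t₀ ht₀⟩ with hb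
    have hcard : Nat.card ((T : Subgroup G) ⧸ Y.subgroupOf (T : Subgroup G)) = 3 := hidx
    have ha1 : π a ≠ 1 := fun e => ht₀Y (Subgroup.mem_subgroupOf.1 ((QuotientGroup.eq_one_iff _).1 e))
    have hb1 : π b ≠ 1 := fun e => by
      have h1 := Subgroup.mem_subgroupOf.1 ((QuotientGroup.eq_one_iff _).1 e)
      have h2 := hYfix s⁻¹ (inv_mem hs) _ h1
      refine ht₀Y ?_
      rw [show t₀ = s⁻¹ * (s * t₀ * s⁻¹) * s⁻¹⁻¹ by group]
      change s⁻¹ * (s * t₀ * s⁻¹) * s⁻¹⁻¹ = s * t₀ * s⁻¹ at h2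
      rw [h2]; exact h1
    have hab : π a ≠ π b := fun e => hs1 (hplus s hs (by
      have := (QuotientGroup.eq (s := Y.subgroupOf (T : Subgroup G))).1 e
      exact Subgroup.mem_subgroupOf.1 this))
    have hab' : π a * π b ≠ 1 := fun e => hne (by
      rw [← map_mul] at e
      exact Subgroup.mem_subgroupOf.1 ((QuotientGroup.eq_one_iff _).1 e))
    haveI : Fintype ((T : Subgroup G) ⧸ Y.subgroupOf (T : Subgroup G)) := Fintype.ofFinite _
    have h4 : ({1, π a, π b, π a * π b} : Finset _).card ≤ 3 := by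
      exact (Finset.card_le_univ _).trans_eq (Nat.card_eq_fintype_card.symm.trans hcard)
    have hab3 : π a * π b ≠ π a := fun e => hb1 (by simpa using e)
    have hab4 : π a * π b ≠ π b := fun e => ha1 (by simpa using e)
    rw [Finset.card_insert_of_notMem (by simp [Ne.symm ha1, Ne.symm hb1, Ne.symm hab']),
      Finset.card_insert_of_notMem (by simp [hab, Ne.symm hab3]),
      Finset.card_insert_of_notMem (by simp [Ne.symm hab4]), Finset.card_singleton] at h4
    omega
  have hSy2 : Nat.card Sy ≤ 2 := by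
    have hone : ∀ a ∈ Sy, a ≠ 1 → ∀ b ∈ Sy, b ≠ 1 → a * b = 1 := by
      intro a ha ha1 b hb hb1
      refine hplus _ (mul_mem ha hb) ?_
      obtain ⟨q, hq, hqe⟩ : ∃ q ∈ Y, b * t₀ * b⁻¹ = t₀⁻¹ * q := ⟨_, hminus b hb hb1, (inv_mul_cancel_left _ _).symm⟩
      obtain ⟨r, hr, hre⟩ : ∃ r ∈ Y, a * t₀ * a⁻¹ = t₀⁻¹ * r := ⟨_, hminus a ha ha1, (inv_mul_cancel_left _ _).symm⟩
      have e : a * b * t₀ * (a * b)⁻¹ = r⁻¹ * t₀ * q := by
        calc a * b * t₀ * (a * b)⁻¹ = a * (b * t₀ * b⁻¹) * a⁻¹ := by group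
          _ = (a * t₀ * a⁻¹)⁻¹ * (a * q * a⁻¹) := by rw [hqe]; group
          _ = r⁻¹ * t₀ * q := by rw [hre, hYfix a ha q hq]; group
      rw [e, sylow_comm hG T r⁻¹ (inv_mem ((Subgroup.zpowers_le).2 hy hr)) t₀ ht₀,
        show t₀⁻¹ * (t₀ * r⁻¹ * q) = r⁻¹ * q by group]
      exact mul_mem (inv_mem hr) hq
    haveI : Fintype Sy := Fintype.ofFinite _
    by_contra hlt
    have h3 : 3 ≤ Fintype.card Sy := by rw [← Nat.card_eq_fintype_card]; omega
    obtain ⟨a, ha⟩ := Fintype.exists_ne_of_one_lt_card (by omega : 1 < Fintype.card Sy) 1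
    obtain ⟨b, hb⟩ : ∃ b : Sy, b ≠ 1 ∧ b ≠ a := by
      by_contra hh; push Not at hh
      have hsub : (Finset.univ : Finset Sy) ⊆ {1, a} := fun c _ => by
        rcases em (c = 1) with e | e
        · simp [e]
        · simp [hh c e]
      have := (Finset.card_le_card hsub).trans Finset.card_le_two
      rw [Finset.card_univ] at this
      omega
    have haG : (a : G) ≠ 1 := fun e => ha (Subtype.ext e)
    have hbG : (b : G) ≠ 1 := fun e => hb.1 (Subtype.ext e)
    have e1 := hone a a.2 haG b b.2 hbG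
    have e2 := hone a a.2 haG a a.2 haG
    exact hb.2 (Subtype.ext (mul_left_cancel (e1.trans e2.symm)))
  -- the orbit of `y`
  letI : MulAction (S : Subgroup G) (T : Subgroup G) :=
    { smul := fun s a => ⟨(s : G) * a * (s : G)⁻¹, hconj s s.2 a a.2⟩
      one_smul := fun a => Subtype.ext (show (1 : G) * a * (1 : G)⁻¹ = a by group)
      mul_smul := fun s u a => Subtype.ext
        (show (s : G) * u * a * ((s : G) * u)⁻¹ = (s : G) * ((u : G) * a * (u : G)⁻¹) * (s : G)⁻¹ by group) }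
  have hstab : Nat.card (MulAction.stabilizer (S : Subgroup G) (⟨y, hy⟩ : (T : Subgroup G))) = Nat.card Sy :=
    Nat.card_congr
      { toFun := fun s => ⟨(s : (S : Subgroup G)), Subgroup.mem_inf.2 ⟨(s : (S : Subgroup G)).2,
          Subgroup.mem_centralizer_singleton_iff.2
            (mul_inv_eq_iff_eq_mul.1 (congrArg Subtype.val (mem_stabilizer_iff.1 s.2)))⟩⟩
        invFun := fun s => ⟨⟨(s : G), (Subgroup.mem_inf.1 s.2).1⟩, mem_stabilizer_iff.2 (Subtype.ext
          (mul_inv_eq_iff_eq_mul.2 (Subgroup.mem_centralizer_singleton_iff.1 (Subgroup.mem_inf.1 s.2).2)))⟩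
        left_inv := fun s => rfl
        right_inv := fun s => rfl }
  have horb : 8 ≤ (MulAction.orbit (S : Subgroup G) (⟨y, hy⟩ : (T : Subgroup G))).ncard := by
    rw [← index_stabilizer]
    have := (MulAction.stabilizer (S : Subgroup G) (⟨y, hy⟩ : (T : Subgroup G))).index_mul_card
    rw [hstab, card_sylow_two hG S] at this
    by_contra hlt
    nlinarith
  have hsub : MulAction.orbit (S : Subgroup G) (⟨y, hy⟩ : (T : Subgroup G)) ⊆ {a : (T : Subgroup G) | a ≠ 1} := by
    rintro _ ⟨s, rfl⟩ e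
    have e' : (s : G) * y * (s : G)⁻¹ = 1 := congrArg Subtype.val e
    rw [mul_inv_eq_one, mul_eq_left] at e'
    rw [e', orderOf_one] at hy3; omega
  have h8 : ({a : (T : Subgroup G) | a ≠ 1} : Set _).ncard = 8 := by
    rw [show {a : (T : Subgroup G) | a ≠ 1} = ({1} : Set (T : Subgroup G))ᶜ from rfl, Set.ncard_compl,
      card_sylow_three hG T, Set.ncard_singleton]
  have he := Set.eq_of_subset_of_ncard_le hsub (by rw [h8]; exact horb)
  have : (⟨t, ht⟩ : (T : Subgroup G)) ∈ MulAction.orbit (S : Subgroup G) (⟨y, hy⟩ : (T : Subgroup G)) := by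
    rw [he]; exact fun e => ht1 (congrArg Subtype.val e)
  obtain ⟨s, hs⟩ := this
  exact ⟨s, s.2, congrArg Subtype.val hs⟩

theorem exists_three_mem (hG : Cfsg.IsM11 G) (T : Sylow 3 G) : ∃ y ∈ (T : Subgroup G), orderOf y = 3 := by
  obtain ⟨y, hy⟩ := exists_prime_orderOf_dvd_card' (G := (T : Subgroup G)) 3 (by rw [card_sylow_three hG T]; norm_num)
  exact ⟨y, y.2, by rw [Subgroup.orderOf_coe, hy]⟩

theorem sylow_two_nonempty (hG : Cfsg.IsM11 G) (T : Sylow 3 G) :
    ∃ S : Sylow 2 G, (S : Subgroup G) ≤ Subgroup.normalizer ((T : Subgroup G) : Set G) := by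
  obtain ⟨v, hv⟩ := exists_prime_orderOf_dvd_card' (G := Subgroup.normalizer ((T : Subgroup G) : Set G)) 2
    (by rw [(normalizer_three hG T).2]; norm_num)
  obtain ⟨S, -, hS⟩ := exists_sylow_two_in hG T (v := (v : G)) (by rw [Subgroup.orderOf_coe, hv]) v.2
  exact ⟨S, hS⟩

theorem order_three_of_mem (hG : Cfsg.IsM11 G) (T : Sylow 3 G) {t : G} (ht : t ∈ (T : Subgroup G)) (ht1 : t ≠ 1) :
    orderOf t = 3 := by
  obtain ⟨y, hy, hy3⟩ := exists_three_mem hG T
  obtain ⟨S, hS⟩ := sylow_two_nonempty hG T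
  obtain ⟨s, -, rfl⟩ := normalizer_transitive hG T S hS hy hy3 ht ht1
  rw [order_conj, hy3]

/-- A central involution of a Sylow 2-subgroup of the normaliser inverts the Sylow 3-subgroup. -/
theorem inverter (hG : Cfsg.IsM11 G) (T : Sylow 3 G) (S : Sylow 2 G)
    (hSN : (S : Subgroup G) ≤ Subgroup.normalizer ((T : Subgroup G) : Set G)) :
    ∃ w ∈ (S : Subgroup G), orderOf w = 2 ∧ (∀ s ∈ (S : Subgroup G), s * w = w * s) ∧
      ∀ t ∈ (T : Subgroup G), w * t * w⁻¹ = t⁻¹ := by
  obtain ⟨w, hwS, hw, hwc⟩ := central_invol S (S : Subgroup G) le_rfl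
    (fun s hs a ha => mul_mem (mul_mem hs ha) (inv_mem hs)) (by
      intro e
      have := card_sylow_two hG S
      rw [e, Subgroup.card_bot] at this
      omega)
  refine ⟨w, hwS, hw, hwc, fun t ht => ?_⟩
  have hwt : w * t * w⁻¹ ∈ (T : Subgroup G) := (Subgroup.mem_normalizer_iff.1 (hSN hwS) t).1 ht
  refine eq_inv_of_mul_eq_one_left ?_
  by_contra hne
  set f := w * t * w⁻¹ * t with hf
  have hfT : f ∈ (T : Subgroup G) := mul_mem hwt ht
  have hw2 := sq_of_two hw
  have hfix : w * f = f * w := by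
    have : w * f * w⁻¹ = f := by
      rw [hf, show w * (w * t * w⁻¹ * t) * w⁻¹ = (w * w) * t * (w * w)⁻¹ * (w * t * w⁻¹) by group, hw2, one_mul,
        inv_one, mul_one]
      exact sylow_comm hG T t ht _ hwt
    exact mul_inv_eq_iff_eq_mul.1 this
  refine no_central_invol hG T hw (Subgroup.mem_centralizer_iff.2 fun a ha => ?_)
  by_cases ha1 : a = 1
  · rw [ha1, one_mul, mul_one]
  obtain ⟨s, hs, rfl⟩ := normalizer_transitive hG T S hSN hfT (order_three_of_mem hG T hfT hne) ha ha1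
  have e := hwc s hs
  calc s * f * s⁻¹ * w = s * f * (s⁻¹ * w) := by group
    _ = s * f * (w * s⁻¹) := by
        have : s⁻¹ * w = w * s⁻¹ := by rw [inv_mul_eq_iff_eq_mul, ← mul_assoc, eq_mul_inv_iff_mul_eq, e]
        rw [this]
    _ = s * (f * w) * s⁻¹ := by group
    _ = (s * w) * f * s⁻¹ := by rw [← hfix]; group
    _ = w * (s * f * s⁻¹) := by rw [e]; group

/-- The fixed-point-free involutions of the normaliser. -/
theorem inverter_unique (hG : Cfsg.IsM11 G) (T : Sylow 3 G) {u v : G} (hu : orderOf u = 2)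
    (hui : ∀ t ∈ (T : Subgroup G), u * t * u⁻¹ = t⁻¹) (hvi : ∀ t ∈ (T : Subgroup G), v * t * v⁻¹ = t⁻¹) :
    u * v ∈ (T : Subgroup G) := by
  rw [← cent_eq hG T]
  refine Subgroup.mem_centralizer_iff.2 fun t ht => ?_
  have e : u * v * t * (u * v)⁻¹ = t := by
    rw [show u * v * t * (u * v)⁻¹ = u * (v * t * v⁻¹) * u⁻¹ by group, hvi t ht, hui _ (inv_mem ht), inv_inv]
  exact (mul_inv_eq_iff_eq_mul.1 e).symm

theorem centralizer_in_normalizer_three (hG : Cfsg.IsM11 G) (T : Sylow 3 G) {y : G}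
    (hy : y ∈ (T : Subgroup G)) (hy3 : orderOf y = 3) :
    Nat.card ↥(Subgroup.centralizer ({y} : Set G) ⊓ Subgroup.normalizer ((T : Subgroup G) : Set G)) = 18 := by
  set N := Subgroup.normalizer ((T : Subgroup G) : Set G) with hN
  obtain ⟨S, hS⟩ := sylow_two_nonempty hG T
  have hconjT : ∀ s ∈ N, ∀ a ∈ (T : Subgroup G), s * a * s⁻¹ ∈ (T : Subgroup G) :=
    fun s hs a ha => (Subgroup.mem_normalizer_iff.1 hs a).1 ha
  letI : MulAction N (T : Subgroup G) :=
    { smul := fun s a => ⟨(s : G) * a * (s : G)⁻¹, hconjT s s.2 a a.2⟩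
      one_smul := fun a => Subtype.ext (show (1 : G) * a * (1 : G)⁻¹ = a by group)
      mul_smul := fun s u a => Subtype.ext
        (show (s : G) * u * a * ((s : G) * u)⁻¹ = (s : G) * ((u : G) * a * (u : G)⁻¹) * (s : G)⁻¹ by group) }
  have horb : MulAction.orbit N (⟨y, hy⟩ : (T : Subgroup G)) = ({1} : Set (T : Subgroup G))ᶜ := by
    ext ⟨a, ha⟩
    constructor
    · rintro ⟨s, hs⟩ e
      have e' : (s : G) * y * (s : G)⁻¹ = a := congrArg Subtype.val hs
      have e'' : a = 1 := congrArg Subtype.val (Set.mem_singleton_iff.1 e)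
      rw [e'', mul_inv_eq_one, mul_eq_left] at e'
      rw [e', orderOf_one] at hy3; omega
    · intro ha1
      obtain ⟨s, hs, hse⟩ := normalizer_transitive hG T S hS hy hy3 ha (fun e => ha1 (Set.mem_singleton_iff.2 (Subtype.ext e)))
      exact ⟨⟨s, hS hs⟩, Subtype.ext hse⟩
  have h1 := (MulAction.stabilizer N (⟨y, hy⟩ : (T : Subgroup G))).index_mul_card
  rw [index_stabilizer, horb, Set.ncard_compl, card_sylow_three hG T, Set.ncard_singleton,
    (normalizer_three hG T).2] at h1
  have e : Nat.card (MulAction.stabilizer N (⟨y, hy⟩ : (T : Subgroup G))) =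
      Nat.card ↥(Subgroup.centralizer ({y} : Set G) ⊓ N) :=
    Nat.card_congr
      { toFun := fun s => ⟨((s : N) : G), Subgroup.mem_inf.2 ⟨Subgroup.mem_centralizer_singleton_iff.2
            (mul_inv_eq_iff_eq_mul.1 (congrArg Subtype.val (mem_stabilizer_iff.1 s.2))), (s : N).2⟩⟩
        invFun := fun s => ⟨⟨(s : G), (Subgroup.mem_inf.1 s.2).2⟩, mem_stabilizer_iff.2 (Subtype.ext
          (mul_inv_eq_iff_eq_mul.2 (Subgroup.mem_centralizer_singleton_iff.1 (Subgroup.mem_inf.1 s.2).1)))⟩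
        left_inv := fun s => rfl
        right_inv := fun s => rfl }
  rw [e] at h1
  omega

/-- An involution of the normaliser inverts the subgroup or centralises an element of order three. -/
theorem invert_or_centralise (hG : Cfsg.IsM11 G) (T : Sylow 3 G) {v : G} (hv : orderOf v = 2)
    (hvN : v ∈ Subgroup.normalizer ((T : Subgroup G) : Set G)) :
    (∀ t ∈ (T : Subgroup G), v * t * v⁻¹ = t⁻¹) ∨ ∃ y ∈ (T : Subgroup G), orderOf y = 3 ∧ v * y = y * v := by
  by_cases h : ∀ t ∈ (T : Subgroup G), v * t * v⁻¹ = t⁻¹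
  · exact Or.inl h
  push Not at h
  obtain ⟨t, ht, hne⟩ := h
  have hvt : v * t * v⁻¹ ∈ (T : Subgroup G) := (Subgroup.mem_normalizer_iff.1 hvN t).1 ht
  refine Or.inr ⟨v * t * v⁻¹ * t, mul_mem hvt ht, order_three_of_mem hG T (mul_mem hvt ht)
    (fun e => hne (eq_inv_of_mul_eq_one_left e)), mul_inv_eq_iff_eq_mul.1 ?_⟩
  rw [show v * (v * t * v⁻¹ * t) * v⁻¹ = (v * v) * t * (v * v)⁻¹ * (v * t * v⁻¹) by group, sq_of_two hv, one_mul,
    inv_one, mul_one]
  exact sylow_comm hG T t ht _ hvt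

/-- The involutions centralising some non-trivial element of `T` form one class of the normaliser. -/
theorem reflections_conj (hG : Cfsg.IsM11 G) (T : Sylow 3 G) {u v y y' : G} (hu : orderOf u = 2) (hv : orderOf v = 2)
    (huN : u ∈ Subgroup.normalizer ((T : Subgroup G) : Set G))
    (hvN : v ∈ Subgroup.normalizer ((T : Subgroup G) : Set G))
    (hy : y ∈ (T : Subgroup G)) (hy3 : orderOf y = 3) (hy' : y' ∈ (T : Subgroup G)) (hy'3 : orderOf y' = 3)
    (huy : u * y = y * u) (hvy : v * y' = y' * v) :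
    ∃ n ∈ Subgroup.normalizer ((T : Subgroup G) : Set G), n * u * n⁻¹ = v := by
  set N := Subgroup.normalizer ((T : Subgroup G) : Set G) with hN
  obtain ⟨S, hS⟩ := sylow_two_nonempty hG T
  obtain ⟨s, hs, hse⟩ := normalizer_transitive hG T S hS hy hy3 hy' (fun e => by rw [e, orderOf_one] at hy'3; omega)
  set D := Subgroup.centralizer ({y'} : Set G) ⊓ N with hD
  have hsu : s * u * s⁻¹ ∈ D := by
    refine Subgroup.mem_inf.2 ⟨Subgroup.mem_centralizer_singleton_iff.2 ?_, mul_mem (mul_mem (hS hs) huN) (inv_mem (hS hs))⟩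
    rw [← hse]
    calc s * u * s⁻¹ * (s * y * s⁻¹) = s * (u * y) * s⁻¹ := by group
      _ = s * y * s⁻¹ * (s * u * s⁻¹) := by rw [huy]; group
  have hvD : v ∈ D := Subgroup.mem_inf.2 ⟨Subgroup.mem_centralizer_singleton_iff.2 hvy, hvN⟩
  have hD18 : Nat.card D = 18 := centralizer_in_normalizer_three hG T hy' hy'3
  obtain ⟨P, hP⟩ := IsPGroup.exists_le_sylow (G := D) (P := Subgroup.zpowers (⟨s * u * s⁻¹, hsu⟩ : D))
    (IsPGroup.of_card (n := 1) (by rw [Nat.card_zpowers, Subgroup.orderOf_mk, order_conj, hu, pow_one]))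
  obtain ⟨Q, hQ⟩ := IsPGroup.exists_le_sylow (G := D) (P := Subgroup.zpowers (⟨v, hvD⟩ : D))
    (IsPGroup.of_card (n := 1) (by rw [Nat.card_zpowers, Subgroup.orderOf_mk, hv, pow_one]))
  have hP2 : ∀ R : Sylow 2 D, Nat.card (R : Subgroup D) = 2 := fun R => by
    rw [R.card_eq_multiplicity, hD18, show (18 : ℕ) = 2 ^ 1 * 9 by norm_num,
      Nat.factorization_mul (by norm_num) (by norm_num), Finsupp.add_apply,
      Nat.prime_two.factorization_pow, Finsupp.single_eq_same,
      Nat.factorization_eq_zero_of_not_dvd (by norm_num)]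
    norm_num
  obtain ⟨d, hd⟩ := MulAction.exists_smul_eq D P Q
  have hm : d * ⟨s * u * s⁻¹, hsu⟩ * d⁻¹ ∈ (Q : Subgroup D) := hd ▸ conj_mem_smul P (hP (Subgroup.mem_zpowers _))
  obtain ⟨⟨q, hqQ⟩, -, hq⟩ := (Nat.card_eq_two_iff' (1 : (Q : Subgroup D))).1 (hP2 Q)
  have hne1 : ∀ {a : D}, orderOf (a : G) = 2 → a ≠ 1 := fun {a} ha e => by
    rw [e, OneMemClass.coe_one, orderOf_one] at ha; omega
  have q1 : d * ⟨s * u * s⁻¹, hsu⟩ * d⁻¹ = q := congrArg Subtype.val (hq ⟨_, hm⟩ (fun e => by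
    refine hne1 (a := d * ⟨s * u * s⁻¹, hsu⟩ * d⁻¹) ?_ (congrArg Subtype.val e)
    show orderOf ((d : G) * (s * u * s⁻¹) * (d : G)⁻¹) = 2
    rw [order_conj, order_conj, hu]))
  have q2 : (⟨v, hvD⟩ : D) = q := congrArg Subtype.val (hq ⟨_, hQ (Subgroup.mem_zpowers _)⟩ (fun e =>
    hne1 (a := ⟨v, hvD⟩) hv (congrArg Subtype.val e)))
  refine ⟨(d : G) * s, mul_mem (Subgroup.mem_inf.1 d.2).2 (hS hs), ?_⟩
  have e := congrArg Subtype.val (q1.trans q2.symm)
  change (d : G) * (s * u * s⁻¹) * (d : G)⁻¹ = v at e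
  rw [← e]; group

/-- The involutions are all conjugate and have centralisers of order 48. -/
theorem involutions_count (hG : Cfsg.IsM11 G) {v : G} (hv : orderOf v = 2) :
    Nat.card (Subgroup.centralizer ({v} : Set G)) = 48 ∧ (∀ u : G, orderOf u = 2 → IsConj v u) ∧
      ∃ w : G, orderOf w = 2 ∧ Nat.card (fixedBy (Sylow 3 G) w) = 7 := by
  classical
  obtain ⟨T⟩ : Nonempty (Sylow 3 G) := inferInstance
  obtain ⟨h55, hN144⟩ := normalizer_three hG T
  set N := Subgroup.normalizer ((T : Subgroup G) : Set G) with hN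
  obtain ⟨S, hSN⟩ := sylow_two_nonempty hG T
  obtain ⟨w, hwS, hw, hwc, hwi⟩ := inverter hG T S hSN
  have hw2 := sq_of_two hw
  haveI : Fintype G := Fintype.ofFinite G
  -- the inverting involutions
  set I9 : Finset G := Finset.univ.filter fun g => orderOf g = 2 ∧ ∀ t ∈ (T : Subgroup G), g * t * g⁻¹ = t⁻¹ with hI9
  have hI9eq : I9 = (Finset.univ.filter fun t => t ∈ (T : Subgroup G)).image fun t => w * t := by
    ext g
    simp only [hI9, Finset.mem_filter, Finset.mem_univ, true_and, Finset.mem_image]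
    constructor
    · rintro ⟨hg, hgi⟩
      exact ⟨w * g, inverter_unique hG T hw hwi hgi, by rw [← mul_assoc, hw2, one_mul]⟩
    · rintro ⟨t, ht, rfl⟩
      have hwt : w * t * w⁻¹ = t⁻¹ := hwi t ht
      refine ⟨orderOf_two ?_ ?_, fun a ha => ?_⟩
      · rw [inv_eq_of_mul_eq_one_right hw2] at hwt
        rw [show w * t * (w * t) = (w * t * w) * t by group, hwt, inv_mul_cancel]
      · intro e
        have : w = t⁻¹ := eq_inv_of_mul_eq_one_left e
        have h1 := Subgroup.orderOf_dvd_natCard _ (show w ∈ (T : Subgroup G) by rw [this]; exact inv_mem ht)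
        rw [hw, card_sylow_three hG T] at h1; omega
      · rw [show w * t * a * (w * t)⁻¹ = w * (t * a * t⁻¹) * w⁻¹ by group, sylow_comm hG T t ht a ha,
          mul_inv_cancel_right, hwi a ha]
  have hI9c : I9.card = 9 := by
    rw [hI9eq, Finset.card_image_of_injective _ (mul_right_injective w), ← Fintype.card_subtype,
      ← Nat.card_eq_fintype_card]
    exact card_sylow_three hG T
  have hI9conj : ∀ g ∈ I9, IsConj w g := by
    intro g hg
    rw [hI9eq] at hg
    obtain ⟨t, ht, rfl⟩ := Finset.mem_image.1 hg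
    have htT := (Finset.mem_filter.1 ht).2
    have h9 : t ^ 9 = 1 := orderOf_dvd_iff_pow_eq_one.1 (card_sylow_three hG T ▸ Subgroup.orderOf_dvd_natCard _ htT)
    refine isConj_iff.2 ⟨t ^ 4, ?_⟩
    have e := hwi (t ^ 4) (pow_mem htT 4)
    rw [inv_eq_of_mul_eq_one_right hw2] at e
    calc t ^ 4 * w * (t ^ 4)⁻¹ = (w * w) * t ^ 4 * w * (t ^ 4)⁻¹ := by rw [hw2, one_mul]
      _ = w * (w * t ^ 4 * w) * (t ^ 4)⁻¹ := by group
      _ = w * (t ^ 4 * t ^ 4)⁻¹ := by rw [e]; group
      _ = w * t := by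
        congr 1
        exact inv_eq_of_mul_eq_one_right (by rw [← pow_add, ← pow_succ, show 4 + 4 + 1 = 9 from rfl, h9])
  -- a reflection
  obtain ⟨y, hyT, hy3⟩ := exists_three_mem hG T
  obtain ⟨r', hr'⟩ := exists_prime_orderOf_dvd_card' (G := ↥(Subgroup.centralizer ({y} : Set G) ⊓ N)) 2
    (by rw [centralizer_in_normalizer_three hG T hyT hy3]; norm_num)
  obtain ⟨r, hrdef⟩ : ∃ r : G, r = r' := ⟨_, rfl⟩
  have hr : orderOf r = 2 := by rw [hrdef, Subgroup.orderOf_coe, hr']
  have hrN : r ∈ N := hrdef ▸ (Subgroup.mem_inf.1 r'.2).2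
  have hry : r * y = y * r := hrdef ▸ Subgroup.mem_centralizer_singleton_iff.1 (Subgroup.mem_inf.1 r'.2).1
  set R : Finset G := Finset.univ.filter fun g => orderOf g = 2 ∧ g ∈ N ∧ g ∉ I9 with hR
  have hRiff : ∀ g, g ∈ R ↔ ∃ n ∈ N, n * r * n⁻¹ = g := by
    intro g
    simp only [hR, Finset.mem_filter, Finset.mem_univ, true_and]
    constructor
    · rintro ⟨hg, hgN, hgI⟩
      rcases invert_or_centralise hG T hg hgN with hi | ⟨y', hy', hy'3, hgy⟩
      · exact absurd (Finset.mem_filter.2 ⟨Finset.mem_univ _, hg, hi⟩) hgI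
      · exact reflections_conj hG T hr hg hrN hgN hyT hy3 hy' hy'3 hry hgy
    · rintro ⟨n, hn, rfl⟩
      refine ⟨by rw [order_conj, hr], mul_mem (mul_mem hn hrN) (inv_mem hn), fun hI => ?_⟩
      have hi := (Finset.mem_filter.1 hI).2.2 _ ((Subgroup.mem_normalizer_iff.1 hn y).1 hyT)
      rw [show n * r * n⁻¹ * (n * y * n⁻¹) * (n * r * n⁻¹)⁻¹ = n * (r * y * r⁻¹) * n⁻¹ by group,
        mul_inv_eq_iff_eq_mul.2 hry] at hi
      exact inv_ne_self (by rw [order_conj, hy3]) hi.symm
  have hR12 : R.card = 12 := by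
    set D := N ⊓ Subgroup.centralizer ({r} : Set G) with hD
    have hD12 : Nat.card D = 12 := by
      obtain ⟨S', hrS', hS'N⟩ := exists_sylow_two_in hG T hr hrN
      obtain ⟨w', hw'S, hw', hw'c, hw'i⟩ := inverter hG T S' hS'N
      have hrw : r * w' = w' * r := hw'c r hrS'
      have hne : r ≠ w' := fun e => by
        have := hw'i y hyT
        rw [← e, mul_inv_eq_iff_eq_mul.2 hry] at this
        exact inv_ne_self hy3 this.symm
      set D2 := D ⊓ (S' : Subgroup G) with hD2
      have hrD : r ∈ D2 := Subgroup.mem_inf.2 ⟨Subgroup.mem_inf.2 ⟨hrN, Subgroup.mem_centralizer_singleton_iff.2 rfl⟩, hrS'⟩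
      have hwD : w' ∈ D2 := Subgroup.mem_inf.2 ⟨Subgroup.mem_inf.2 ⟨hS'N hw'S,
        Subgroup.mem_centralizer_singleton_iff.2 hrw.symm⟩, hw'S⟩
      have h4 : 4 ∣ Nat.card D := by
        have h16 : Nat.card D2 ∣ 2 ^ 4 := by
          have := Subgroup.card_dvd_of_le (inf_le_right : D2 ≤ (S' : Subgroup G))
          rwa [card_sylow_two hG S'] at this
        obtain ⟨k, -, hk⟩ := (Nat.dvd_prime_pow Nat.prime_two).1 h16
        have hk2 : 2 ≤ k := by
          by_contra hh
          haveI : Fintype D2 := Fintype.ofFinite _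
          have h3 : ({1, (⟨r, hrD⟩ : D2), (⟨w', hwD⟩ : D2)} : Finset D2).card = 3 := by
            have e1 : r ≠ 1 := fun e => by rw [e, orderOf_one] at hr; omega
            have e2 : w' ≠ 1 := fun e => by rw [e, orderOf_one] at hw'; omega
            rw [Finset.card_insert_of_notMem (by simp [Subtype.ext_iff, Ne.symm e1, Ne.symm e2]),
              Finset.card_insert_of_notMem (by simp [hne]), Finset.card_singleton]
          have := h3 ▸ Finset.card_le_univ ({1, (⟨r, hrD⟩ : D2), (⟨w', hwD⟩ : D2)} : Finset D2)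
          rw [← Nat.card_eq_fintype_card, hk] at this
          interval_cases k <;> omega
        exact ((pow_dvd_pow 2 hk2).trans (dvd_of_eq hk.symm)).trans (Subgroup.card_dvd_of_le inf_le_left)
      have hyD : y ∈ D := Subgroup.mem_inf.2 ⟨Subgroup.le_normalizer hyT,
        Subgroup.mem_centralizer_singleton_iff.2 hry.symm⟩
      have h3 : 3 ∣ Nat.card D := hy3 ▸ Subgroup.orderOf_dvd_natCard _ hyD
      -- at most twice the elements centralising `y`
      set E := D ⊓ Subgroup.centralizer ({y} : Set G) with hE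
      have hE6 : Nat.card E ≤ 9 := by
        have hd : Nat.card E ∣ 18 := centralizer_in_normalizer_three hG T hyT hy3 ▸
          Subgroup.card_dvd_of_le (le_inf inf_le_right (inf_le_left.trans inf_le_left))
        have hne18 : Nat.card E ≠ 18 := fun e => by
          have hEe : E = Subgroup.centralizer ({y} : Set G) ⊓ N := Subgroup.eq_of_le_of_card_ge
            (le_inf inf_le_right (inf_le_left.trans inf_le_left))
            (by rw [e, centralizer_in_normalizer_three hG T hyT hy3])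
          refine no_central_invol hG T hr (Subgroup.mem_centralizer_iff.2 fun a ha => ?_)
          have : a ∈ E := hEe ▸ Subgroup.mem_inf.2 ⟨sylow_le_centralizer hG T hyT ha, Subgroup.le_normalizer ha⟩
          exact Subgroup.mem_centralizer_singleton_iff.1 (Subgroup.mem_inf.1 (Subgroup.mem_inf.1 this).1).2
        have := Nat.le_of_dvd (by norm_num) hd
        interval_cases hc : Nat.card E <;> omega
      have hDE : Nat.card D ≤ 2 * Nat.card E := by
        have hyT' : ∀ n ∈ D, n * y * n⁻¹ = y ∨ n * y * n⁻¹ = y⁻¹ := by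
          intro n hn
          obtain ⟨hnN, hnr⟩ := Subgroup.mem_inf.1 hn
          refine conj_mem_zpowers_three hy3 ?_
          have hnyT := (Subgroup.mem_normalizer_iff.1 hnN y).1 hyT
          by_contra hz
          refine no_central_invol hG T hr (Subgroup.mem_centralizer_iff.2 fun a ha => ?_)
          refine Subgroup.mem_centralizer_singleton_iff.1 (sylow_le_of_two hG T hyT hy3 hnyT hz
            (H := Subgroup.centralizer ({r} : Set G)) (Subgroup.mem_centralizer_singleton_iff.2 hry.symm)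
            (Subgroup.mem_centralizer_singleton_iff.2 ?_) ha)
          have e := Subgroup.mem_centralizer_singleton_iff.1 hnr
          calc n * y * n⁻¹ * r = n * y * (n⁻¹ * r * n) * n⁻¹ := by group
            _ = n * (y * r) * n⁻¹ := by rw [show n⁻¹ * r * n = r by rw [mul_assoc, ← e, inv_mul_cancel_left]]; group
            _ = (n * r) * y * n⁻¹ := by rw [← hry]; group
            _ = r * (n * y * n⁻¹) := by rw [e]; group
        rw [← (E.subgroupOf D).index_mul_card, Nat.card_congr (Subgroup.subgroupOfEquivOfLe (inf_le_left : E ≤ D)).toEquiv]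
        refine Nat.mul_le_mul_right _ ?_
        haveI : Fintype (D ⧸ E.subgroupOf D) := Fintype.ofFinite _
        show Nat.card (D ⧸ E.subgroupOf D) ≤ 2
        let φ : D ⧸ E.subgroupOf D → Bool := Quotient.lift (fun n : D => decide ((n : G) * y * (n : G)⁻¹ = y))
          (fun a b hab => by
            have h' := QuotientGroup.leftRel_apply.1 hab
            have hc := Subgroup.mem_centralizer_singleton_iff.1 (Subgroup.mem_inf.1 (Subgroup.mem_subgroupOf.1 h')).2
            have e : (b : G) * y * (b : G)⁻¹ = (a : G) * y * (a : G)⁻¹ := by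
              calc (b : G) * y * (b : G)⁻¹ = (a : G) * (((a⁻¹ * b : D) : G) * y) * (b : G)⁻¹ := by push_cast; group
                _ = (a : G) * y * (a : G)⁻¹ := by rw [hc]; push_cast; group
            simp only [e])
        have hφ : Function.Injective φ := by
          intro p q e
          obtain ⟨a, rfl⟩ := Quotient.exists_rep p
          obtain ⟨b, rfl⟩ := Quotient.exists_rep q
          have e' : decide ((a : G) * y * (a : G)⁻¹ = y) = decide ((b : G) * y * (b : G)⁻¹ = y) := e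
          have hab : (a : G) * y * (a : G)⁻¹ = (b : G) * y * (b : G)⁻¹ := by
            rcases hyT' a a.2 with ha | ha <;> rcases hyT' b b.2 with hb | hb <;> rw [ha, hb] at e' ⊢
            · simp [inv_ne_self hy3] at e'
            · simp [inv_ne_self hy3] at e'
          refine QuotientGroup.eq.2 (Subgroup.mem_subgroupOf.2 (Subgroup.mem_inf.2 ⟨(a⁻¹ * b).2,
            Subgroup.mem_centralizer_singleton_iff.2 ?_⟩))
          push_cast
          calc (a : G)⁻¹ * b * y = (a : G)⁻¹ * ((b : G) * y * (b : G)⁻¹) * b := by group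
            _ = y * ((a : G)⁻¹ * b) := by rw [← hab]; group
        exact (Nat.card_le_card_of_injective φ hφ).trans (by simp)
      have : 0 < Nat.card D := Nat.card_pos
      omega
    haveI : Fintype N := Fintype.ofFinite _
    have hcl : R.card * Nat.card D = 144 := by
      have h := class_mul_centralizer (G := N) ⟨r, hrN⟩
      rw [hN144] at h
      have e1 : Nat.card {x : N // IsConj ⟨r, hrN⟩ x} = R.card := by
        rw [Nat.card_eq_fintype_card, Fintype.card_subtype]
        refine Finset.card_bij (fun x _ => (x : G)) ?_ (fun a _ b _ e => Subtype.ext e) ?_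
        · intro x hx
          obtain ⟨n, hn⟩ := isConj_iff.1 (Finset.mem_filter.1 hx).2
          exact (hRiff _).2 ⟨n, n.2, congrArg Subtype.val hn⟩
        · intro g hg
          obtain ⟨n, hn, rfl⟩ := (hRiff g).1 hg
          exact ⟨⟨n, hn⟩ * ⟨r, hrN⟩ * ⟨n, hn⟩⁻¹, Finset.mem_filter.2 ⟨Finset.mem_univ _, isConj_iff.2 ⟨⟨n, hn⟩, rfl⟩⟩, rfl⟩
      have e2 : Nat.card (Subgroup.centralizer ({(⟨r, hrN⟩ : N)} : Set N)) = Nat.card D :=
        Nat.card_congr
          { toFun := fun g => ⟨((g : N) : G), Subgroup.mem_inf.2 ⟨(g : N).2, Subgroup.mem_centralizer_singleton_iff.2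
              (congrArg Subtype.val (Subgroup.mem_centralizer_singleton_iff.1 g.2))⟩⟩
            invFun := fun g => ⟨⟨(g : G), (Subgroup.mem_inf.1 g.2).1⟩, Subgroup.mem_centralizer_singleton_iff.2
              (Subtype.ext (Subgroup.mem_centralizer_singleton_iff.1 (Subgroup.mem_inf.1 g.2).2))⟩
            left_inv := fun g => rfl
            right_inv := fun g => rfl }
      rw [e1, e2] at h
      exact h
    rw [hD12] at hcl; omega
  -- every conjugate of an involution in the normaliser is one of the 21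
  have hsplit : ∀ a : G, orderOf a = 2 → ∀ x : G, IsConj a x → x ∈ N → x ∈ I9 ∨ x ∈ R := by
    intro a ha x hx hxN
    by_cases hI : x ∈ I9
    · exact Or.inl hI
    · obtain ⟨g, rfl⟩ := isConj_iff.1 hx
      exact Or.inr (Finset.mem_filter.2 ⟨Finset.mem_univ _, by rw [order_conj, ha], hxN, hI⟩)
  have hRconj : ∀ g ∈ R, IsConj r g := fun g hg => by
    obtain ⟨n, -, rfl⟩ := (hRiff g).1 hg
    exact isConj_iff.2 ⟨n, rfl⟩
  have hcount : ∀ a : G, Nat.card {x : G // IsConj a x} * Nat.card (fixedBy (Sylow 3 G) a) =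
      55 * (Finset.univ.filter fun x => IsConj a x ∧ x ∈ N).card := by
    intro a
    rw [class_mul_fixed a T, h55]
    congr 1
    rw [← Fintype.card_subtype, ← Nat.card_eq_fintype_card]
    exact Nat.card_congr (Equiv.subtypeEquivRight fun x => and_congr_right fun _ => Sylow.smul_eq_iff_mem_normalizer)
  have hrw : IsConj r w := by
    by_contra hne
    have hset : (Finset.univ.filter fun x => IsConj r x ∧ x ∈ N) = R := by
      ext x
      refine ⟨fun hx => ?_, fun hx => Finset.mem_filter.2 ⟨Finset.mem_univ _, hRconj x hx, (Finset.mem_filter.1 hx).2.2.1⟩⟩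
      obtain ⟨-, hc, hxN⟩ := Finset.mem_filter.1 hx
      rcases hsplit r hr x hc hxN with h | h
      · exact absurd (hc.trans (hI9conj x h).symm) hne
      · exact h
    have h := hcount r
    rw [hset, hR12] at h
    obtain ⟨j, hj⟩ := moved_div_four (perfect hG) (Ω := Sylow 3 G) r (sq_of_two hr)
    rw [h55] at hj
    have h2 := class_mul_centralizer r
    rw [hG.2] at h2
    have hn9 := not_nine hG hr
    set f := Nat.card (fixedBy (Sylow 3 G) r)
    set c := Nat.card (Subgroup.centralizer ({r} : Set G)) with hc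
    set k := Nat.card {x : G // IsConj r x}
    have hf : 12 * f = c := by
      have : k * (12 * f) = k * c := by
        rw [h2, mul_left_comm, h]; norm_num
      exact Nat.eq_of_mul_eq_mul_left (Nat.pos_of_ne_zero fun h0 => by rw [h0, zero_mul] at h2; omega) this
    rcases centralizer_two_cases hG hr with h' | h' | h'
    · rw [← hc, ← hf] at h'
      have : f ∣ 12 := Nat.dvd_of_mul_dvd_mul_left (by norm_num : 0 < 12) (by simpa using h')
      have := Nat.le_of_dvd (by norm_num) this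
      rw [← hf] at hn9
      interval_cases f <;> omega
    · rw [← hc] at h'; omega
    · rw [← hc] at h'; omega
  have hset : ∀ a, IsConj a w → (Finset.univ.filter fun x => IsConj a x ∧ x ∈ N) = I9 ∪ R := by
    intro a ha
    ext x
    refine ⟨fun hx => ?_, fun hx => ?_⟩
    · obtain ⟨-, hc, hxN⟩ := Finset.mem_filter.1 hx
      have hao : orderOf a = 2 := by
        obtain ⟨g, hg⟩ := isConj_iff.1 ha
        rw [← order_conj g a, hg, hw]
      exact Finset.mem_union.2 (hsplit a hao x hc hxN)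
    · refine Finset.mem_filter.2 ⟨Finset.mem_univ _, ?_⟩
      rcases Finset.mem_union.1 hx with h | h
      · refine ⟨ha.trans (hI9conj x h), ?_⟩
        rw [hI9eq] at h
        obtain ⟨t, ht, rfl⟩ := Finset.mem_image.1 h
        exact mul_mem (hSN hwS) (Subgroup.le_normalizer (Finset.mem_filter.1 ht).2)
      · exact ⟨(ha.trans hrw.symm).trans (hRconj x h), (Finset.mem_filter.1 h).2.2.1⟩
  have hall : ∀ u : G, orderOf u = 2 → IsConj w u := by
    intro u hu
    obtain ⟨S', hS'⟩ := (IsPGroup.of_card (n := 1) (by rw [Nat.card_zpowers, hu, pow_one]) :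
      IsPGroup 2 (Subgroup.zpowers u)).exists_le_sylow
    obtain ⟨g, hg⟩ := MulAction.exists_smul_eq G S' S
    have hm : g * u * g⁻¹ ∈ (S : Subgroup G) := hg ▸ conj_mem_smul S' (hS' (Subgroup.mem_zpowers _))
    have hgu : IsConj u (g * u * g⁻¹) := isConj_iff.2 ⟨g, rfl⟩
    rcases hsplit u hu _ hgu (hSN hm) with h | h
    · exact (hI9conj _ h).trans hgu.symm
    · exact (hrw.symm.trans (hRconj _ h)).trans hgu.symm
  suffices key : Nat.card (Subgroup.centralizer ({v} : Set G)) = 48 ∧ Nat.card (fixedBy (Sylow 3 G) w) = 7 from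
    ⟨key.1, fun u hu => (hall v hv).symm.trans (hall u hu), w, hw, key.2⟩
  have h := hcount w
  have hdis : Disjoint I9 R := Finset.disjoint_left.2 fun x hx hx' => (Finset.mem_filter.1 hx').2.2.2 hx
  rw [hset w (IsConj.refl w), Finset.card_union_of_disjoint hdis, hI9c, hR12] at h
  have h2 := class_mul_centralizer w
  rw [hG.2] at h2
  have hwv : Nat.card (Subgroup.centralizer ({v} : Set G)) = Nat.card (Subgroup.centralizer ({w} : Set G)) := by
    obtain ⟨g, hg⟩ := isConj_iff.1 (hall v hv)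
    rw [← hg]
    refine Nat.card_congr (Equiv.subtypeEquiv (MulAut.conj g⁻¹).toEquiv fun x => ?_)
    show x ∈ Subgroup.centralizer ({g * w * g⁻¹} : Set G) ↔ g⁻¹ * x * g⁻¹⁻¹ ∈ Subgroup.centralizer ({w} : Set G)
    rw [Subgroup.mem_centralizer_singleton_iff, Subgroup.mem_centralizer_singleton_iff]
    constructor
    · intro e
      calc g⁻¹ * x * g⁻¹⁻¹ * w = g⁻¹ * (x * (g * w * g⁻¹)) * g := by group
        _ = g⁻¹ * (g * w * g⁻¹ * x) * g := by rw [e]
        _ = w * (g⁻¹ * x * g⁻¹⁻¹) := by group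
    · intro e
      calc x * (g * w * g⁻¹) = g * (g⁻¹ * x * g⁻¹⁻¹ * w) * g⁻¹ := by group
        _ = g * (w * (g⁻¹ * x * g⁻¹⁻¹)) * g⁻¹ := by rw [e]
        _ = g * w * g⁻¹ * x := by group
  rw [hwv]
  set f := Nat.card (fixedBy (Sylow 3 G) w)
  set c := Nat.card (Subgroup.centralizer ({w} : Set G)) with hc
  set k := Nat.card {x : G // IsConj w x}
  have hf : 48 * f = 7 * c := by
    have : k * (48 * f) = k * (7 * c) := by
      rw [mul_left_comm k 48, h, mul_left_comm k 7, h2]; norm_num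
    exact Nat.eq_of_mul_eq_mul_left (Nat.pos_of_ne_zero fun h0 => by rw [h0, zero_mul] at h2; omega) this
  have h16 : 16 ∣ c := card_sylow_two hG S ▸
    Subgroup.card_dvd_of_le fun s hs => Subgroup.mem_centralizer_singleton_iff.2 (hwc s hs)
  have hn9 := not_nine hG hw
  rw [← hc] at hn9
  obtain ⟨a, ha⟩ : 48 ∣ c := by omega
  rcases centralizer_two_cases hG hw with h' | h' | h'
  · rw [← hc, ha] at h'
    have h3 : a ∣ 3 := Nat.dvd_of_mul_dvd_mul_left (by norm_num : 0 < 48) (by simpa using h')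
    rcases (Nat.dvd_prime Nat.prime_three).1 h3 with rfl | rfl
    · omega
    · omega
  · rw [← hc] at h'; omega
  · rw [← hc] at h'; omega

theorem involutions (hG : Cfsg.IsM11 G) {v : G} (hv : orderOf v = 2) :
    Nat.card (Subgroup.centralizer ({v} : Set G)) = 48 ∧ ∀ u : G, orderOf u = 2 → IsConj v u :=
  ⟨(involutions_count hG hv).1, (involutions_count hG hv).2.1⟩

theorem fixed_seven (hG : Cfsg.IsM11 G) {v : G} (hv : orderOf v = 2) :
    Nat.card (fixedBy (Sylow 3 G) v) = 7 := by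
  obtain ⟨-, hconj, w, hw, h7⟩ := involutions_count hG hv
  obtain ⟨c, hc⟩ := isConj_iff.1 (hconj w hw)
  rw [← h7, ← hc]
  refine Nat.card_congr (Equiv.subtypeEquiv (MulAction.toPerm c) fun Q => ?_)
  simp [mul_smul]

/-- Distinct Sylow 3-subgroups meet trivially. -/
theorem centralizer_three (hG : Cfsg.IsM11 G) (T : Sylow 3 G) {y : G} (hyT : y ∈ (T : Subgroup G))
    (hy : orderOf y = 3) :
    Nat.card (Subgroup.centralizer ({y} : Set G)) = 18 ∧ ∀ Q : Sylow 3 G, y ∈ (Q : Subgroup G) → Q = T := by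
  classical
  obtain ⟨hn3, hcard, -, hconj⟩ := containing hG T hy hyT
  set N := Subgroup.normalizer ((T : Subgroup G) : Set G) with hN
  have h18 : Nat.card ↥(Subgroup.centralizer ({y} : Set G) ⊓ N) = 18 := centralizer_in_normalizer_three hG T hyT hy
  rw [h18] at hcard
  rcases containing_bound hG T hy hyT with e | e | e
  · exact ⟨by rw [← hcard, e, one_mul], fun Q hQ => eq_of_containing_one T hyT e hQ⟩
  swap
  · exfalso
    have := centralizer_three_dvd hG hy
    rw [← hcard, e] at this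
    norm_num at this
  exfalso
  rw [e] at hcard
  set C := Subgroup.centralizer ({y} : Set G) with hC
  -- every involution centralising `y` normalises some Sylow subgroup containing `y`
  have hfix : ∀ v, orderOf v = 2 → v ∈ C → ∃ Q : Sylow 3 G, y ∈ (Q : Subgroup G) ∧ v • Q = Q := by
    intro v hv hvC
    obtain ⟨r', hr'⟩ := exists_prime_orderOf_dvd_card' (G := ↥(C ⊓ N)) 2 (by rw [h18]; norm_num)
    have hr : orderOf (r' : G) = 2 := by rw [Subgroup.orderOf_coe, hr']
    obtain ⟨g, hg⟩ := isConj_iff.1 ((involutions hG hr).2 v hv)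
    set Cv := Subgroup.centralizer ({v} : Set G) with hCv
    have hy0 : g * y * g⁻¹ ∈ Cv := by
      refine Subgroup.mem_centralizer_singleton_iff.2 ?_
      rw [← hg]
      have e1 := Subgroup.mem_centralizer_singleton_iff.1 (Subgroup.mem_inf.1 r'.2).1
      calc g * y * g⁻¹ * (g * r' * g⁻¹) = g * (y * r') * g⁻¹ := by group
        _ = g * ((r' : G) * y) * g⁻¹ := by rw [e1]
        _ = g * r' * g⁻¹ * (g * y * g⁻¹) := by group
    have hyv : y ∈ Cv := Subgroup.mem_centralizer_singleton_iff.2 (Subgroup.mem_centralizer_singleton_iff.1 hvC).symm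
    obtain ⟨P, hP⟩ := IsPGroup.exists_le_sylow (G := Cv) (P := Subgroup.zpowers (⟨g * y * g⁻¹, hy0⟩ : Cv))
      (IsPGroup.of_card (n := 1) (by rw [Nat.card_zpowers, Subgroup.orderOf_mk, order_conj, hy, pow_one]))
    obtain ⟨P', hP'⟩ := IsPGroup.exists_le_sylow (G := Cv) (P := Subgroup.zpowers (⟨y, hyv⟩ : Cv))
      (IsPGroup.of_card (n := 1) (by rw [Nat.card_zpowers, Subgroup.orderOf_mk, hy, pow_one]))
    have hP3 : Nat.card (P : Subgroup Cv) = 3 := by
      rw [P.card_eq_multiplicity, (involutions hG hv).1, show (48 : ℕ) = 3 ^ 1 * 16 by norm_num,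
        Nat.factorization_mul (by norm_num) (by norm_num), Finsupp.add_apply,
        Nat.prime_three.factorization_pow, Finsupp.single_eq_same,
        Nat.factorization_eq_zero_of_not_dvd (by norm_num)]
      norm_num
    have eP : Subgroup.zpowers (⟨g * y * g⁻¹, hy0⟩ : Cv) = (P : Subgroup Cv) :=
      Subgroup.eq_of_le_of_card_ge hP (by rw [Nat.card_zpowers, Subgroup.orderOf_mk, order_conj, hy, hP3])
    obtain ⟨c, hc⟩ := MulAction.exists_smul_eq Cv P' P
    have hmem : c * ⟨y, hyv⟩ * c⁻¹ ∈ (P : Subgroup Cv) := hc ▸ conj_mem_smul P' (hP' (Subgroup.mem_zpowers _))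
    rw [← eP] at hmem
    obtain ⟨i, hi⟩ := Subgroup.mem_zpowers_iff.1 hmem
    have hi' : (g * y * g⁻¹) ^ i = (c : G) * y * (c : G)⁻¹ := by simpa using congrArg Subtype.val hi
    obtain ⟨k, hk⟩ : ∃ k : G, k = (c : G)⁻¹ * g := ⟨_, rfl⟩
    refine ⟨k • T, (mem_smul_sylow T).2 ?_, Sylow.smul_eq_iff_mem_normalizer.2 ((normalizer_smul T k v).2 ?_)⟩
    · have : k⁻¹ * y * k = y ^ i := by
        rw [hk, show ((c : G)⁻¹ * g)⁻¹ * y * ((c : G)⁻¹ * g) = g⁻¹ * ((c : G) * y * (c : G)⁻¹) * g by group, ← hi',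
          conj_zpow]
        group
      rw [this]; exact zpow_mem hyT i
    · have hvc : (c : G) * v * (c : G)⁻¹ = v :=
        mul_inv_eq_iff_eq_mul.2 (Subgroup.mem_centralizer_singleton_iff.1 c.2)
      have : k⁻¹ * v * k = (r' : G) := by
        rw [hk, show ((c : G)⁻¹ * g)⁻¹ * v * ((c : G)⁻¹ * g) = g⁻¹ * ((c : G) * v * (c : G)⁻¹) * g by group, hvc, ← hg]
        group
      rw [this]; exact (Subgroup.mem_inf.1 r'.2).2
  -- a central involution of a Sylow 2-subgroup of the centraliser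
  obtain ⟨R0⟩ : Nonempty (Sylow 2 C) := inferInstance
  have hR8 : Nat.card (R0 : Subgroup C) = 8 := by
    rw [R0.card_eq_multiplicity, ← hcard, show (4 * 18 : ℕ) = 2 ^ 3 * 9 by norm_num,
      Nat.factorization_mul (by norm_num) (by norm_num), Finsupp.add_apply,
      Nat.prime_two.factorization_pow, Finsupp.single_eq_same,
      Nat.factorization_eq_zero_of_not_dvd (by norm_num)]
    norm_num
  set R : Subgroup G := (R0 : Subgroup C).map C.subtype with hR
  have hR8' : Nat.card R = 8 := by rw [hR, Subgroup.card_map_of_injective Subtype.val_injective, hR8]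
  have hRC : R ≤ C := Subgroup.map_subtype_le _
  haveI : Nontrivial (R0 : Subgroup C) := Finite.one_lt_card_iff_nontrivial.1 (by omega)
  haveI := IsPGroup.center_nontrivial R0.isPGroup'
  obtain ⟨u', hu'⟩ := exists_prime_orderOf_dvd_card' (G := Subgroup.center (R0 : Subgroup C)) 2 (by
    obtain ⟨k, hk⟩ := (R0.isPGroup'.to_subgroup (Subgroup.center (R0 : Subgroup C))).exists_card_eq
    have h1 := Finite.one_lt_card (α := Subgroup.center (R0 : Subgroup C))
    rcases k with _ | k
    · simp [hk] at h1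
    · rw [hk]; exact dvd_pow_self 2 (by omega))
  obtain ⟨u, hudef⟩ : ∃ u : G, u = ((u' : (R0 : Subgroup C)) : C) := ⟨_, rfl⟩
  have hu : orderOf u = 2 := by rw [hudef, Subgroup.orderOf_coe, Subgroup.orderOf_coe, Subgroup.orderOf_coe, hu']
  have huC : u ∈ C := hudef ▸ ((u' : (R0 : Subgroup C)) : C).2
  have hucomm : ∀ a ∈ R, a * u = u * a := by
    intro a ha
    obtain ⟨a', ha', rfl⟩ := Subgroup.mem_map.1 ha
    rw [hudef]
    exact congrArg (fun x : (R0 : Subgroup C) => ((x : C) : G)) (Subgroup.mem_center_iff.1 u'.2 ⟨a', ha'⟩)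
  obtain ⟨Q₀, hQ₀, huQ₀⟩ := hfix u hu huC
  set X := {Q : Sylow 3 G // y ∈ (Q : Subgroup G)}
  have hpres : ∀ a ∈ R, ∀ Q : X, y ∈ ((a • Q.1 : Sylow 3 G) : Subgroup G) := by
    intro a ha Q
    refine (mem_smul_sylow Q.1).2 ?_
    rw [mul_assoc, ← Subgroup.mem_centralizer_singleton_iff.1 (hRC ha), inv_mul_cancel_left]
    exact Q.2
  letI : MulAction R X :=
    { smul := fun a Q => ⟨(a : G) • Q.1, hpres a a.2 Q⟩
      one_smul := fun Q => Subtype.ext (one_smul G Q.1)
      mul_smul := fun a b Q => Subtype.ext (mul_smul (a : G) (b : G) Q.1) }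
  have horb : MulAction.orbit R (⟨Q₀, hQ₀⟩ : X) = Set.univ := by
    refine Set.eq_of_subset_of_ncard_le (Set.subset_univ _) ?_ (Set.toFinite _)
    rw [Set.ncard_univ, e, ← index_stabilizer]
    have hst : Nat.card (MulAction.stabilizer R (⟨Q₀, hQ₀⟩ : X)) ∣ 18 := by
      rw [← centralizer_in_normalizer_three hG Q₀ hQ₀ hy]
      refine dvd_trans (dvd_of_eq (Nat.card_congr (Equiv.refl _))) ?_
      refine dvd_trans ?_ (Subgroup.card_dvd_of_le (show ((MulAction.stabilizer R (⟨Q₀, hQ₀⟩ : X)).map R.subtype) ≤ _ from ?_))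
      · rw [Subgroup.card_map_of_injective Subtype.val_injective]
      · rintro _ ⟨a, ha, rfl⟩
        exact Subgroup.mem_inf.2 ⟨hRC a.2,
          Sylow.smul_eq_iff_mem_normalizer.1 (congrArg Subtype.val (mem_stabilizer_iff.1 ha))⟩
    have h1 := (MulAction.stabilizer R (⟨Q₀, hQ₀⟩ : X)).index_mul_card
    have h8 := Subgroup.card_subgroup_dvd_card (MulAction.stabilizer R (⟨Q₀, hQ₀⟩ : X))
    rw [hR8'] at h1 h8
    have h2 : Nat.card (MulAction.stabilizer R (⟨Q₀, hQ₀⟩ : X)) ∣ 2 := by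
      have := Nat.dvd_gcd h8 hst
      simpa using this
    have := Nat.le_of_dvd (by norm_num) h2
    nlinarith
  have hufix : ∀ Q : X, u • Q.1 = Q.1 := by
    intro Q
    obtain ⟨a, ha⟩ := (horb ▸ Set.mem_univ Q : Q ∈ MulAction.orbit R (⟨Q₀, hQ₀⟩ : X))
    rw [← ha]
    show u • ((a : G) • Q₀) = (a : G) • Q₀
    rw [← mul_smul, ← hucomm a a.2, mul_smul, huQ₀]
  obtain ⟨t, htT, htY⟩ : ∃ t ∈ (T : Subgroup G), t ∉ Subgroup.zpowers y := by
    by_contra hh; push Not at hh
    have := Subgroup.card_dvd_of_le (show (T : Subgroup G) ≤ Subgroup.zpowers y from hh)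
    rw [card_sylow_three hG T, Nat.card_zpowers, hy] at this; omega
  have hty : t * y = y * t := sylow_comm hG T t htT y hyT
  have huN : u ∈ N := Sylow.smul_eq_iff_mem_normalizer.1 (hufix ⟨T, hyT⟩)
  have hut : u * t * u⁻¹ ∈ (T : Subgroup G) := (Subgroup.mem_normalizer_iff.1 huN t).1 htT
  set q := u * t * u⁻¹ * t⁻¹ with hq
  have hqT : q ∈ (T : Subgroup G) := mul_mem hut (inv_mem htT)
  have hqfix : ∀ Q : X, q • Q.1 = Q.1 := by
    intro Q
    have h1 : y ∈ ((t⁻¹ • Q.1 : Sylow 3 G) : Subgroup G) := by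
      refine (mem_smul_sylow Q.1).2 ?_
      rw [inv_inv, hty, mul_inv_cancel_right]; exact Q.2
    have e1 : u • (t⁻¹ • Q.1) = t⁻¹ • Q.1 := hufix ⟨_, h1⟩
    rw [hq, show u * t * u⁻¹ * t⁻¹ = u * (t * (u⁻¹ * t⁻¹)) by group, mul_smul, mul_smul, mul_smul,
      inv_smul_eq_iff.2 e1.symm, smul_inv_smul]
    exact hufix Q
  obtain ⟨Q₁, hQ₁, hQ₁T⟩ : ∃ Q : Sylow 3 G, y ∈ (Q : Subgroup G) ∧ Q ≠ T := by
    by_contra hh; push Not at hh
    have := Nat.card_eq_one_iff_unique.2
      ⟨(⟨fun a b => Subtype.ext ((hh a.1 a.2).trans (hh b.1 b.2).symm)⟩ : Subsingleton X), ⟨(⟨T, hyT⟩ : X)⟩⟩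
    omega
  by_cases hqY : q ∈ Subgroup.zpowers y
  · obtain ⟨i, hi⟩ := Subgroup.mem_zpowers_iff.1 hqY
    have huy : u * y * u⁻¹ = y := mul_inv_eq_iff_eq_mul.2 (Subgroup.mem_centralizer_singleton_iff.1 huC)
    have hqu : u * q * u⁻¹ = q := by rw [← hi, ← conj_zpow, huy]
    have h2 : q * q = 1 := by
      calc q * q = (u * q * u⁻¹) * q := by rw [hqu]
        _ = (u * u) * t * (u * u)⁻¹ * t⁻¹ := by rw [hq]; group
        _ = 1 := by rw [sq_of_two hu]; group
    have hq1 : q = 1 := by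
      have h9 : q ^ 9 = 1 := orderOf_dvd_iff_pow_eq_one.1 (card_sylow_three hG T ▸ Subgroup.orderOf_dvd_natCard _ hqT)
      simpa using (pow_gcd_eq_one.2 ⟨(sq q).trans h2, h9⟩ : q ^ Nat.gcd 2 9 = 1)
    refine no_central_invol hG T hu (Subgroup.mem_centralizer_iff.2 fun a ha => ?_)
    refine Subgroup.mem_centralizer_singleton_iff.1 (sylow_le_of_two hG T hyT hy htT htY
      (H := Subgroup.centralizer ({u} : Set G))
      (Subgroup.mem_centralizer_singleton_iff.2 (Subgroup.mem_centralizer_singleton_iff.1 huC).symm)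
      (Subgroup.mem_centralizer_singleton_iff.2 ?_) ha)
    rw [hq, mul_inv_eq_one] at hq1
    exact (mul_inv_eq_iff_eq_mul.1 hq1).symm
  · have hqQ : q ∈ (Q₁ : Subgroup G) := mem_of_three hG Q₁
      (order_three_of_mem hG T hqT (fun e' => hqY (by rw [e']; exact one_mem _)))
      (Sylow.smul_eq_iff_mem_normalizer.1 (hqfix ⟨Q₁, hQ₁⟩))
    exact hQ₁T (Sylow.ext (le_antisymm
      (sylow_le_of_two hG Q₁ hQ₁ hy hqQ hqY hyT hqT)
      (sylow_le_of_two hG T hyT hy hqT hqY hQ₁ hqQ)))

theorem eq_of_common (hG : Cfsg.IsM11 G) {T Q : Sylow 3 G} {a : G} (ha : a ≠ 1)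
    (haT : a ∈ (T : Subgroup G)) (haQ : a ∈ (Q : Subgroup G)) : Q = T :=
  (centralizer_three hG T haT (order_three_of_mem hG T haT ha)).2 Q haQ

end Cfsg.Agent.MathieuEleven
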