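import Cfsg.Agent.Lib.Small.MathieuEleven.DegSearch
import Cfsg.Agent.Lib.Small.MathieuEleven.Basic
import Cfsg.Agent.Lib.Small.MathieuEleven.Struct
import Cfsg.Agent.Lib.Char.CyclicExtSigns
import Cfsg.Agent.Lib.Char.Galois
import Cfsg.Agent.Lib.Char.BlockBasic
import Cfsg.Agent.Lib.Lead.McKayTools

/-!
The character degrees of a simple group of order 7920.
-/

set_option autoImplicit false
set_option linter.style.haveILetI false
set_option linter.unusedSectionVars false

namespace Cfsg.Agent.MathieuEleven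

open Cfsg Cfsg.Agent.Char MulAction DegSearch
open scoped ComplexConjugate

universe u

variable {G : Type u} [Group G] [Fintype G]

/-- An invariant character value is a rational integer. -/
theorem rational_value {ψ : G → ℂ} (hψ : IsCharacter G ψ) (x : G)
    (h : ∀ k : ℕ, k.Coprime (Nat.card G) → ψ (x ^ k) = ψ x) : ∃ z : ℤ, ψ x = z := by
  obtain ⟨hm, hgal⟩ := char_galois hψ x
  have hne : Nat.card G ≠ 0 := Nat.card_pos.ne'
  obtain ⟨q, hq⟩ := exists_rat_of_fixed hne hm fun φ => by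
    obtain ⟨k, hk, hkφ⟩ := exists_power_of_embedding hne φ
    rw [hgal φ k hkφ, h k hk]
  obtain ⟨z, hz⟩ := isIntegral_rat_cast_imp (q := q) (hq ▸ char_isIntegral hψ x)
  exact ⟨z, by rw [hq, ← hz]; simp⟩

theorem conj_orbit_five (hG : Cfsg.IsM11 G) {x : G} (hx : orderOf x = 5) :
    Nat.card (Subgroup.centralizer ({x} : Set G)) = 5 ∧ ∀ k : ℕ, k.Coprime 5 → IsConj x (x ^ k) := by
  classical
  obtain ⟨X, hX⟩ := (IsPGroup.of_card (n := 1) (by rw [Nat.card_zpowers, hx, pow_one]) :
    IsPGroup 5 (Subgroup.zpowers x)).exists_le_sylow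
  have eX : Subgroup.zpowers x = (X : Subgroup G) :=
    Subgroup.eq_of_le_of_card_ge hX (by rw [Nat.card_zpowers, hx, card_sylow_five hG X])
  have hC : Nat.card (Subgroup.centralizer ({x} : Set G)) = 5 := by
    have hd := centralizer_five hG hx
    have h5 : 5 ∣ Nat.card (Subgroup.centralizer ({x} : Set G)) :=
      hx ▸ Subgroup.orderOf_dvd_natCard _ (Subgroup.mem_centralizer_singleton_iff.2 rfl)
    have hne : ¬ 2 ∣ Nat.card (Subgroup.centralizer ({x} : Set G)) := by
      intro h2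
      obtain ⟨v, hv⟩ := exists_prime_orderOf_dvd_card' (G := Subgroup.centralizer ({x} : Set G)) 2 h2
      have hxv : x ∈ Subgroup.centralizer ({(v : G)} : Set G) :=
        Subgroup.mem_centralizer_singleton_iff.2 (Subgroup.mem_centralizer_singleton_iff.1 v.2).symm
      have := Subgroup.orderOf_dvd_natCard _ hxv
      rw [hx, (involutions hG (v := (v : G)) (by rw [Subgroup.orderOf_coe, hv])).1] at this
      omega
    have := Nat.le_of_dvd (by norm_num) hd
    interval_cases hc : Nat.card (Subgroup.centralizer ({x} : Set G)) <;> omega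
  refine ⟨hC, fun k hk => ?_⟩
  set N := Subgroup.normalizer ((X : Subgroup G) : Set G) with hN
  have hconj : ∀ n ∈ N, ∀ a ∈ (X : Subgroup G), n * a * n⁻¹ ∈ (X : Subgroup G) :=
    fun n hn a ha => (Subgroup.mem_normalizer_iff.1 hn a).1 ha
  letI : MulAction N (X : Subgroup G) :=
    { smul := fun n a => ⟨(n : G) * a * (n : G)⁻¹, hconj n n.2 a a.2⟩
      one_smul := fun a => Subtype.ext (show (1 : G) * a * (1 : G)⁻¹ = a by group)
      mul_smul := fun s u a => Subtype.ext
        (show (s : G) * u * a * ((s : G) * u)⁻¹ = (s : G) * ((u : G) * a * (u : G)⁻¹) * (s : G)⁻¹ by group) }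
  have hxX : x ∈ (X : Subgroup G) := eX ▸ Subgroup.mem_zpowers x
  set x₀ : (X : Subgroup G) := ⟨x, hxX⟩
  have hsub : MulAction.orbit N x₀ ⊆ ({1} : Set (X : Subgroup G))ᶜ := by
    rintro _ ⟨n, rfl⟩ e
    have e' : (n : G) * x * (n : G)⁻¹ = 1 := congrArg Subtype.val (Set.mem_singleton_iff.1 e)
    rw [mul_inv_eq_one, mul_eq_left] at e'
    rw [e', orderOf_one] at hx; omega
  have h1 := (MulAction.stabilizer N x₀).index_mul_card
  rw [index_stabilizer, show Nat.card N = 20 from (five_local hG X).2.1] at h1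
  have h2 : Nat.card (MulAction.stabilizer N x₀) ≤ 5 := by
    refine le_trans ?_ hC.le
    refine Nat.card_le_card_of_injective (fun s => (⟨((s : N) : G), Subgroup.mem_centralizer_singleton_iff.2
      (mul_inv_eq_iff_eq_mul.1 (congrArg Subtype.val (mem_stabilizer_iff.1 s.2)))⟩ :
        Subgroup.centralizer ({x} : Set G))) ?_
    intro a b e
    exact Subtype.ext (Subtype.ext (congrArg (fun z : Subgroup.centralizer ({x} : Set G) => (z : G)) e))
  have heq : MulAction.orbit N x₀ = ({1} : Set (X : Subgroup G))ᶜ := by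
    refine Set.eq_of_subset_of_ncard_le hsub ?_ (Set.toFinite _)
    rw [Set.ncard_compl, card_sylow_five hG X, Set.ncard_singleton]
    nlinarith
  have hk1 : x ^ k ≠ 1 := fun e => by
    have := orderOf_dvd_of_pow_eq_one e
    rw [hx] at this
    have := Nat.dvd_gcd this (dvd_refl 5)
    rw [hk] at this; omega
  obtain ⟨n, hn⟩ : (⟨x ^ k, pow_mem hxX k⟩ : (X : Subgroup G)) ∈ MulAction.orbit N x₀ := by
    rw [heq]; exact fun e => hk1 (congrArg Subtype.val (Set.mem_singleton_iff.1 e))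
  exact isConj_iff.2 ⟨n, congrArg Subtype.val hn⟩

theorem conj_orbit_eleven (hG : Cfsg.IsM11 G) {x : G} (hx : orderOf x = 11) {k : ℕ} (hk : k.Coprime 11) :
    IsConj x (x ^ k) ∨ IsConj x⁻¹ (x ^ k) := by
  classical
  obtain ⟨X, hX⟩ := (IsPGroup.of_card (n := 1) (by rw [Nat.card_zpowers, hx, pow_one]) :
    IsPGroup 11 (Subgroup.zpowers x)).exists_le_sylow
  have eX : Subgroup.zpowers x = (X : Subgroup G) :=
    Subgroup.eq_of_le_of_card_ge hX (by rw [Nat.card_zpowers, hx, card_sylow_eleven hG X])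
  set N := Subgroup.normalizer ((X : Subgroup G) : Set G) with hN
  have hN55 : Nat.card N = 55 := (eleven_local hG X).2.1
  have hconj : ∀ n ∈ N, ∀ a ∈ (X : Subgroup G), n * a * n⁻¹ ∈ (X : Subgroup G) :=
    fun n hn a ha => (Subgroup.mem_normalizer_iff.1 hn a).1 ha
  letI : MulAction N (X : Subgroup G) :=
    { smul := fun n a => ⟨(n : G) * a * (n : G)⁻¹, hconj n n.2 a a.2⟩
      one_smul := fun a => Subtype.ext (show (1 : G) * a * (1 : G)⁻¹ = a by group)
      mul_smul := fun s u a => Subtype.ext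
        (show (s : G) * u * a * ((s : G) * u)⁻¹ = (s : G) * ((u : G) * a * (u : G)⁻¹) * (s : G)⁻¹ by group) }
  have hxX : x ∈ (X : Subgroup G) := eX ▸ Subgroup.mem_zpowers x
  set x₀ : (X : Subgroup G) := ⟨x, hxX⟩
  have hcard5 : ∀ a : (X : Subgroup G), a ≠ 1 → (MulAction.orbit N a).ncard = 5 := by
    intro a ha
    have hao : orderOf (a : G) = 11 := by
      have h := card_sylow_eleven hG X ▸ Subgroup.orderOf_dvd_natCard (X : Subgroup G) a.2
      rcases (Nat.dvd_prime (by norm_num : Nat.Prime 11)).1 h with e | e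
      · exact absurd (Subtype.ext (orderOf_eq_one_iff.1 e)) ha
      · exact e
    have h1 := (MulAction.stabilizer N a).index_mul_card
    rw [index_stabilizer, hN55] at h1
    have h2 : Nat.card (MulAction.stabilizer N a) = 11 := by
      refine Eq.trans ?_ (centralizer_eleven hG hao)
      refine Nat.card_congr
        { toFun := fun s => ⟨((s : N) : G), Subgroup.mem_centralizer_singleton_iff.2
            (mul_inv_eq_iff_eq_mul.1 (congrArg Subtype.val (mem_stabilizer_iff.1 s.2)))⟩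
          invFun := fun s => ⟨⟨(s : G), ?_⟩, mem_stabilizer_iff.2 (Subtype.ext
            (mul_inv_eq_iff_eq_mul.2 (Subgroup.mem_centralizer_singleton_iff.1 s.2)))⟩
          left_inv := fun s => rfl
          right_inv := fun s => rfl }
      have ea : Subgroup.zpowers (a : G) = (X : Subgroup G) :=
        Subgroup.eq_of_le_of_card_ge ((Subgroup.zpowers_le).2 a.2)
          (by rw [Nat.card_zpowers, hao, card_sylow_eleven hG X])
      exact Subgroup.centralizer_le_normalizer _ (by rw [centralizer_gen ea]; exact s.2)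
    rw [h2] at h1
    omega
  have hx1 : x₀ ≠ 1 := fun e => by
    have e' : x = 1 := congrArg Subtype.val e
    rw [e', orderOf_one] at hx; omega
  have hdis : Disjoint (MulAction.orbit N x₀) (MulAction.orbit N x₀⁻¹) := by
    rw [Set.disjoint_left]
    intro a ha ha'
    have e := (orbit_eq_iff.2 ha).symm.trans (orbit_eq_iff.2 ha')
    obtain ⟨n, hn⟩ : x₀⁻¹ ∈ MulAction.orbit N x₀ := e ▸ mem_orbit_self _
    have hn' : (n : G) * x * (n : G)⁻¹ = x⁻¹ := congrArg Subtype.val hn
    have h2 : (n : G) * n * x * ((n : G) * n)⁻¹ = x := by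
      calc (n : G) * n * x * ((n : G) * n)⁻¹ = (n : G) * ((n : G) * x * (n : G)⁻¹) * (n : G)⁻¹ := by group
        _ = (n : G) * x⁻¹ * (n : G)⁻¹ := by rw [hn']
        _ = ((n : G) * x * (n : G)⁻¹)⁻¹ := by group
        _ = x := by rw [hn', inv_inv]
    have h3 : (n : G) ∈ Subgroup.centralizer ({x} : Set G) := by
      have hodd : (n : G) ^ 55 = 1 := orderOf_dvd_iff_pow_eq_one.1 (hN55 ▸ Subgroup.orderOf_dvd_natCard N n.2)
      have : (n : G) = ((n : G) * n) ^ 28 := by
        rw [← pow_two, ← pow_mul, show 2 * 28 = 55 + 1 by norm_num, pow_add, hodd, one_mul, pow_one]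
      rw [this]
      exact pow_mem (Subgroup.mem_centralizer_singleton_iff.2 (mul_inv_eq_iff_eq_mul.1 h2)) 28
    rw [mul_inv_eq_iff_eq_mul.2 (Subgroup.mem_centralizer_singleton_iff.1 h3)] at hn'
    exact inv_ne_self' hx hn'.symm
  have hsub : MulAction.orbit N x₀ ∪ MulAction.orbit N x₀⁻¹ ⊆ ({1} : Set (X : Subgroup G))ᶜ := by
    rintro a (ha | ha) e <;> obtain ⟨n, rfl⟩ := ha <;>
      have e' := congrArg Subtype.val (Set.mem_singleton_iff.1 e)
    · change (n : G) * x * (n : G)⁻¹ = 1 at e'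
      rw [mul_inv_eq_one, mul_eq_left] at e'
      rw [e', orderOf_one] at hx; omega
    · change (n : G) * x⁻¹ * (n : G)⁻¹ = 1 at e'
      rw [mul_inv_eq_one, mul_eq_left, inv_eq_one] at e'
      rw [e', orderOf_one] at hx; omega
  have hall := Set.eq_of_subset_of_ncard_le hsub (by
    rw [Set.ncard_compl, card_sylow_eleven hG X, Set.ncard_singleton, Set.ncard_union_eq hdis,
      hcard5 _ hx1, hcard5 _ (inv_ne_one.2 hx1)]) (Set.toFinite _)
  have hk1 : x ^ k ≠ 1 := fun e => by
    have := orderOf_dvd_of_pow_eq_one e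
    rw [hx] at this
    have := Nat.dvd_gcd this (dvd_refl 11)
    rw [hk] at this; omega
  have : (⟨x ^ k, pow_mem hxX k⟩ : (X : Subgroup G)) ∈ MulAction.orbit N x₀ ∪ MulAction.orbit N x₀⁻¹ := by
    rw [hall]; exact fun e => hk1 (congrArg Subtype.val (Set.mem_singleton_iff.1 e))
  rcases this with ⟨n, hn⟩ | ⟨n, hn⟩
  · exact Or.inl (isConj_iff.2 ⟨n, congrArg Subtype.val hn⟩)
  · exact Or.inr (isConj_iff.2 ⟨n, congrArg Subtype.val hn⟩)
where
  inv_ne_self' {x : G} (hx : orderOf x = 11) : x⁻¹ ≠ x := fun e => by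
    have h2 : x ^ 2 = 1 := by
      rw [sq]; nth_rewrite 1 [← e]; exact inv_mul_cancel x
    have := orderOf_dvd_of_pow_eq_one h2
    rw [hx] at this; omega

theorem char_isConj {χ : G → ℂ} (h : IsCharacter G χ) {a b : G} (hab : IsConj a b) : χ b = χ a := by
  obtain ⟨c, rfl⟩ := isConj_iff.1 hab
  exact isClassFunction_character h a c

theorem column (x : G) :
    ∑ χ : IrrCharacter G, (χ : G → ℂ) x * conj ((χ : G → ℂ) x) = Nat.card (Subgroup.centralizer ({x} : Set G)) := by
  rw [second_orth, if_pos (IsConj.refl x), div_eq_iff, ← Nat.cast_mul,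
    mul_comm, class_mul_centralizer x]
  exact Nat.cast_ne_zero.2 (by
    have : Nonempty {y : G // IsConj x y} := ⟨⟨x, IsConj.refl x⟩⟩
    exact Nat.card_pos.ne')

theorem five_data (hG : Cfsg.IsM11 G) : ∃ u : IrrCharacter G → ℤ,
    ∑ χ, u χ ^ 2 = 5 ∧ ∑ χ : IrrCharacter G, (deg (χ : G → ℂ) : ℤ) * u χ = 0 ∧ ∀ χ, (5 : ℤ) ∣ u χ - deg (χ : G → ℂ) ∧
      ((∀ g, (χ : G → ℂ) g = 1) → u χ = 1) := by
  classical
  obtain ⟨x, hx⟩ := exists_prime_orderOf_dvd_card' (G := G) 5 (by rw [hG.2]; norm_num)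
  obtain ⟨hC, hconj⟩ := conj_orbit_five hG hx
  have hval : ∀ χ : IrrCharacter G, ∃ z : ℤ, (χ : G → ℂ) x = z := fun χ =>
    rational_value (irr_isCharacter χ.2) x fun k hk => char_isConj (irr_isCharacter χ.2)
      (hconj k (hk.coprime_dvd_right (by rw [hG.2]; norm_num)))
  choose u hu using hval
  refine ⟨u, ?_, ?_, fun χ => ⟨?_, fun h1 => ?_⟩⟩
  · have h := column x
    rw [hC] at h
    simp only [hu, map_intCast] at h
    have h' : ∑ χ, u χ * u χ = 5 := by exact_mod_cast h
    simpa [sq] using h'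
  · have h := second_orth (1 : G) x
    rw [if_neg (fun e => by
      have := (isConj_one_right.1 e)
      rw [this, orderOf_one] at hx; omega)] at h
    simp only [hu, map_intCast, char_one_eq_deg (irr_isCharacter (Subtype.prop _))] at h
    exact_mod_cast h
  · refine int_char_congr (irr_isCharacter χ.2) Nat.prime_five (hu χ) ?_
    rw [← hx, pow_orderOf_eq_one, char_one_eq_deg (irr_isCharacter χ.2)]
    simp
  · have := hu χ
    rw [h1] at this
    exact_mod_cast this.symm

theorem eleven_data (hG : Cfsg.IsM11 G) : ∃ m : IrrCharacter G → ℤ,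
    ∑ χ, m χ = 11 ∧ ∀ χ, 0 ≤ m χ ∧ (11 : ℤ) ∣ m χ - (deg (χ : G → ℂ) * deg (χ : G → ℂ) : ℕ) ∧
      ((∀ g, (χ : G → ℂ) g = 1) → m χ = 1) := by
  classical
  obtain ⟨x, hx⟩ := exists_prime_orderOf_dvd_card' (G := G) 11 (by rw [hG.2]; norm_num)
  have hψ : ∀ χ : IrrCharacter G, IsCharacter G fun g => (χ : G → ℂ) g * conj ((χ : G → ℂ) g) := fun χ =>
    isCharacter_mul (irr_isCharacter χ.2) (isCharacter_conj (irr_isCharacter χ.2))
  have hval : ∀ χ : IrrCharacter G, ∃ z : ℤ, (χ : G → ℂ) x * conj ((χ : G → ℂ) x) = z := fun χ => by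
    refine rational_value (hψ χ) x fun k hk => ?_
    rcases conj_orbit_eleven hG hx (hk.coprime_dvd_right (by rw [hG.2]; norm_num : 11 ∣ Nat.card G)) with e | e
    · exact char_isConj (hψ χ) e
    · rw [char_isConj (hψ χ) e]
      show (χ : G → ℂ) x⁻¹ * conj ((χ : G → ℂ) x⁻¹) = _
      rw [char_inv (irr_isCharacter χ.2), Complex.conj_conj, mul_comm]
  choose m hm using hval
  refine ⟨m, ?_, fun χ => ⟨?_, ?_, fun h1 => ?_⟩⟩
  · have h := column x
    rw [centralizer_eleven hG hx] at h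
    simp only [hm] at h
    exact_mod_cast h
  · have h1 : (m χ : ℝ) = Complex.normSq ((χ : G → ℂ) x) := by
      have := hm χ
      rw [Complex.mul_conj] at this
      exact_mod_cast this.symm
    have h2 := Complex.normSq_nonneg ((χ : G → ℂ) x)
    rw [← h1] at h2
    exact_mod_cast h2
  · refine int_char_congr (hψ χ) (by norm_num : Nat.Prime 11) (hm χ) ?_
    show (χ : G → ℂ) (x ^ 11) * conj ((χ : G → ℂ) (x ^ 11)) = _
    rw [← hx, pow_orderOf_eq_one, char_one_eq_deg (irr_isCharacter χ.2), Complex.conj_natCast]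
    push_cast; rfl
  · have := hm χ
    rw [h1, map_one, mul_one] at this
    exact_mod_cast this.symm

theorem cFive_le {d : ℕ} {u : ℤ} (h : (5 : ℤ) ∣ u - d) : (cFive d : ℤ) ≤ u ^ 2 ∧
    (u ^ 2 ≤ 4 → u = vFive d ∧ u ^ 2 = cFive d) := by
  have h5 : (u - (d % 5 : ℕ)) % 5 = 0 := by omega
  have hr : d % 5 < 5 := Nat.mod_lt _ (by norm_num)
  have hsmall : u ^ 2 ≤ 4 → -2 ≤ u ∧ u ≤ 2 := fun hu => ⟨by nlinarith, by nlinarith⟩
  constructor
  · unfold cFive
    by_cases h4 : u ^ 2 ≤ 4
    · obtain ⟨h1, h2⟩ := hsmall h4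
      interval_cases u <;> split_ifs <;> norm_num <;> omega
    · split_ifs <;> push_cast <;> omega
  · intro h4
    obtain ⟨h1, h2⟩ := hsmall h4
    unfold vFive cFive
    interval_cases u <;> split_ifs <;> norm_num <;> omega

/-- The degrees of the irreducible characters. -/
theorem degrees (hG : Cfsg.IsM11 G) : Nat.card (IrrCharacter G) = 10 ∧ ∀ n : ℕ,
    Nat.card {χ : IrrCharacter G // deg (χ : G → ℂ) = n} =
      if n = 1 ∨ n = 11 ∨ n = 44 ∨ n = 45 ∨ n = 55 then 1 else if n = 10 then 3 else if n = 16 then 2 else 0 := by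
  classical
  obtain ⟨u, hu2, hu0, hu⟩ := five_data hG
  obtain ⟨m, hm11, hm⟩ := eleven_data hG
  set χ₀ : IrrCharacter G := ⟨fun _ => 1, isIrrCharacter_one⟩ with hχ₀
  have hd0 : deg (χ₀ : G → ℂ) = 1 := by simp [hχ₀, deg]
  have hone : ∀ χ : IrrCharacter G, deg (χ : G → ℂ) = 1 → χ = χ₀ := by
    intro χ hd
    have h1 := (Cfsg.Agent.Lead.DegCount.deg_eq_one_iff χ).1 hd
    obtain ⟨l, hl⟩ := exists_hom_of_degree_one (irr_isCharacter χ.2) h1
    refine Subtype.ext (funext fun g => ?_)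
    rw [hl]
    show (l g : ℂ) = 1
    rw [(perfect hG).hom_eq l g, Units.val_one]
  set S := (Finset.univ : Finset (IrrCharacter G)).erase χ₀ with hS
  have hsplit : ∀ {M : Type} [AddCommMonoid M] (f : IrrCharacter G → M), ∑ χ, f χ = f χ₀ + ∑ χ ∈ S, f χ :=
    fun f => (Finset.add_sum_erase _ f (Finset.mem_univ _)).symm
  have hsq : ∑ χ ∈ S, deg (χ : G → ℂ) * deg (χ : G → ℂ) = 7919 := by
    have h := Cfsg.Agent.Lead.DegCount.sum_deg_sq G
    rw [hsplit, hd0, hG.2] at h
    simp only [sq] at h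
    norm_num at h
    omega
  have hcand : ∀ χ ∈ S, deg (χ : G → ℂ) ∈ cand := by
    intro χ hχ
    refine cand_complete _ ?_ ?_ ?_
    · have h1 : deg (χ : G → ℂ) * deg (χ : G → ℂ) ≤ 7919 :=
        hsq ▸ Finset.single_le_sum (f := fun χ : IrrCharacter G => deg (χ : G → ℂ) * deg (χ : G → ℂ))
          (fun _ _ => Nat.zero_le _) hχ
      nlinarith
    · have := deg_pos χ.2
      have hne : deg (χ : G → ℂ) ≠ 1 := fun e => (Finset.mem_erase.1 hχ).1 (hone χ e)
      omega
    · have := deg_dvd_card χ.2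
      rw [hG.2] at this
      simpa using this
  have hu4 : ∑ χ ∈ S, u χ ^ 2 = 4 := by
    rw [hsplit, (hu χ₀).2 fun _ => rfl] at hu2
    linarith
  have huv : ∀ χ ∈ S, u χ = vFive (deg (χ : G → ℂ)) ∧ u χ ^ 2 = cFive (deg (χ : G → ℂ)) := fun χ hχ =>
    (cFive_le (hu χ).1).2 (hu4 ▸ Finset.single_le_sum (f := fun χ => u χ ^ 2) (fun χ _ => sq_nonneg (u χ)) hχ)
  have hc4 : ∑ χ ∈ S, cFive (deg (χ : G → ℂ)) = 4 := by
    have : ((∑ χ ∈ S, cFive (deg (χ : G → ℂ)) : ℕ) : ℤ) = 4 := by
      rw [← hu4]; push_cast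
      exact Finset.sum_congr rfl fun χ hχ => (huv χ hχ).2.symm
    exact_mod_cast this
  have hv0 : (1 : ℤ) + ∑ χ ∈ S, vFive (deg (χ : G → ℂ)) * deg (χ : G → ℂ) = 0 := by
    rw [hsplit, (hu χ₀).2 fun _ => rfl, hd0] at hu0
    rw [← hu0]
    push_cast
    refine congrArg _ (Finset.sum_congr rfl fun χ hχ => ?_)
    rw [← (huv χ hχ).1]; ring
  have hm10 : ∑ χ ∈ S, mEl (deg (χ : G → ℂ)) ≤ 10 := by
    have h10 : ∑ χ ∈ S, m χ = 10 := by
      rw [hsplit, (hm χ₀).2.2 fun _ => rfl] at hm11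
      linarith
    have : ((∑ χ ∈ S, mEl (deg (χ : G → ℂ)) : ℕ) : ℤ) ≤ 10 := by
      rw [← h10]; push_cast
      refine Finset.sum_le_sum fun χ _ => ?_
      obtain ⟨h0, hd, -⟩ := hm χ
      unfold mEl
      omega
    exact_mod_cast this
  let cnt : ℕ → ℕ := fun d => (S.filter fun χ : IrrCharacter G => deg (χ : G → ℂ) = d).card
  have hnodup : cand.Nodup := by decide
  have htrans : ∀ {M : Type} [AddCommMonoid M] (f : ℕ → M),
      (cand.map fun d => cnt d • f d).sum = ∑ χ ∈ S, f (deg (χ : G → ℂ)) := by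
    intro M _ f
    rw [← List.sum_toFinset _ hnodup, ← Finset.sum_fiberwise_of_maps_to
      (t := cand.toFinset) (fun χ hχ => List.mem_toFinset.2 (hcand χ hχ)) (fun χ : IrrCharacter G => f (deg (χ : G → ℂ)))]
    refine Finset.sum_congr rfl fun d _ => ?_
    rw [Finset.sum_congr rfl (g := fun _ => f d) fun χ hχ => by rw [(Finset.mem_filter.1 hχ).2], Finset.sum_const]
  have hmem := mem_search cnt cand 7919 10 4 1 cand_pos cand_ordered cand_weight
    ((htrans (M := ℕ) fun d => d * d).trans hsq) ((htrans (M := ℕ) mEl).trans_le hm10)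
    ((htrans (M := ℕ) cFive).trans hc4) (by
      have := htrans (M := ℤ) fun d => vFive d * d
      simp only [nsmul_eq_mul] at this
      rw [this]; exact hv0)
  rw [unique_solution, List.mem_singleton] at hmem
  have hcnt : ∀ n, Nat.card {χ : IrrCharacter G // deg (χ : G → ℂ) = n} =
      if n = 1 ∨ n = 11 ∨ n = 44 ∨ n = 45 ∨ n = 55 then 1 else if n = 10 then 3 else if n = 16 then 2 else 0 := by
    intro n
    rw [Nat.card_eq_fintype_card, Fintype.card_subtype]
    by_cases h1 : n = 1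
    · subst h1
      rw [if_pos (Or.inl rfl), Finset.card_eq_one]
      refine ⟨χ₀, Finset.ext fun χ => ?_⟩
      simp only [Finset.mem_filter, Finset.mem_univ, true_and, Finset.mem_singleton]
      exact ⟨hone χ, fun e => e ▸ hd0⟩
    have hfc : (Finset.univ.filter fun χ : IrrCharacter G => deg (χ : G → ℂ) = n).card = cnt n := by
      congr 1
      ext χ
      simp only [hS, Finset.mem_filter, Finset.mem_univ, true_and, Finset.mem_erase]
      refine ⟨fun h => ⟨⟨fun e => h1 ?_, trivial⟩, h⟩, fun h => h.2⟩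
      rw [← h, e, hd0]
    rw [hfc]
    by_cases hn : n ∈ cand
    · have he : cand.map cnt = cand.map fun n : ℕ => if n = 1 ∨ n = 11 ∨ n = 44 ∨ n = 45 ∨ n = 55 then 1
          else if n = 10 then 3 else if n = 16 then 2 else 0 := hmem.trans (by decide)
      exact List.map_inj_left.1 he n hn
    · have h0 : cnt n = 0 := Finset.card_eq_zero.2 (Finset.filter_eq_empty_iff.2 fun χ hχ e =>
        hn (e ▸ hcand χ hχ))
      rw [h0, if_neg, if_neg, if_neg]
      · rintro rfl; exact hn (by decide)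
      · rintro rfl; exact hn (by decide)
      · rintro (rfl | rfl | rfl | rfl | rfl)
        · exact h1 rfl
        all_goals exact hn (by decide)
  refine ⟨?_, hcnt⟩
  have hmaps : ∀ χ ∈ (Finset.univ : Finset (IrrCharacter G)),
      deg (χ : G → ℂ) ∈ insert 1 cand.toFinset := by
    intro χ _
    by_cases h : χ = χ₀
    · rw [h, hd0]; exact Finset.mem_insert_self _ _
    · exact Finset.mem_insert_of_mem (List.mem_toFinset.2 (hcand χ (Finset.mem_erase.2 ⟨h, Finset.mem_univ _⟩)))
  rw [Nat.card_eq_fintype_card, ← Finset.card_univ, Finset.card_eq_sum_card_fiberwise hmaps]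
  have e : ∀ b, (Finset.univ.filter fun χ : IrrCharacter G => deg (χ : G → ℂ) = b).card =
      Nat.card {χ : IrrCharacter G // deg (χ : G → ℂ) = b} := fun b => by
    rw [Nat.card_eq_fintype_card, Fintype.card_subtype]
  simp only [e, hcnt]
  decide

end Cfsg.Agent.MathieuEleven
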