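import Cfsg.Agent.Lib.Small.MathieuEleven.Struct

/-!
The graph on the 55 Sylow 3-subgroups: two are joined when one involution inverts both.
-/

set_option autoImplicit false
set_option linter.style.haveILetI false
set_option linter.unusedSectionVars false

namespace Cfsg.Agent.MathieuEleven

open MulAction

variable {G : Type*} [Group G] [Finite G]

/-- The involution `z` inverts the Sylow subgroup `T`. -/
def Inverts (z : G) (T : Sylow 3 G) : Prop :=
  orderOf z = 2 ∧ ∀ t ∈ (T : Subgroup G), z * t * z⁻¹ = t⁻¹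

theorem Inverts.conj {z : G} {T : Sylow 3 G} (h : Inverts z T) (g : G) :
    Inverts (g * z * g⁻¹) (g • T) := by
  refine ⟨by rw [order_conj, h.1], fun t ht => ?_⟩
  have e := h.2 _ ((mem_smul_sylow T).1 ht)
  calc g * z * g⁻¹ * t * (g * z * g⁻¹)⁻¹ = g * (z * (g⁻¹ * t * g) * z⁻¹) * g⁻¹ := by group
    _ = t⁻¹ := by rw [e]; group

theorem Inverts.fix {z : G} {T : Sylow 3 G} (h : Inverts z T) : z • T = T := by
  refine Sylow.smul_eq_iff_mem_normalizer.2 (Subgroup.mem_normalizer_iff.2 fun t => ?_)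
  refine ⟨fun ht => by rw [h.2 t ht]; exact inv_mem ht, fun ht => ?_⟩
  have e := h.2 _ ht
  have h2 := sq_of_two h.1
  rw [show z * (z * t * z⁻¹) * z⁻¹ = (z * z) * t * (z * z)⁻¹ by group, h2, one_mul, inv_one, mul_one] at e
  rw [e]; exact inv_mem ht

theorem order_two_of_commute {z r : G} (hz : orderOf z = 2) (hr : orderOf r = 2) (hc : z * r = r * z) :
    (z * r) * (z * r) = 1 := by
  calc z * r * (z * r) = z * (r * z) * r := by group
    _ = (z * z) * (r * r) := by rw [← hc]; group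
    _ = 1 := by rw [sq_of_two hz, sq_of_two hr, one_mul]

theorem inverts_pair_unique (hG : Cfsg.IsM11 G) {z z' : G} {T U : Sylow 3 G} (hTU : U ≠ T) (h1 : Inverts z T)
    (h2 : Inverts z U) (h3 : Inverts z' T) (h4 : Inverts z' U) : z = z' := by
  have e1 := inverter_unique hG T h1.1 h1.2 h3.2
  have e2 := inverter_unique hG U h2.1 h2.2 h4.2
  have e : z * z' = 1 := by
    by_contra hne
    exact hTU (eq_of_common hG hne e1 e2)
  rw [← inv_eq_of_mul_eq_one_right e, inv_eq_of_mul_eq_one_right (sq_of_two h1.1)]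

theorem inverts_commute_eq (hG : Cfsg.IsM11 G) {z r : G} {U : Sylow 3 G} (h1 : Inverts z U) (h2 : Inverts r U)
    (hc : z * r = r * z) : z = r := by
  have hm := inverter_unique hG U h1.1 h1.2 h2.2
  have e : z * r = 1 := by
    by_contra hne
    have h3 := order_three_of_mem hG U hm hne
    have := orderOf_dvd_of_pow_eq_one ((sq (z * r)).trans (order_two_of_commute h1.1 h2.1 hc))
    rw [h3] at this; omega
  rw [← inv_eq_of_mul_eq_one_right e, inv_eq_of_mul_eq_one_right (sq_of_two h1.1)]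

theorem sylow_pow_three (hG : Cfsg.IsM11 G) (T : Sylow 3 G) {t : G} (ht : t ∈ (T : Subgroup G)) : t ^ 3 = 1 := by
  by_cases h : t = 1
  · rw [h, one_pow]
  · rw [← order_three_of_mem hG T ht h, pow_orderOf_eq_one]

theorem inverts_conjugate (hG : Cfsg.IsM11 G) {z z' : G} {T : Sylow 3 G} (h : Inverts z T) (h' : Inverts z' T) :
    ∃ t ∈ (T : Subgroup G), t * z * t⁻¹ = z' := by
  obtain ⟨u, hu⟩ : ∃ u : G, u = z * z' := ⟨_, rfl⟩
  have hm : u ∈ (T : Subgroup G) := hu ▸ inverter_unique hG T h.1 h.2 h'.2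
  refine ⟨u, hm, ?_⟩
  calc u * z * u⁻¹ = (z * z) * u * z * u⁻¹ := by rw [sq_of_two h.1, one_mul]
    _ = z * (z * u * z⁻¹) * (z * z) * u⁻¹ := by group
    _ = z * (u ^ 3)⁻¹ * u := by rw [h.2 u hm, sq_of_two h.1]; group
    _ = z' := by rw [sylow_pow_three hG T hm, inv_one, mul_one, hu, ← mul_assoc, sq_of_two h.1, one_mul]

theorem card_inverts (hG : Cfsg.IsM11 G) (T : Sylow 3 G) : Nat.card {z : G // Inverts z T} = 9 := by
  obtain ⟨S, hS⟩ := sylow_two_nonempty hG T
  obtain ⟨w, hwS, hw, -, hwi⟩ := inverter hG T S hS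
  rw [← card_sylow_three hG T]
  refine (Nat.card_congr (Equiv.ofBijective (fun t : (T : Subgroup G) => (⟨w * t, ?_, ?_⟩ : {z : G // Inverts z T})) ⟨?_, ?_⟩)).symm
  · refine orderOf_eq_prime ?_ fun e => ?_
    · rw [sq, show w * (t : G) * (w * t) = (w * t * w⁻¹) * (w * w) * t by group, hwi _ t.2, sq_of_two hw,
        mul_one, inv_mul_cancel]
    · have e' : w = (t : G)⁻¹ := eq_inv_of_mul_eq_one_left e
      have h3 := sylow_pow_three hG T (inv_mem t.2)
      rw [← e'] at h3
      have := orderOf_dvd_of_pow_eq_one h3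
      rw [hw] at this; omega
  · intro a ha
    rw [show w * (t : G) * a * (w * t)⁻¹ = w * ((t : G) * a * (t : G)⁻¹) * w⁻¹ by group,
      sylow_comm hG T _ t.2 a ha, mul_inv_cancel_right, hwi a ha]
  · intro a b e
    exact Subtype.ext (mul_left_cancel (congrArg Subtype.val e))
  · rintro ⟨z, hz⟩
    exact ⟨⟨w * z, inverter_unique hG T hw hwi hz.2⟩, Subtype.ext (by
      show w * (w * z) = z
      rw [← mul_assoc, sq_of_two hw, one_mul])⟩

theorem card_involutions (hG : Cfsg.IsM11 G) {v : G} (hv : orderOf v = 2) :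
    Nat.card {z : G // orderOf z = 2} = 165 := by
  have h := class_mul_centralizer v
  rw [(involutions hG hv).1, hG.2] at h
  have e : Nat.card {x : G // IsConj v x} = Nat.card {z : G // orderOf z = 2} :=
    Nat.card_congr (Equiv.subtypeEquivRight fun x => ⟨fun h' => by
      obtain ⟨g, rfl⟩ := isConj_iff.1 h'; rw [order_conj, hv], (involutions hG hv).2 x⟩)
  omega

theorem card_inverted (hG : Cfsg.IsM11 G) {v : G} (hv : orderOf v = 2) :
    Nat.card {T : Sylow 3 G // Inverts v T} = 3 := by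
  classical
  haveI : Fintype G := Fintype.ofFinite G
  haveI : Fintype (Sylow 3 G) := Fintype.ofFinite _
  have h1 : ∀ z : {z : G // orderOf z = 2},
      Nat.card {T : Sylow 3 G // Inverts (z : G) T} = Nat.card {T : Sylow 3 G // Inverts v T} := by
    rintro ⟨z, hz⟩
    obtain ⟨c, rfl⟩ := isConj_iff.1 ((involutions hG hv).2 z hz)
    refine (Nat.card_congr (Equiv.subtypeEquiv (MulAction.toPerm c) fun Q => ⟨fun h => h.conj c, fun h => ?_⟩)).symm
    have := h.conj c⁻¹
    simpa [mul_assoc] using this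
  let e : (Σ z : {z : G // orderOf z = 2}, {T : Sylow 3 G // Inverts (z : G) T}) ≃
      (Σ T : Sylow 3 G, {z : G // Inverts z T}) :=
    { toFun := fun p => ⟨p.2.1, p.1.1, p.2.2⟩
      invFun := fun p => ⟨⟨p.2.1, p.2.2.1⟩, p.1, p.2.2⟩
      left_inv := fun p => rfl
      right_inv := fun p => rfl }
  have h := Nat.card_congr e
  rw [Nat.card_sigma, Nat.card_sigma] at h
  simp only [h1, card_inverts hG, Finset.sum_const, Finset.card_univ, smul_eq_mul, ← Nat.card_eq_fintype_card] at h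
  obtain ⟨T⟩ : Nonempty (Sylow 3 G) := inferInstance
  rw [card_involutions hG hv, (normalizer_three hG T).1] at h
  omega

/-- Three Sylow subgroups inverted by one involution. -/
structure Tri (z : G) (T U V : Sylow 3 G) : Prop where
  hT : Inverts z T
  hU : Inverts z U
  hV : Inverts z V
  tu : U ≠ T
  tv : V ≠ T
  uv : V ≠ U

theorem Tri.swap {z : G} {T U V : Sylow 3 G} (h : Tri z T U V) : Tri z T V U :=
  ⟨h.hT, h.hV, h.hU, h.tv, h.tu, h.uv.symm⟩

theorem Tri.flip {z : G} {T U V : Sylow 3 G} (h : Tri z T U V) : Tri z U T V :=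
  ⟨h.hU, h.hT, h.hV, h.tu.symm, h.uv, h.tv⟩

theorem Tri.conj {z : G} {T U V : Sylow 3 G} (h : Tri z T U V) (g : G) :
    Tri (g * z * g⁻¹) (g • T) (g • U) (g • V) :=
  ⟨h.hT.conj g, h.hU.conj g, h.hV.conj g, fun e => h.tu (MulAction.injective g e),
    fun e => h.tv (MulAction.injective g e), fun e => h.uv (MulAction.injective g e)⟩

theorem Tri.cases (hG : Cfsg.IsM11 G) {z : G} {T U V W : Sylow 3 G} (h : Tri z T U V) (hW : Inverts z W) :
    W = T ∨ W = U ∨ W = V := by
  classical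
  haveI : Fintype {Q : Sylow 3 G // Inverts z Q} := Fintype.ofFinite _
  by_contra hne
  push Not at hne
  have h4 : ({⟨T, h.hT⟩, ⟨U, h.hU⟩, ⟨V, h.hV⟩, ⟨W, hW⟩} : Finset {Q : Sylow 3 G // Inverts z Q}).card = 4 := by
    rw [Finset.card_insert_of_notMem (by simp [h.tu.symm, h.tv.symm, hne.1.symm]),
      Finset.card_insert_of_notMem (by simp [h.uv.symm, hne.2.1.symm]),
      Finset.card_insert_of_notMem (by simp [hne.2.2.symm]), Finset.card_singleton]
  have := Finset.card_le_univ ({⟨T, h.hT⟩, ⟨U, h.hU⟩, ⟨V, h.hV⟩, ⟨W, hW⟩} : Finset {Q : Sylow 3 G // Inverts z Q})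
  rw [h4, ← Nat.card_eq_fintype_card, card_inverted hG h.hT.1] at this
  omega

theorem exists_tri (hG : Cfsg.IsM11 G) {z : G} {T U : Sylow 3 G} (hT : Inverts z T) (hU : Inverts z U)
    (hne : U ≠ T) : ∃ V, Tri z T U V := by
  classical
  haveI : Fintype {Q : Sylow 3 G // Inverts z Q} := Fintype.ofFinite _
  obtain ⟨⟨V, hV⟩, -, hn⟩ : ∃ Q ∈ (Finset.univ : Finset {Q : Sylow 3 G // Inverts z Q}),
      Q ∉ ({⟨T, hT⟩, ⟨U, hU⟩} : Finset {Q : Sylow 3 G // Inverts z Q}) := by
    refine Finset.exists_mem_notMem_of_card_lt_card ?_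
    rw [Finset.card_univ, ← Nat.card_eq_fintype_card, card_inverted hG hT.1]
    exact (Finset.card_le_two).trans_lt (by omega)
  simp only [Finset.mem_insert, Finset.mem_singleton, Subtype.mk.injEq, not_or] at hn
  exact ⟨V, hT, hU, hV, hne, hn.1, hn.2⟩

theorem exists_tri' (hG : Cfsg.IsM11 G) {z : G} {T : Sylow 3 G} (hT : Inverts z T) :
    ∃ U V, Tri z T U V := by
  obtain ⟨U, hU, hne⟩ : ∃ U, Inverts z U ∧ U ≠ T := by
    by_contra hh
    push Not at hh
    have := Nat.card_eq_one_iff_unique.2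
      ⟨(⟨fun a b => Subtype.ext ((hh a.1 a.2).trans (hh b.1 b.2).symm)⟩ : Subsingleton {Q : Sylow 3 G // Inverts z Q}),
        ⟨(⟨T, hT⟩ : {Q : Sylow 3 G // Inverts z Q})⟩⟩
    rw [card_inverted hG hT.1] at this
    omega
  exact ⟨U, exists_tri hG hT hU hne⟩

theorem exists_reflection (hG : Cfsg.IsM11 G) {z : G} {T : Sylow 3 G} (hT : Inverts z T) :
    ∃ r, orderOf r = 2 ∧ r • T = T ∧ z * r = r * z ∧ r ≠ z := by
  obtain ⟨y, hy, hy3⟩ := exists_three_mem hG T
  obtain ⟨r', hr'⟩ := exists_prime_orderOf_dvd_card' (G := ↥(Subgroup.centralizer ({y} : Set G) ⊓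
    Subgroup.normalizer ((T : Subgroup G) : Set G))) 2 (by rw [centralizer_in_normalizer_three hG T hy hy3]; norm_num)
  obtain ⟨hry, hrN⟩ := Subgroup.mem_inf.1 r'.2
  have hr : orderOf (r' : G) = 2 := by rw [Subgroup.orderOf_coe, hr']
  obtain ⟨S, hrS, hSN⟩ := exists_sylow_two_in hG T hr hrN
  obtain ⟨w, -, hw, hwc, hwi⟩ := inverter hG T S hSN
  obtain ⟨t, ht, rfl⟩ := inverts_conjugate hG (z := w) (z' := z) ⟨hw, hwi⟩ hT
  refine ⟨t * r' * t⁻¹, by rw [order_conj, hr], ?_, ?_, fun e => ?_⟩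
  · exact Sylow.smul_eq_iff_mem_normalizer.2
      (mul_mem (mul_mem (Subgroup.le_normalizer ht) hrN) (inv_mem (Subgroup.le_normalizer ht)))
  · calc t * w * t⁻¹ * (t * r' * t⁻¹) = t * (w * r') * t⁻¹ := by group
      _ = t * r' * t⁻¹ * (t * w * t⁻¹) := by rw [← hwc _ hrS]; group
  · have e' : (r' : G) = w := by simpa using e
    have h1 := hwi y hy
    rw [← e', Subgroup.mem_centralizer_singleton_iff.1 hry, mul_inv_cancel_right] at h1
    exact inv_ne_self hy3 h1.symm

theorem centralizer_transitive (hG : Cfsg.IsM11 G) {z : G} {T U : Sylow 3 G} (hT : Inverts z T) (hU : Inverts z U) :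
    ∃ g, z * g = g * z ∧ g • T = U := by
  obtain ⟨g, hg⟩ := MulAction.exists_smul_eq G T U
  have h' : Inverts (g⁻¹ * z * g) T := by
    have := hU.conj g⁻¹
    rwa [← hg, inv_smul_smul, inv_inv] at this
  obtain ⟨t, ht, hte⟩ := inverts_conjugate hG hT h'
  refine ⟨g * t, ?_, ?_⟩
  · calc z * (g * t) = g * (g⁻¹ * z * g) * t := by group
      _ = g * t * z := by rw [← hte]; group
  · rw [mul_smul, Sylow.smul_eq_iff_mem_normalizer.2 (Subgroup.le_normalizer ht), hg]

theorem Inverts.smul_of_commute {z g : G} {W : Sylow 3 G} (h : Inverts z W) (hc : z * g = g * z) :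
    Inverts z (g • W) := by
  have := h.conj g
  rwa [← hc, mul_inv_cancel_right] at this

theorem exists_swap (hG : Cfsg.IsM11 G) {z : G} {T U V : Sylow 3 G} (h : Tri z T U V) :
    ∃ g, z * g = g * z ∧ g • T = T ∧ g • U = V ∧ g • V = U := by
  classical
  by_contra hh
  push Not at hh
  have fixU : ∀ g, z * g = g * z → g • T = T → g • U = U ∧ g • V = V := by
    intro g hc hgT
    rcases h.cases hG (h.hU.smul_of_commute hc) with e | e | e
    · exact absurd (MulAction.injective g (e.trans hgT.symm)) h.tu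
    · refine ⟨e, ?_⟩
      rcases h.cases hG (h.hV.smul_of_commute hc) with e' | e' | e'
      · exact absurd (MulAction.injective g (e'.trans hgT.symm)) h.tv
      · exact absurd (MulAction.injective g (e'.trans e.symm)) h.uv
      · exact e'
    · exfalso
      refine hh g hc hgT e ?_
      rcases h.cases hG (h.hV.smul_of_commute hc) with e' | e' | e'
      · exact absurd (MulAction.injective g (e'.trans hgT.symm)) h.tv
      · exact e'
      · exact absurd (MulAction.injective g (e'.trans e.symm)) h.uv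
  have hP : ∀ r, orderOf r = 2 → z * r = r * z → ∀ W, Inverts z W → r • W = W := by
    intro r hr hc
    have hX : ∃ X, Inverts z X ∧ r • X = X := by
      by_contra hn
      push Not at hn
      let P : Equiv.Perm {Q : Sylow 3 G // Inverts z Q} :=
        { toFun := fun Q => ⟨r • Q.1, Q.2.smul_of_commute hc⟩
          invFun := fun Q => ⟨r • Q.1, Q.2.smul_of_commute hc⟩
          left_inv := fun Q => Subtype.ext (show r • r • Q.1 = Q.1 by rw [← mul_smul, sq_of_two hr, one_smul])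
          right_inv := fun Q => Subtype.ext (show r • r • Q.1 = Q.1 by rw [← mul_smul, sq_of_two hr, one_smul]) }
      haveI : Fintype {Q : Sylow 3 G // Inverts z Q} := Fintype.ofFinite _
      have h2 : P ^ 2 = 1 := Equiv.ext fun Q => Subtype.ext
        (show r • r • Q.1 = Q.1 by rw [← mul_smul, sq_of_two hr, one_smul])
      haveI := Fact.mk Nat.prime_two
      obtain ⟨Q, hQ⟩ := Equiv.Perm.exists_fixed_point_of_prime (p := 2) (n := 1)
        (by rw [← Nat.card_eq_fintype_card, card_inverted hG h.hT.1]; norm_num) (σ := P) (by rw [pow_one]; exact h2)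
      exact hn Q.1 Q.2 (congrArg Subtype.val hQ)
    obtain ⟨X, hX, hrX⟩ := hX
    obtain ⟨g, hgc, hgT⟩ := centralizer_transitive hG h.hT hX
    have hc' : z * (g⁻¹ * r * g) = g⁻¹ * r * g * z := by
      have e1 : z * g⁻¹ = g⁻¹ * z := by rw [eq_inv_mul_iff_mul_eq, ← mul_assoc, ← hgc, mul_inv_cancel_right]
      calc z * (g⁻¹ * r * g) = (z * g⁻¹) * r * g := by group
        _ = g⁻¹ * (z * r) * g := by rw [e1]; group
        _ = g⁻¹ * r * (z * g) := by rw [hc]; group
        _ = g⁻¹ * r * g * z := by rw [hgc]; group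
    have hT' : (g⁻¹ * r * g) • T = T := by rw [mul_smul, mul_smul, hgT, hrX, ← hgT, inv_smul_smul]
    obtain ⟨hU', hV'⟩ := fixU _ hc' hT'
    have hall : ∀ W, Inverts z W → r • g • W = g • W := by
      intro W hW
      have e : (g⁻¹ * r * g) • W = W := by
        rcases h.cases hG hW with rfl | rfl | rfl
        exacts [hT', hU', hV']
      rwa [mul_smul, mul_smul, inv_smul_eq_iff] at e
    intro W hW
    have hi : Inverts z (g⁻¹ • W) := hW.smul_of_commute (by
      rw [eq_inv_mul_iff_mul_eq, ← mul_assoc, ← hgc, mul_inv_cancel_right])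
    have := hall _ hi
    rwa [smul_inv_smul] at this
  -- the same holds for every involution
  have hPall : ∀ v r : G, orderOf v = 2 → orderOf r = 2 → v * r = r * v → ∀ W, Inverts v W → r • W = W := by
    intro v r hv hr hc W hW
    obtain ⟨c, rfl⟩ := isConj_iff.1 ((involutions hG h.hT.1).2 v hv)
    have h1 : Inverts z (c⁻¹ • W) := by
      have := hW.conj c⁻¹
      simpa [mul_assoc] using this
    have := hP (c⁻¹ * r * c) (by
      have := order_conj c⁻¹ r
      rw [inv_inv] at this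
      rw [this, hr]) (by
      calc z * (c⁻¹ * r * c) = c⁻¹ * ((c * z * c⁻¹) * r) * c := by group
        _ = c⁻¹ * r * c * z := by rw [hc]; group) _ h1
    rw [mul_smul, mul_smul, smul_inv_smul] at this
    exact MulAction.injective c⁻¹ this
  obtain ⟨r, hr, -, hzr, hrz⟩ := exists_reflection hG h.hT
  have hzz := sq_of_two h.hT.1
  have hs : orderOf (z * r) = 2 := orderOf_eq_prime ((sq (z * r)).trans (order_two_of_commute h.hT.1 hr hzr))
    fun e => hrz (by rw [← inv_eq_of_mul_eq_one_right e, inv_eq_of_mul_eq_one_right hzz])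
  have hzs : z * (z * r) = z * r * z := by rw [mul_assoc z r z, ← hzr]
  let Emb : ({W : Sylow 3 G // Inverts z W} ⊕ {W : Sylow 3 G // Inverts r W} ⊕ {W : Sylow 3 G // Inverts (z * r) W}) →
      fixedBy (Sylow 3 G) z
    | .inl W => ⟨W.1, W.2.fix⟩
    | .inr (.inl W) => ⟨W.1, hPall r z hr h.hT.1 hzr.symm _ W.2⟩
    | .inr (.inr W) => ⟨W.1, hPall (z * r) z hs h.hT.1 hzs.symm _ W.2⟩
  have hzrne : z ≠ z * r := fun e => by
    have : r = 1 := mul_eq_left.1 e.symm
    rw [this, orderOf_one] at hr; omega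
  have hrne : r ≠ z * r := fun e => by
    have : z = 1 := mul_eq_right.1 e.symm
    have h2 := h.hT.1
    rw [this, orderOf_one] at h2; omega
  have hrzr : r * (z * r) = z * r * r := by rw [← mul_assoc, ← hzr]
  have hinj : Function.Injective Emb := by
    rintro (⟨a, ha⟩ | ⟨a, ha⟩ | ⟨a, ha⟩) (⟨b, hb⟩ | ⟨b, hb⟩ | ⟨b, hb⟩) e
    all_goals (have e' : a = b := congrArg Subtype.val e; subst e')
    · rfl
    · exact absurd (inverts_commute_eq hG ha hb hzr) hrz.symm
    · exact absurd (inverts_commute_eq hG ha hb hzs) hzrne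
    · exact absurd (inverts_commute_eq hG hb ha hzr) hrz.symm
    · rfl
    · exact absurd (inverts_commute_eq hG ha hb hrzr) hrne
    · exact absurd (inverts_commute_eq hG hb ha hzs) hzrne
    · exact absurd (inverts_commute_eq hG hb ha hrzr) hrne
    · rfl
  have := Nat.card_le_card_of_injective Emb hinj
  rw [Nat.card_sum, Nat.card_sum, card_inverted hG h.hT.1, card_inverted hG hr, card_inverted hG hs,
    fixed_seven hG h.hT.1] at this
  omega

theorem smul_self_fix (T : Sylow 3 G) {t : G} (ht : t ∈ (T : Subgroup G)) : t • T = T :=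
  Sylow.smul_eq_iff_mem_normalizer.2 (Subgroup.le_normalizer ht)

theorem semiregular (hG : Cfsg.IsM11 G) {T W : Sylow 3 G} {t : G} (ht : t ∈ (T : Subgroup G)) (hW : t • W = W)
    (hne : W ≠ T) : t = 1 := by
  by_contra h1
  exact hne (eq_of_common hG h1 ht
    (mem_of_three hG W (order_three_of_mem hG T ht h1) (Sylow.smul_eq_iff_mem_normalizer.1 hW)))

/-- The orbit of a neighbour under the Sylow subgroup at the centre. -/
def Orb (T U : Sylow 3 G) : Set (Sylow 3 G) := {W | ∃ t ∈ (T : Subgroup G), t • U = W}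

/-- Adjacency. -/
def Adj (T U : Sylow 3 G) : Prop := ∃ z V, Tri z T U V

theorem Adj.symm {T U : Sylow 3 G} (h : Adj T U) : Adj U T := by
  obtain ⟨z, V, h⟩ := h; exact ⟨z, V, h.flip⟩

theorem Adj.ne {T U : Sylow 3 G} (h : Adj T U) : U ≠ T := by
  obtain ⟨z, V, h⟩ := h; exact h.tu

theorem Adj.conj {T U : Sylow 3 G} (h : Adj T U) (g : G) : Adj (g • T) (g • U) := by
  obtain ⟨z, V, h⟩ := h; exact ⟨_, _, h.conj g⟩

theorem adj_smul_iff {T U : Sylow 3 G} (g : G) : Adj (g • T) (g • U) ↔ Adj T U :=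
  ⟨fun h => by have := h.conj g⁻¹; rwa [inv_smul_smul, inv_smul_smul] at this, fun h => h.conj g⟩

theorem Tri.config_trans (hG : Cfsg.IsM11 G) {z z' : G} {T U V T' U' V' : Sylow 3 G} (h : Tri z T U V)
    (h' : Tri z' T' U' V') : ∃ g, g * z * g⁻¹ = z' ∧ g • T = T' ∧ g • U = U' ∧ g • V = V' := by
  obtain ⟨g₀, rfl⟩ := MulAction.exists_smul_eq G T T'
  obtain ⟨t, ht, hte⟩ := inverts_conjugate hG (h.hT.conj g₀) h'.hT
  have hk : (t * g₀) • T = g₀ • T := by rw [mul_smul, smul_self_fix _ ht]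
  have he : t * g₀ * z * (t * g₀)⁻¹ = z' := by rw [← hte]; group
  have h1 := h.conj (t * g₀)
  rw [he, hk] at h1
  rcases h'.cases hG h1.hU with e | e | e
  · exact absurd e h1.tu
  · refine ⟨t * g₀, he, hk, e, ?_⟩
    rcases h'.cases hG h1.hV with e' | e' | e'
    · exact absurd e' h1.tv
    · exact absurd (e'.trans e.symm) h1.uv
    · exact e'
  · obtain ⟨s, hsc, hsT, hsU, hsV⟩ := exists_swap hG h'
    refine ⟨s * (t * g₀), ?_, ?_, ?_, ?_⟩
    · calc s * (t * g₀) * z * (s * (t * g₀))⁻¹ = s * (t * g₀ * z * (t * g₀)⁻¹) * s⁻¹ := by group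
        _ = z' := by rw [he, ← hsc, mul_inv_cancel_right]
    · rw [mul_smul, hk, hsT]
    · rw [mul_smul, e, hsV]
    · rw [mul_smul]
      rcases h'.cases hG h1.hV with e' | e' | e'
      · exact absurd e' h1.tv
      · rw [e', hsU]
      · exact absurd (e'.trans e.symm) h1.uv

theorem Tri.adj_iff (hG : Cfsg.IsM11 G) {z : G} {T U V W : Sylow 3 G} (h : Tri z T U V) :
    Adj T W ↔ W ∈ Orb T U ∨ W ∈ Orb T V := by
  constructor
  · rintro ⟨z', X, h'⟩
    obtain ⟨t, ht, hte⟩ := inverts_conjugate hG h.hT h'.hT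
    have h1 := h.conj t
    rw [hte, smul_self_fix T ht] at h1
    rcases h1.cases hG h'.hU with e | e | e
    · exact absurd e h'.tu
    · exact Or.inl ⟨t, ht, e.symm⟩
    · exact Or.inr ⟨t, ht, e.symm⟩
  · rintro (⟨t, ht, rfl⟩ | ⟨t, ht, rfl⟩)
    · have := h.conj t
      rw [smul_self_fix T ht] at this
      exact ⟨_, _, this⟩
    · have := h.swap.conj t
      rw [smul_self_fix T ht] at this
      exact ⟨_, _, this⟩

theorem Tri.adj (hG : Cfsg.IsM11 G) {z : G} {T U V : Sylow 3 G} (h : Tri z T U V) :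
    Adj T U ∧ Adj T V ∧ Adj U V :=
  ⟨⟨z, V, h⟩, ⟨z, U, h.swap⟩, ⟨z, T, h.hU, h.hV, h.hT, h.uv, h.tu.symm, h.tv.symm⟩⟩

theorem Tri.mem_orb_eq (hG : Cfsg.IsM11 G) {z : G} {T U V : Sylow 3 G} (h : Tri z T U V) {t : G}
    (ht : t ∈ (T : Subgroup G)) (hi : Inverts z (t • U)) : t = 1 := by
  have hz := sq_of_two h.hT.1
  have e1 := hi.fix
  have e2 : t⁻¹ • U = t • U := by
    rw [← h.hT.2 t ht, mul_smul, mul_smul, show z⁻¹ = z from inv_eq_of_mul_eq_one_right hz, h.hU.fix]
    exact e1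
  rw [inv_smul_eq_iff, ← mul_smul] at e2
  have h2 := semiregular hG (mul_mem ht ht) e2.symm h.tu
  calc t = t ^ 3 * (t * t)⁻¹ := by group
    _ = 1 := by rw [sylow_pow_three hG T ht, h2, inv_one, mul_one]

theorem Tri.disjoint (hG : Cfsg.IsM11 G) {z : G} {T U V : Sylow 3 G} (h : Tri z T U V) :
    Disjoint (Orb T U) (Orb T V) := by
  rw [Set.disjoint_left]
  rintro W ⟨t, ht, rfl⟩ ⟨s, hs, hse⟩
  have e : (t⁻¹ * s) • V = U := by rw [mul_smul, hse, inv_smul_smul]
  have hm : t⁻¹ * s ∈ (T : Subgroup G) := mul_mem (inv_mem ht) hs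
  have h1 := h.swap.mem_orb_eq hG hm (by rw [e]; exact h.hU)
  rw [h1, one_smul] at e
  exact h.uv e

theorem orb_ncard (hG : Cfsg.IsM11 G) {T U : Sylow 3 G} (hne : U ≠ T) : (Orb T U).ncard = 9 := by
  rw [← card_sylow_three hG T, ← Nat.card_coe_set_eq]
  refine (Nat.card_congr (Equiv.ofBijective (fun t : (T : Subgroup G) => (⟨(t : G) • U, t, t.2, rfl⟩ : Orb T U))
    ⟨fun a b e => ?_, fun ⟨W, t, ht, hte⟩ => ⟨⟨t, ht⟩, Subtype.ext hte⟩⟩)).symm
  have e' : ((b : G)⁻¹ * a) • U = U := by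
    rw [mul_smul, show (a : G) • U = (b : G) • U from congrArg Subtype.val e, inv_smul_smul]
  exact Subtype.ext (inv_mul_eq_one.1 (semiregular hG (mul_mem (inv_mem b.2) a.2) e' hne)).symm

theorem Tri.commute (hG : Cfsg.IsM11 G) {z : G} {T U V : Sylow 3 G} (h : Tri z T U V) {g : G}
    (hgT : g • T = T) (hgU : g • U = U) : z * g = g * z ∧ g • V = V := by
  have h1 := h.conj g
  rw [hgT, hgU] at h1
  have e := inverts_pair_unique hG h.tu h.hT h.hU h1.hT h1.hU
  refine ⟨?_, ?_⟩
  · calc z * g = g * z * g⁻¹ * g := by rw [← e]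
      _ = g * z := by group
  · rw [← e] at h1
    rcases h.cases hG h1.hV with e' | e' | e'
    · exact absurd e' h1.tv
    · exact absurd e' h1.uv
    · exact e'

theorem Tri.pair_stabilizer_card (hG : Cfsg.IsM11 G) {z : G} {T U V : Sylow 3 G} (h : Tri z T U V) :
    Nat.card ↥(stabilizer G T ⊓ stabilizer G U) = 8 := by
  have hst : Nat.card (stabilizer G T) = 144 := by
    rw [Sylow.stabilizer_eq_normalizer]; exact (normalizer_three hG T).2
  have horb : (orbit (stabilizer G T) U) = Orb T U ∪ Orb T V := by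
    ext W
    constructor
    · rintro ⟨⟨g, hg⟩, rfl⟩
      have := (h.adj hG).1.conj g
      rw [mem_stabilizer_iff.1 hg] at this
      exact (h.adj_iff hG).1 this
    · intro hW
      obtain ⟨z', X, h'⟩ := (h.adj_iff hG).2 hW
      obtain ⟨g, -, hgT, hgU, -⟩ := h.config_trans hG h'
      exact ⟨⟨g, mem_stabilizer_iff.2 hgT⟩, hgU⟩
  have h1 := (stabilizer (stabilizer G T) U).index_mul_card
  rw [index_stabilizer, horb, Set.ncard_union_eq (h.disjoint hG), orb_ncard hG h.tu, orb_ncard hG h.tv, hst] at h1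
  have e : Nat.card (stabilizer (stabilizer G T) U) = Nat.card ↥(stabilizer G T ⊓ stabilizer G U) :=
    Nat.card_congr
      { toFun := fun g => ⟨((g : stabilizer G T) : G), (g : stabilizer G T).2, g.2⟩
        invFun := fun g => ⟨⟨(g : G), g.2.1⟩, g.2.2⟩
        left_inv := fun g => rfl
        right_inv := fun g => rfl }
  omega

theorem Tri.regular (hG : Cfsg.IsM11 G) {z : G} {T U V : Sylow 3 G} (h : Tri z T U V) {g t : G}
    (hgT : g • T = T) (hgU : g • U = U) (ht : t ∈ (T : Subgroup G)) (ht1 : t ≠ 1) (hc : g * t = t * g) : g = 1 := by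
  by_contra hg1
  set Q := stabilizer G T ⊓ stabilizer G U ⊓ Subgroup.centralizer ({t} : Set G) with hQ
  have hgQ : g ∈ Q := ⟨⟨hgT, hgU⟩, Subgroup.mem_centralizer_singleton_iff.2 hc⟩
  have hdvd : Nat.card Q ∣ 8 := by
    rw [← h.pair_stabilizer_card hG]; exact Subgroup.card_dvd_of_le inf_le_left
  obtain ⟨k, -, hk⟩ := (Nat.dvd_prime_pow Nat.prime_two).1 (show Nat.card Q ∣ 2 ^ 3 by simpa using hdvd)
  have hk0 : k ≠ 0 := fun e => by
    rw [e, pow_zero, Subgroup.card_eq_one] at hk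
    rw [hk, Subgroup.mem_bot] at hgQ; exact hg1 hgQ
  obtain ⟨r', hr'⟩ := exists_prime_orderOf_dvd_card' (G := Q) 2 (hk ▸ dvd_pow_self 2 hk0)
  have hrT : (r' : G) • T = T := r'.2.1.1
  have hrU : (r' : G) • U = U := r'.2.1.2
  have hrt : (r' : G) * t = t * r' := Subgroup.mem_centralizer_singleton_iff.1 r'.2.2
  have hr : orderOf (r' : G) = 2 := by rw [Subgroup.orderOf_coe, hr']
  generalize (r' : G) = r at hrT hrU hrt hr
  obtain ⟨hzr, hrV⟩ := h.commute hG hrT hrU
  have hnT : ¬ Inverts r T := fun hi => by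
    have := hi.2 t ht
    rw [hrt, mul_inv_cancel_right] at this
    exact inv_ne_self (order_three_of_mem hG T ht ht1) this.symm
  have hrne : z ≠ r := fun e => hnT (e ▸ h.hT)
  have hnU : ¬ Inverts r U := fun hi => hrne (inverts_commute_eq hG h.hU hi hzr)
  have hnV : ¬ Inverts r V := fun hi => hrne (inverts_commute_eq hG h.hV hi hzr)
  have ht2 : t⁻¹ ≠ 1 := inv_ne_one.2 ht1
  have hrt' : r * t⁻¹ = t⁻¹ * r := (show Commute r t from hrt).inv_right.eq
  have hmove : ∀ (s : G) (X : Sylow 3 G), r * s = s * r → r • X = X → r • s • X = s • X := by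
    intro s X e e'; rw [← mul_smul, e, mul_smul, e']
  classical
  haveI : Fintype (Sylow 3 G) := Fintype.ofFinite _
  set F : Finset (Sylow 3 G) := {T, U, V, t • U, t⁻¹ • U, t • V, t⁻¹ • V} with hF
  have hF7 : F.card = 7 := by
    have hmT : ∀ (s : G) (X : Sylow 3 G), s ∈ (T : Subgroup G) → s • X = T → X = T := by
      intro s X hs e
      calc X = s⁻¹ • T := by rw [← e, inv_smul_smul]
        _ = T := smul_self_fix T (inv_mem hs)
    have hfree : ∀ (s : G) (X : Sylow 3 G), s ∈ (T : Subgroup G) → X ≠ T → s • X = X → s = 1 :=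
      fun s X hs hX e => semiregular hG hs e hX
    have hdis := Set.disjoint_left.1 (h.disjoint hG)
    have htt : t * t ≠ 1 := fun e => by
      have := orderOf_dvd_of_pow_eq_one ((sq t).trans e)
      rw [order_three_of_mem hG T ht ht1] at this; omega
    have hti := inv_mem ht
    have m0 : U ∈ Orb T U := ⟨1, one_mem _, one_smul G U⟩
    have m1 : t • U ∈ Orb T U := ⟨t, ht, rfl⟩
    have m2 : t⁻¹ • U ∈ Orb T U := ⟨_, hti, rfl⟩
    have n0 : V ∈ Orb T V := ⟨1, one_mem _, one_smul G V⟩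
    have n1 : t • V ∈ Orb T V := ⟨t, ht, rfl⟩
    have n2 : t⁻¹ • V ∈ Orb T V := ⟨_, hti, rfl⟩
    have d1 : ∀ X : Sylow 3 G, X ≠ T → t • X ≠ X ∧ t⁻¹ • X ≠ X ∧ t • X ≠ t⁻¹ • X := fun X hX =>
      ⟨fun e => ht1 (hfree t X ht hX e), fun e => ht2 (hfree _ X hti hX e), fun e => htt (hfree _ X (mul_mem ht ht) hX
        (by rw [mul_smul, e, smul_inv_smul]))⟩
    obtain ⟨u1, u2, u3⟩ := d1 U h.tu
    obtain ⟨v1, v2, v3⟩ := d1 V h.tv
    have e1 : t • U ≠ T := fun e => h.tu (hmT t U ht e)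
    have e2 : t⁻¹ • U ≠ T := fun e => h.tu (hmT _ U hti e)
    have e3 : t • V ≠ T := fun e => h.tv (hmT t V ht e)
    have e4 : t⁻¹ • V ≠ T := fun e => h.tv (hmT _ V hti e)
    have cross : ∀ {X Y : Sylow 3 G}, X ∈ Orb T U → Y ∈ Orb T V → X ≠ Y := fun hX hY e => hdis hX (e ▸ hY)
    rw [hF, Finset.card_insert_of_notMem, Finset.card_insert_of_notMem, Finset.card_insert_of_notMem,
      Finset.card_insert_of_notMem, Finset.card_insert_of_notMem, Finset.card_insert_of_notMem,
      Finset.card_singleton]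
    all_goals simp only [Finset.mem_insert, Finset.mem_singleton, not_or]
    · exact v3
    · exact ⟨cross m2 n1, cross m2 n2⟩
    · exact ⟨u3, cross m1 n1, cross m1 n2⟩
    · exact ⟨(cross m1 n0).symm, (cross m2 n0).symm, v1.symm, v2.symm⟩
    · exact ⟨cross m0 n0, u1.symm, u2.symm, cross m0 n1, cross m0 n2⟩
    · exact ⟨h.tu.symm, h.tv.symm, e1.symm, e2.symm, e3.symm, e4.symm⟩
  have hFfix : F = (fixedBy (Sylow 3 G) r).toFinset := by
    refine Finset.eq_of_subset_of_card_le (fun X hX => ?_) ?_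
    · rw [Set.mem_toFinset, mem_fixedBy]
      simp only [hF, Finset.mem_insert, Finset.mem_singleton] at hX
      rcases hX with rfl | rfl | rfl | rfl | rfl | rfl | rfl
      exacts [hrT, hrU, hrV, hmove t U hrt hrU, hmove _ U hrt' hrU, hmove t V hrt hrV, hmove _ V hrt' hrV]
    · rw [Set.toFinset_card, ← Nat.card_eq_fintype_card, fixed_seven hG hr, hF7]
  have hpow : ∀ s, r * s = s * r → ∀ {W}, Inverts r W → Inverts r (s • W) := fun s e W hW => hW.smul_of_commute e
  obtain ⟨⟨W, hW⟩⟩ : Nonempty {W : Sylow 3 G // Inverts r W} :=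
    (Nat.card_pos_iff.1 (by rw [card_inverted hG hr]; norm_num)).1
  have hWF : W ∈ F := by rw [hFfix, Set.mem_toFinset]; exact hW.fix
  simp only [hF, Finset.mem_insert, Finset.mem_singleton] at hWF
  rcases hWF with rfl | rfl | rfl | rfl | rfl | rfl | rfl
  · exact hnT hW
  · exact hnU hW
  · exact hnV hW
  · exact hnU (by have := hpow _ hrt' hW; rwa [inv_smul_smul] at this)
  · exact hnU (by have := hpow _ hrt hW; rwa [smul_inv_smul] at this)
  · exact hnV (by have := hpow _ hrt' hW; rwa [inv_smul_smul] at this)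
  · exact hnV (by have := hpow _ hrt hW; rwa [smul_inv_smul] at this)

theorem Tri.pair_transitive (hG : Cfsg.IsM11 G) {z : G} {T U V : Sylow 3 G} (h : Tri z T U V) {t t' : G}
    (ht : t ∈ (T : Subgroup G)) (ht1 : t ≠ 1) (ht' : t' ∈ (T : Subgroup G)) (ht'1 : t' ≠ 1) :
    ∃ g, g • T = T ∧ g • U = U ∧ g • V = V ∧ g * t * g⁻¹ = t' := by
  classical
  set Q := stabilizer G T ⊓ stabilizer G U with hQ
  haveI : Fintype Q := Fintype.ofFinite _
  haveI : Fintype {a : (T : Subgroup G) // a ≠ 1} := Fintype.ofFinite _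
  have hmem : ∀ q : Q, (q : G) * t * (q : G)⁻¹ ∈ (T : Subgroup G) := fun q =>
    (Subgroup.mem_normalizer_iff.1 (Sylow.smul_eq_iff_mem_normalizer.1 q.2.1) t).1 ht
  let f : Q → {a : (T : Subgroup G) // a ≠ 1} := fun q => ⟨⟨(q : G) * t * (q : G)⁻¹, hmem q⟩, fun e => by
    have e' : (q : G) * t * (q : G)⁻¹ = 1 := congrArg Subtype.val e
    rw [mul_inv_eq_one, mul_eq_left] at e'; exact ht1 e'⟩
  have hf : Function.Injective f := by
    intro a b e
    have e' : (a : G) * t * (a : G)⁻¹ = (b : G) * t * (b : G)⁻¹ := congrArg (fun x => ((x.1 : (T : Subgroup G)) : G)) e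
    have hm := (b⁻¹ * a).2
    have := h.regular hG (g := ((b⁻¹ * a : Q) : G)) hm.1 hm.2 ht ht1 (by
      push_cast
      calc (b : G)⁻¹ * a * t = (b : G)⁻¹ * ((a : G) * t * (a : G)⁻¹) * a := by group
        _ = t * ((b : G)⁻¹ * a) := by rw [e']; group)
    exact (inv_mul_eq_one.1 (Subtype.ext this : b⁻¹ * a = 1)).symm
  have hc : Fintype.card Q = Fintype.card {a : (T : Subgroup G) // a ≠ 1} := by
    haveI : Fintype (T : Subgroup G) := Fintype.ofFinite _
    rw [← Nat.card_eq_fintype_card, hQ, h.pair_stabilizer_card hG, Fintype.card_subtype_compl,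
      Fintype.card_subtype_eq, ← Nat.card_eq_fintype_card, card_sylow_three hG T]
  obtain ⟨q, hq⟩ := ((Fintype.bijective_iff_injective_and_card f).2 ⟨hf, hc⟩).2
    ⟨⟨t', ht'⟩, fun e => ht'1 (congrArg Subtype.val e)⟩
  exact ⟨q, q.2.1, q.2.2, (h.commute hG q.2.1 q.2.2).2,
    congrArg (fun x => ((x.1 : (T : Subgroup G)) : G)) hq⟩

end Cfsg.Agent.MathieuEleven
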