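import Cfsg.Agent.Lib.Small.MathieuEleven.Basic

/-!
General facts on the Sylow 3-subgroups of a simple group of order 7920.
-/

set_option autoImplicit false
set_option linter.style.haveILetI false
set_option linter.unusedSectionVars false

namespace Cfsg.Agent.MathieuEleven

open MulAction

variable {G : Type*} [Group G] [Finite G]

/-- A conjugacy class. -/
def ConjSet (d : G) : Type _ := {x : G // IsConj d x}

instance (d : G) : Finite (ConjSet d) := Subtype.finite

/-- Conjugation on a conjugacy class. -/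
instance (d : G) : MulAction G (ConjSet d) where
  smul g x := ⟨g * x.1 * g⁻¹, x.2.trans (isConj_iff.2 ⟨g, rfl⟩)⟩
  one_smul x := Subtype.ext (show (1 : G) * x.1 * (1 : G)⁻¹ = x.1 by group)
  mul_smul g h x := Subtype.ext (show g * h * x.1 * (g * h)⁻¹ = g * (h * x.1 * h⁻¹) * g⁻¹ by group)

theorem smul_conjSet (d g : G) (x : ConjSet d) : (g • x).1 = g * x.1 * g⁻¹ := rfl

theorem card_conjSet (d : G) :
    Nat.card (ConjSet d) * Nat.card (Subgroup.centralizer ({d} : Set G)) = Nat.card G :=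
  class_mul_centralizer d

theorem mem_of_normalises {p : ℕ} [Fact p.Prime] {q : G} (hq : ∃ k, q ^ p ^ k = 1) (Q : Sylow p G)
    (hn : q ∈ Subgroup.normalizer ((Q : Subgroup G) : Set G)) : q ∈ (Q : Subgroup G) := by
  obtain ⟨k, hk⟩ := hq
  have hz : IsPGroup p (Subgroup.zpowers q) := by
    intro z
    refine ⟨k, ?_⟩
    obtain ⟨i, hi⟩ := Subgroup.mem_zpowers_iff.1 z.2
    apply Subtype.ext
    rw [SubmonoidClass.coe_pow, ← hi, ← zpow_natCast, ← zpow_mul, mul_comm, zpow_mul, zpow_natCast, hk,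
      one_zpow]
    rfl
  exact (Subgroup.mem_inf.1 ((hz.inf_normalizer_sylow Q) ▸
    (Subgroup.mem_inf.2 ⟨Subgroup.mem_zpowers q, hn⟩))).2

theorem smul_eq_of_commute_mem {p : ℕ} [Fact p.Prime] (Q : Sylow p G) {g : G}
    (hg : g ∈ Subgroup.centralizer ((Q : Subgroup G) : Set G)) : g • Q = Q :=
  smul_self Q (Subgroup.centralizer_le_normalizer _ hg)

theorem mem_smul_sylow {p : ℕ} (Q : Sylow p G) {g a : G} :
    a ∈ ((g • Q : Sylow p G) : Subgroup G) ↔ g⁻¹ * a * g ∈ (Q : Subgroup G) := by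
  rw [Sylow.coe_subgroup_smul, Subgroup.mem_pointwise_smul_iff_inv_smul_mem, ← map_inv, MulAut.smul_def,
    MulAut.conj_apply, inv_inv]

theorem conj_mem_smul {p : ℕ} (Q : Sylow p G) {g a : G} (ha : a ∈ (Q : Subgroup G)) :
    g * a * g⁻¹ ∈ ((g • Q : Sylow p G) : Subgroup G) :=
  (mem_smul_sylow Q).2 (by simpa [mul_assoc] using ha)

theorem conj_centralizer_smul {p : ℕ} (Q : Sylow p G) {g a : G}
    (ha : a ∈ Subgroup.centralizer ((Q : Subgroup G) : Set G)) :
    g * a * g⁻¹ ∈ Subgroup.centralizer (((g • Q : Sylow p G) : Subgroup G) : Set G) := by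
  rw [Subgroup.mem_centralizer_iff]
  intro b hb
  have e := Subgroup.mem_centralizer_iff.1 ha _ ((mem_smul_sylow Q).1 hb)
  calc b * (g * a * g⁻¹) = g * ((g⁻¹ * b * g) * a) * g⁻¹ := by group
    _ = g * (a * (g⁻¹ * b * g)) * g⁻¹ := by rw [e]
    _ = g * a * g⁻¹ * b := by group

theorem order_conj (g a : G) : orderOf (g * a * g⁻¹) = orderOf a := (MulAut.conj g).orderOf_eq a

theorem sylow_comm (hG : Cfsg.IsM11 G) (T : Sylow 3 G) :
    ∀ a ∈ (T : Subgroup G), ∀ b ∈ (T : Subgroup G), a * b = b * a := fun a ha b hb => by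
  have h := IsPGroup.isMulCommutative_of_card_eq_prime_sq (p := 3) (G := (T : Subgroup G))
    (by rw [card_sylow_three hG T]; norm_num)
  exact congrArg Subtype.val (h.is_comm.comm (⟨a, ha⟩ : (T : Subgroup G)) ⟨b, hb⟩)

theorem sylow_le_centralizer (hG : Cfsg.IsM11 G) (T : Sylow 3 G) {y : G} (hy : y ∈ (T : Subgroup G)) :
    (T : Subgroup G) ≤ Subgroup.centralizer ({y} : Set G) :=
  fun a ha => Subgroup.mem_centralizer_singleton_iff.2 (sylow_comm hG T a ha y hy)

theorem conj_in_normalizer (hG : Cfsg.IsM11 G) (T : Sylow 3 G) {y g : G} (hy : y ∈ (T : Subgroup G))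
    (hg : g * y * g⁻¹ ∈ (T : Subgroup G)) :
    ∃ n ∈ Subgroup.normalizer ((T : Subgroup G) : Set G), n * y * n⁻¹ = g * y * g⁻¹ := by
  have hle : (T : Subgroup G) ≤ Subgroup.centralizer ((T : Subgroup G) : Set G) :=
    fun a ha => Subgroup.mem_centralizer_iff.2 fun b hb => sylow_comm hG T b hb a ha
  obtain ⟨n, hn, e⟩ := T.conj_eq_normalizer_conj_of_mem_centralizer y g⁻¹ (hle hy)
    (hle (by rw [inv_inv]; exact hg))
  exact ⟨n⁻¹, inv_mem hn, by rw [inv_inv] at e ⊢; exact e.symm⟩

theorem mem_of_three (hG : Cfsg.IsM11 G) (Q : Sylow 3 G) {q : G} (hq : orderOf q = 3)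
    (hn : q ∈ Subgroup.normalizer ((Q : Subgroup G) : Set G)) : q ∈ (Q : Subgroup G) :=
  mem_of_normalises ⟨1, by rw [pow_one, ← hq, pow_orderOf_eq_one]⟩ Q hn

/-- The Sylow 3-normalisers have order 144 or 36. -/
theorem three_cases (hG : Cfsg.IsM11 G) (T : Sylow 3 G) :
    (Nat.card (Sylow 3 G) = 55 ∧ Nat.card (Subgroup.normalizer ((T : Subgroup G) : Set G)) = 144) ∨
      (Nat.card (Sylow 3 G) = 220 ∧ Nat.card (Subgroup.normalizer ((T : Subgroup G) : Set G)) = 36) := by
  classical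
  have hT := card_sylow_three hG T
  set N := Subgroup.normalizer ((T : Subgroup G) : Set G) with hN
  have hmod : Nat.card (Sylow 3 G) % 3 = 1 := by rw [card_sylow_modEq_one 3 G]
  have hprod := card_normalizer hG T
  have h9 : 9 ∣ Nat.card N := hT ▸ Subgroup.card_dvd_of_le Subgroup.le_normalizer
  have hno : ∀ p : ℕ, p = 5 ∨ p = 11 → ¬ p ∣ Nat.card N := by
    intro p hp hd
    haveI : Fact p.Prime := ⟨by rcases hp with rfl | rfl <;> norm_num⟩
    obtain ⟨x, hx⟩ := exists_prime_orderOf_dvd_card' (G := N) p hd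
    have hxp : IsPGroup p (Subgroup.zpowers x) := IsPGroup.of_card (n := 1) (by rw [Nat.card_zpowers, hx, pow_one])
    let φ : Subgroup.zpowers x →* MulAut (T : Subgroup G) :=
      ((T : Subgroup G).normalizerMonoidHom).comp (Subgroup.zpowers x).subtype
    letI : MulAction (Subgroup.zpowers x) (T : Subgroup G) := MulAction.compHom _ φ
    have hmod' := hxp.card_modEq_card_fixedPoints (T : Subgroup G)
    rw [hT] at hmod'
    have hfix : 1 < Nat.card (fixedPoints (Subgroup.zpowers x) (T : Subgroup G)) := by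
      rcases hp with rfl | rfl
      · have : Nat.card (fixedPoints (Subgroup.zpowers x) (T : Subgroup G)) % 5 = 4 := hmod'.symm
        omega
      · have : Nat.card (fixedPoints (Subgroup.zpowers x) (T : Subgroup G)) % 11 = 9 := hmod'.symm
        omega
    haveI : Nontrivial (fixedPoints (Subgroup.zpowers x) (T : Subgroup G)) :=
      Finite.one_lt_card_iff_nontrivial.1 hfix
    obtain ⟨⟨a, ha⟩, ha1⟩ := exists_ne (⟨1, fun g => map_one (φ g)⟩ : fixedPoints (Subgroup.zpowers x) (T : Subgroup G))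
    have hx1 : (x : G) * (a : G) * (x : G)⁻¹ = (a : G) :=
      congrArg Subtype.val (ha ⟨x, Subgroup.mem_zpowers x⟩)
    have ha' : (a : G) ≠ 1 := fun e => ha1 (Subtype.ext (Subtype.ext e))
    -- an element of order three centralised by `x`
    have hao : orderOf (a : G) ∣ 9 := hT ▸ Subgroup.orderOf_dvd_natCard _ a.2
    obtain ⟨b, hb3, hbc⟩ : ∃ b : G, orderOf b = 3 ∧ Commute (x : G) b := by
      have hc : Commute (x : G) (a : G) := mul_inv_eq_iff_eq_mul.1 hx1
      obtain ⟨k, hk2, hk⟩ := (Nat.dvd_prime_pow Nat.prime_three).1 (show orderOf (a : G) ∣ 3 ^ 2 by simpa using hao)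
      rcases (show k = 0 ∨ k = 1 ∨ k = 2 by omega) with rfl | rfl | rfl
      · exact absurd (orderOf_eq_one_iff.1 (by simpa using hk)) ha'
      · exact ⟨a, by simpa using hk, hc⟩
      · exact ⟨(a : G) ^ 3, by rw [orderOf_pow' _ (by norm_num), hk]; norm_num, hc.pow_right 3⟩
    have hd' := (Subgroup.orderOf_dvd_natCard (Subgroup.centralizer ({b} : Set G))
      (Subgroup.mem_centralizer_singleton_iff.2 hbc.eq)).trans (centralizer_three_dvd hG hb3)
    rw [Subgroup.orderOf_coe, hx] at hd'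
    rcases hp with rfl | rfl <;> norm_num at hd'
  have hNdvd : Nat.card N ∣ 144 := by
    have h := Subgroup.card_subgroup_dvd_card N
    rw [hG.2] at h
    refine Nat.Coprime.dvd_of_dvd_mul_right ?_ (show Nat.card N ∣ 144 * (5 * 11) by simpa using h)
    exact (Nat.Coprime.mul_right (((Nat.prime_five).coprime_iff_not_dvd.2 (hno 5 (Or.inl rfl))).symm)
      (((by norm_num : Nat.Prime 11).coprime_iff_not_dvd.2 (hno 11 (Or.inr rfl))).symm))
  obtain ⟨a, ha⟩ := h9
  rw [ha] at hNdvd
  have ha16 : a ∣ 16 := Nat.dvd_of_mul_dvd_mul_left (by norm_num : 0 < 9) (by simpa using hNdvd)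
  have hale := Nat.le_of_dvd (by norm_num) ha16
  rw [← hN, ha] at hprod
  interval_cases a <;> norm_num at ha16
  · exfalso
    refine not_normalizer_le_centralizer hG (by norm_num) T (sylow_comm hG T) ?_
    have e : (T : Subgroup G) = N := Subgroup.eq_of_le_of_card_ge Subgroup.le_normalizer (by rw [ha, hT])
    rw [← hN, ← e]
    exact fun a ha => Subgroup.mem_centralizer_iff.2 fun b hb => sylow_comm hG T b hb a ha
  · omega
  · exact Or.inr ⟨by omega, by rw [ha]⟩
  · omega
  · exact Or.inl ⟨by omega, by rw [ha]⟩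

/-- The Sylow 3-subgroups containing an element of order three. -/
theorem containing (hG : Cfsg.IsM11 G) (T : Sylow 3 G) {y : G} (hy : orderOf y = 3)
    (hyT : y ∈ (T : Subgroup G)) :
    Nat.card {Q : Sylow 3 G // y ∈ (Q : Subgroup G)} % 3 = 1 ∧
    Nat.card {Q : Sylow 3 G // y ∈ (Q : Subgroup G)} *
        Nat.card ↥(Subgroup.centralizer ({y} : Set G) ⊓ Subgroup.normalizer ((T : Subgroup G) : Set G)) =
      Nat.card (Subgroup.centralizer ({y} : Set G)) ∧
    9 ∣ Nat.card ↥(Subgroup.centralizer ({y} : Set G) ⊓ Subgroup.normalizer ((T : Subgroup G) : Set G)) ∧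
    ∀ Q : Sylow 3 G, y ∈ (Q : Subgroup G) → ∃ g ∈ Subgroup.centralizer ({y} : Set G), g • T = Q := by
  obtain ⟨h1, h2, h3⟩ := sylow_count_in T (sylow_le_centralizer hG T hyT)
  have hiff : ∀ Q : Sylow 3 G, (Q : Subgroup G) ≤ Subgroup.centralizer ({y} : Set G) ↔ y ∈ (Q : Subgroup G) := by
    refine fun Q => ⟨fun h => mem_of_three hG Q hy (Subgroup.centralizer_le_normalizer _ ?_),
      fun h => sylow_le_centralizer hG Q h⟩
    exact Subgroup.mem_centralizer_iff.2 fun b hb => Subgroup.mem_centralizer_singleton_iff.1 (h hb)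
  have e : Nat.card {Q : Sylow 3 G // (Q : Subgroup G) ≤ Subgroup.centralizer ({y} : Set G)} =
      Nat.card {Q : Sylow 3 G // y ∈ (Q : Subgroup G)} :=
    Nat.card_congr (Equiv.subtypeEquivRight hiff)
  rw [e] at h1 h2
  refine ⟨h1, h2, ?_, fun Q hQ => h3 Q ((hiff Q).2 hQ)⟩
  rw [← card_sylow_three hG T]
  exact Subgroup.card_dvd_of_le (le_inf (sylow_le_centralizer hG T hyT) Subgroup.le_normalizer)

/-- The number of Sylow 3-subgroups containing an element divides a small number. -/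
theorem containing_bound (hG : Cfsg.IsM11 G) (T : Sylow 3 G) {y : G} (hy : orderOf y = 3)
    (hyT : y ∈ (T : Subgroup G)) :
    Nat.card {Q : Sylow 3 G // y ∈ (Q : Subgroup G)} = 1 ∨
      Nat.card {Q : Sylow 3 G // y ∈ (Q : Subgroup G)} = 4 ∨
      Nat.card {Q : Sylow 3 G // y ∈ (Q : Subgroup G)} = 16 := by
  obtain ⟨h1, h2, ⟨a, ha⟩, -⟩ := containing hG T hy hyT
  have h3 := centralizer_three_dvd hG hy
  rw [← h2, ha] at h3
  have h4 : Nat.card {Q : Sylow 3 G // y ∈ (Q : Subgroup G)} ∣ 16 := by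
    refine Nat.dvd_of_mul_dvd_mul_right (by norm_num : 0 < 9) ?_
    exact (Dvd.intro a (by ring)).trans h3
  have := Nat.le_of_dvd (by norm_num) h4
  interval_cases hn : Nat.card {Q : Sylow 3 G // y ∈ (Q : Subgroup G)} <;> simp_all

theorem eq_of_containing_one (T : Sylow 3 G) {y : G} (hyT : y ∈ (T : Subgroup G))
    (h : Nat.card {Q : Sylow 3 G // y ∈ (Q : Subgroup G)} = 1) {Q : Sylow 3 G}
    (hQ : y ∈ (Q : Subgroup G)) : Q = T := by
  haveI := (Nat.card_eq_one_iff_unique.1 h).1
  exact congrArg Subtype.val (Subsingleton.elim (⟨Q, hQ⟩ : {Q : Sylow 3 G // y ∈ (Q : Subgroup G)}) ⟨T, hyT⟩)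

/-- Some two Sylow 3-subgroups meet when their number is not 1 modulo 9. -/
theorem exists_shared (hG : Cfsg.IsM11 G) (T : Sylow 3 G) (h : Nat.card (Sylow 3 G) % 9 ≠ 1) :
    ∃ y : G, orderOf y = 3 ∧ y ∈ (T : Subgroup G) ∧
      Nat.card {Q : Sylow 3 G // y ∈ (Q : Subgroup G)} ≠ 1 := by
  classical
  by_contra hno
  push Not at hno
  let X := {Q : Sylow 3 G // Q ≠ T}
  letI : MulAction (T : Subgroup G) X :=
    { smul := fun a Q => ⟨(a : G) • Q.1, fun e => Q.2 (smul_left_cancel (a : G)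
        (e.trans (orderOf_smul_ne T a.2).symm))⟩
      one_smul := fun Q => Subtype.ext (one_smul G Q.1)
      mul_smul := fun a b Q => Subtype.ext (mul_smul (a : G) (b : G) Q.1) }
  have hfree : ∀ Q : X, MulAction.stabilizer (T : Subgroup G) Q = ⊥ := by
    intro Q
    by_contra hne
    have hdvd : 3 ∣ Nat.card (MulAction.stabilizer (T : Subgroup G) Q) := by
      have h9 := Subgroup.card_subgroup_dvd_card (MulAction.stabilizer (T : Subgroup G) Q)
      rw [card_sylow_three hG T] at h9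
      obtain ⟨k, -, hk⟩ := (Nat.dvd_prime_pow Nat.prime_three).1 (show _ ∣ 3 ^ 2 by simpa using h9)
      rcases k with _ | k
      · exact absurd (Subgroup.card_eq_one.1 (by simpa using hk)) hne
      · exact (dvd_pow_self 3 (by omega : k + 1 ≠ 0)).trans (dvd_of_eq hk.symm)
    obtain ⟨s, hs⟩ := exists_prime_orderOf_dvd_card' 3 hdvd
    have hso : orderOf ((s : (T : Subgroup G)) : G) = 3 := by rw [Subgroup.orderOf_coe, Subgroup.orderOf_coe, hs]
    have hsQ : ((s : (T : Subgroup G)) : G) • Q.1 = Q.1 := congrArg Subtype.val (mem_stabilizer_iff.1 s.2)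
    exact Q.2 (eq_of_containing_one T (s : (T : Subgroup G)).2 (hno _ hso (s : (T : Subgroup G)).2)
      (mem_of_three hG Q.1 hso (Sylow.smul_eq_iff_mem_normalizer.1 hsQ)))
  have h9 : 9 ∣ Nat.card X := by
    rw [Nat.card_congr (MulAction.selfEquivOrbitsQuotientProd hfree), Nat.card_prod, card_sylow_three hG T]
    exact dvd_mul_left 9 _
  haveI : Fintype (Sylow 3 G) := Fintype.ofFinite _
  have hX : Nat.card X + 1 = Nat.card (Sylow 3 G) := by
    rw [Nat.card_eq_fintype_card, Nat.card_eq_fintype_card, Fintype.card_subtype_compl]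
    simp
    have : 0 < Fintype.card (Sylow 3 G) := Fintype.card_pos
    omega
  omega

/-- An involution centralising a Sylow subgroup fixes the others through a shared element. -/
theorem fix_of_four (hG : Cfsg.IsM11 G) (T : Sylow 3 G) {y : G} (hyT : y ∈ (T : Subgroup G))
    (h4 : Nat.card {Q : Sylow 3 G // y ∈ (Q : Subgroup G)} = 4) {d : G} (hd : d * d = 1)
    (hdT : d ∈ Subgroup.centralizer ((T : Subgroup G) : Set G)) {Q : Sylow 3 G} (hQ : y ∈ (Q : Subgroup G)) :
    d • Q = Q := by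
  classical
  by_cases hQT : Q = T
  · rw [hQT]; exact smul_eq_of_commute_mem T hdT
  let X := {R : Sylow 3 G // y ∈ (R : Subgroup G) ∧ R ≠ T}
  haveI : Fintype (Sylow 3 G) := Fintype.ofFinite _
  have hX : Nat.card X = 3 := by
    have h := h4
    rw [Nat.card_eq_fintype_card, Fintype.card_subtype] at h ⊢
    have e : (Finset.univ.filter fun R : Sylow 3 G => y ∈ (R : Subgroup G) ∧ R ≠ T) =
        (Finset.univ.filter fun R : Sylow 3 G => y ∈ (R : Subgroup G)).erase T := by
      ext R; simp [and_comm]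
    rw [e, Finset.card_erase_of_mem (by simp [hyT]), h]
  have hpres : ∀ (g : G), g * y = y * g → g • T = T → ∀ R : X,
      y ∈ ((g • R.1 : Sylow 3 G) : Subgroup G) ∧ g • R.1 ≠ T := by
    intro g hgy hgT R
    refine ⟨(mem_smul_sylow R.1).2 ?_, fun e => R.2.2 (smul_left_cancel g (e.trans hgT.symm))⟩
    rw [mul_assoc, ← hgy, inv_mul_cancel_left]
    exact R.2.1
  have hdy : d * y = y * d := (Subgroup.mem_centralizer_iff.1 hdT y hyT).symm
  let σ : Equiv.Perm X :=
    { toFun := fun R => ⟨d • R.1, hpres d hdy (smul_eq_of_commute_mem T hdT) R⟩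
      invFun := fun R => ⟨d • R.1, hpres d hdy (smul_eq_of_commute_mem T hdT) R⟩
      left_inv := fun R => Subtype.ext (by show d • d • R.1 = R.1; rw [← mul_smul, hd, one_smul])
      right_inv := fun R => Subtype.ext (by show d • d • R.1 = R.1; rw [← mul_smul, hd, one_smul]) }
  haveI : Fintype X := Fintype.ofFinite X
  obtain ⟨R₀, hR₀⟩ := Equiv.Perm.exists_fixed_point_of_prime (p := 2) (n := 1) (σ := σ)
    (by rw [← Nat.card_eq_fintype_card, hX]; norm_num)
    (Equiv.ext fun R => Subtype.ext (by show d • d • R.1 = R.1; rw [← mul_smul, hd, one_smul]))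
  letI : MulAction (T : Subgroup G) X :=
    { smul := fun a R => ⟨(a : G) • R.1, hpres a (sylow_comm hG T a a.2 y hyT) (orderOf_smul_ne T a.2) R⟩
      one_smul := fun R => Subtype.ext (one_smul G R.1)
      mul_smul := fun a b R => Subtype.ext (mul_smul (a : G) (b : G) R.1) }
  have horb : MulAction.orbit (T : Subgroup G) R₀ = Set.univ := by
    refine Set.eq_of_subset_of_ncard_le (Set.subset_univ _) ?_ (Set.toFinite _)
    rw [Set.ncard_univ, hX, ← index_stabilizer]
    obtain ⟨k, -, hk⟩ := (Nat.dvd_prime_pow Nat.prime_three).1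
      (show (MulAction.stabilizer (T : Subgroup G) R₀).index ∣ 3 ^ 2 by
        have := (MulAction.stabilizer (T : Subgroup G) R₀).index_dvd_card
        rw [card_sylow_three hG T] at this; simpa using this)
    rcases k with _ | k
    · exfalso
      have htop := Subgroup.index_eq_one.1 (by simpa using hk)
      refine R₀.2.2 (sylow_eq_of_fixed T R₀.1 fun a ha => ?_)
      have hm : (⟨a, ha⟩ : (T : Subgroup G)) ∈ MulAction.stabilizer (T : Subgroup G) R₀ :=
        htop ▸ Subgroup.mem_top _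
      exact congrArg Subtype.val (mem_stabilizer_iff.1 hm)
    · rw [hk]; exact Nat.le_self_pow (by omega) 3
  obtain ⟨a, ha⟩ := (horb ▸ Set.mem_univ _ : (⟨Q, hQ, hQT⟩ : X) ∈ MulAction.orbit (T : Subgroup G) R₀)
  have e : (a : G) • R₀.1 = Q := congrArg Subtype.val ha
  have e2 : d • R₀.1 = R₀.1 := congrArg Subtype.val hR₀
  rw [← e, ← mul_smul, show d * (a : G) = a * d from (Subgroup.mem_centralizer_iff.1 hdT a a.2).symm,
    mul_smul, e2]

/-- A Sylow subgroup inside a subgroup of order divisible by nine through a given element. -/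
theorem exists_sylow_in (hG : Cfsg.IsM11 G) (H : Subgroup G) (h9 : 9 ∣ Nat.card H) {q : G}
    (hqH : q ∈ H) (hq : orderOf q = 3) : ∃ Q : Sylow 3 G, q ∈ (Q : Subgroup G) ∧ (Q : Subgroup G) ≤ H := by
  obtain ⟨S, hS⟩ := IsPGroup.exists_le_sylow (G := H) (P := Subgroup.zpowers (⟨q, hqH⟩ : H))
    (IsPGroup.of_card (n := 1) (by rw [Nat.card_zpowers, Subgroup.orderOf_mk, hq, pow_one]))
  obtain ⟨Q, hQ⟩ := (S.isPGroup'.map H.subtype).exists_le_sylow
  have hcard : 9 ≤ Nat.card ((S : Subgroup H).map H.subtype) := by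
    rw [Subgroup.card_map_of_injective Subtype.val_injective, S.card_eq_multiplicity]
    refine le_trans (by norm_num) (Nat.pow_le_pow_right (by norm_num : 0 < 3)
      ((Nat.Prime.pow_dvd_iff_le_factorization Nat.prime_three Nat.card_pos.ne').1 (show 3 ^ 2 ∣ _ by simpa using h9)))
  have e : (S : Subgroup H).map H.subtype = (Q : Subgroup G) :=
    Subgroup.eq_of_le_of_card_ge hQ (by rw [card_sylow_three hG Q]; exact hcard)
  exact ⟨Q, e ▸ Subgroup.mem_map.2 ⟨⟨q, hqH⟩, hS (Subgroup.mem_zpowers _), rfl⟩, e ▸ Subgroup.map_subtype_le _⟩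

end Cfsg.Agent.MathieuEleven
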