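import Cfsg.Agent.Lib.Small.MathieuEleven.Case220
import Cfsg.Agent.Lib.Small.MathieuEleven.Case36

/-!
The Sylow 3-normalisers of a simple group of order 7920 and the centralisers of involutions.
-/

set_option autoImplicit false
set_option linter.style.haveILetI false
set_option linter.unusedSectionVars false

namespace Cfsg.Agent.MathieuEleven

open MulAction

variable {G : Type*} [Group G] [Finite G]

theorem cent_conj_card {p : ℕ} [Fact p.Prime] (T Q : Sylow p G) :
    Nat.card (Subgroup.centralizer ((Q : Subgroup G) : Set G)) =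
      Nat.card (Subgroup.centralizer ((T : Subgroup G) : Set G)) := by
  obtain ⟨g, rfl⟩ := MulAction.exists_smul_eq G T Q
  refine (Nat.card_congr (Equiv.subtypeEquiv (MulAut.conj g).toEquiv fun a => ⟨fun ha => ?_, fun ha => ?_⟩)).symm
  · exact conj_centralizer_smul T ha
  · have := conj_centralizer_smul (g • T) (g := g⁻¹) ha
    rw [inv_smul_smul] at this
    change g⁻¹ * (g * a * g⁻¹) * g⁻¹⁻¹ ∈ _ at this
    rwa [show g⁻¹ * (g * a * g⁻¹) * g⁻¹⁻¹ = a by group] at this

/-- There are 55 Sylow 3-subgroups. -/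
theorem normalizer_three (hG : Cfsg.IsM11 G) (T : Sylow 3 G) :
    Nat.card (Sylow 3 G) = 55 ∧ Nat.card (Subgroup.normalizer ((T : Subgroup G) : Set G)) = 144 := by
  rcases three_cases hG T with h | ⟨h220, hN⟩
  · exact h
  exfalso
  have hnorm : ∀ Q : Sylow 3 G, Nat.card (Subgroup.normalizer ((Q : Subgroup G) : Set G)) = 36 := by
    intro Q
    have := card_normalizer hG Q
    rw [h220] at this
    omega
  have h9 : 9 ∣ Nat.card (Subgroup.centralizer ((T : Subgroup G) : Set G)) := by
    rw [← card_sylow_three hG T]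
    exact Subgroup.card_dvd_of_le fun a ha => Subgroup.mem_centralizer_iff.2 fun b hb => sylow_comm hG T b hb a ha
  have hd := centralizer_dvd_normalizer (T : Subgroup G)
  rw [hnorm T] at hd
  have hne : Nat.card (Subgroup.centralizer ((T : Subgroup G) : Set G)) ≠ 36 := fun e =>
    not_normalizer_le_centralizer hG (by norm_num) T (sylow_comm hG T)
      (Subgroup.eq_of_le_of_card_ge (Subgroup.centralizer_le_normalizer _) (by rw [hnorm T, e])).ge
  obtain ⟨a, ha⟩ := h9
  rw [ha] at hd hne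
  have ha4 : a ∣ 4 := Nat.dvd_of_mul_dvd_mul_left (by norm_num : 0 < 9) (by simpa using hd)
  have := Nat.le_of_dvd (by norm_num) ha4
  interval_cases a
  · omega
  · exact H9.false ⟨hG, hnorm, fun Q => by rw [cent_conj_card T Q, ha]⟩
  · exact H18.false ⟨hG, hnorm, fun Q => by rw [cent_conj_card T Q, ha]⟩
  · omega
  · omega

/-- A normal non-trivial subgroup of a Sylow 2-subgroup contains a central involution. -/
theorem central_invol (S : Sylow 2 G) (K : Subgroup G) (hKS : K ≤ (S : Subgroup G))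
    (hn : ∀ s ∈ (S : Subgroup G), ∀ a ∈ K, s * a * s⁻¹ ∈ K) (hne : K ≠ ⊥) :
    ∃ z ∈ K, orderOf z = 2 ∧ ∀ s ∈ (S : Subgroup G), s * z = z * s := by
  have hKp : IsPGroup 2 K := fun a => by
    obtain ⟨k, hk⟩ := S.isPGroup' ⟨a, hKS a.2⟩
    exact ⟨k, Subtype.ext (congrArg (fun x : (S : Subgroup G) => (x : G)) hk)⟩
  obtain ⟨k, hk⟩ := hKp.exists_card_eq
  have hk0 : k ≠ 0 := by rintro rfl; exact hne (Subgroup.card_eq_one.1 (by simpa using hk))
  letI : MulAction (S : Subgroup G) K :=
    { smul := fun s a => ⟨(s : G) * a * (s : G)⁻¹, hn s s.2 a a.2⟩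
      one_smul := fun a => Subtype.ext (show (1 : G) * a * (1 : G)⁻¹ = a by group)
      mul_smul := fun s t a => Subtype.ext
        (show (s : G) * t * a * ((s : G) * t)⁻¹ = (s : G) * ((t : G) * a * (t : G)⁻¹) * (s : G)⁻¹ by group) }
  have hmod := S.isPGroup'.card_modEq_card_fixedPoints K
  rw [hk] at hmod
  have hne1 : Nat.card (fixedPoints (S : Subgroup G) K) ≠ 1 := fun e => by
    rw [e] at hmod
    have h1 : 2 ^ k % 2 = 1 := hmod
    have h2 : 2 ∣ 2 ^ k := dvd_pow_self 2 hk0
    omega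
  have hpos : Nonempty (fixedPoints (S : Subgroup G) K) :=
    ⟨⟨⟨1, one_mem K⟩, fun s => Subtype.ext (show (s : G) * 1 * (s : G)⁻¹ = 1 by group)⟩⟩
  obtain ⟨⟨a, ha⟩, ha1⟩ : ∃ a : fixedPoints (S : Subgroup G) K, ((a : K) : G) ≠ 1 := by
    by_contra hh; push Not at hh
    exact hne1 (Nat.card_eq_one_iff_unique.2
      ⟨⟨fun a b => Subtype.ext (Subtype.ext ((hh a).trans (hh b).symm))⟩, hpos⟩)
  have hcs : ∀ s ∈ (S : Subgroup G), s * (a : G) = (a : G) * s := fun s hs =>
    mul_inv_eq_iff_eq_mul.1 (congrArg Subtype.val (ha ⟨s, hs⟩))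
  have h2' : 2 ∣ orderOf (a : G) := by
    have h3 := Subgroup.orderOf_dvd_natCard K a.2
    rw [hk] at h3
    obtain ⟨j, -, hj⟩ := (Nat.dvd_prime_pow Nat.prime_two).1 h3
    rcases j with _ | j
    · exact absurd (orderOf_eq_one_iff.1 (by simpa using hj)) ha1
    · exact (dvd_pow_self 2 (by omega : j + 1 ≠ 0)).trans (dvd_of_eq hj.symm)
  obtain ⟨m, hm⟩ := h2'
  refine ⟨(a : G) ^ m, pow_mem a.2 m, ?_, fun s hs => ((show Commute s (a : G) from hcs s hs).pow_right m).eq⟩
  have hpos' := orderOf_pos (a : G)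
  rw [orderOf_pow' _ (by omega), hm, Nat.gcd_mul_left_left, Nat.mul_div_cancel _ (by omega)]

/-- A Sylow 2-subgroup inside the normaliser of a Sylow 3-subgroup. -/
theorem exists_sylow_two_in (hG : Cfsg.IsM11 G) (T : Sylow 3 G) {v : G} (hv : orderOf v = 2)
    (hvN : v ∈ Subgroup.normalizer ((T : Subgroup G) : Set G)) :
    ∃ S : Sylow 2 G, v ∈ (S : Subgroup G) ∧ (S : Subgroup G) ≤ Subgroup.normalizer ((T : Subgroup G) : Set G) := by
  set N := Subgroup.normalizer ((T : Subgroup G) : Set G) with hN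
  obtain ⟨S0, hS0⟩ := IsPGroup.exists_le_sylow (G := N) (P := Subgroup.zpowers (⟨v, hvN⟩ : N))
    (IsPGroup.of_card (n := 1) (by rw [Nat.card_zpowers, Subgroup.orderOf_mk, hv, pow_one]))
  obtain ⟨S, hS⟩ := (S0.isPGroup'.map N.subtype).exists_le_sylow
  have hS16 : Nat.card ((S0 : Subgroup N).map N.subtype) = 16 := by
    rw [Subgroup.card_map_of_injective Subtype.val_injective, S0.card_eq_multiplicity,
      show Nat.card N = 2 ^ 4 * 9 from (normalizer_three hG T).2,
      Nat.factorization_mul (by norm_num) (by norm_num), Finsupp.add_apply,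
      Nat.prime_two.factorization_pow, Finsupp.single_eq_same,
      Nat.factorization_eq_zero_of_not_dvd (by norm_num)]
    norm_num
  have hSeq : (S0 : Subgroup N).map N.subtype = (S : Subgroup G) :=
    Subgroup.eq_of_le_of_card_ge hS (by rw [card_sylow_two hG S, hS16])
  exact ⟨S, hSeq ▸ Subgroup.mem_map.2 ⟨⟨v, hvN⟩, hS0 (Subgroup.mem_zpowers _), rfl⟩,
    hSeq ▸ Subgroup.map_subtype_le _⟩

theorem normalizer_smul {p : ℕ} [Fact p.Prime] (T : Sylow p G) (g a : G) :
    a ∈ Subgroup.normalizer (((g • T : Sylow p G) : Subgroup G) : Set G) ↔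
      g⁻¹ * a * g ∈ Subgroup.normalizer ((T : Subgroup G) : Set G) := by
  refine Sylow.smul_eq_iff_mem_normalizer.symm.trans (Iff.trans ?_ Sylow.smul_eq_iff_mem_normalizer)
  rw [mul_smul, mul_smul, inv_smul_eq_iff]

theorem eq_of_le_normalizer {p : ℕ} [Fact p.Prime] (T Q : Sylow p G)
    (h : (Q : Subgroup G) ≤ Subgroup.normalizer ((T : Subgroup G) : Set G)) : T = Q :=
  sylow_eq_of_fixed Q T fun _ ha => Sylow.smul_eq_iff_mem_normalizer.2 (h ha)

/-- No involution centralises a Sylow 3-subgroup. -/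
theorem no_central_invol (hG : Cfsg.IsM11 G) (T : Sylow 3 G) {v : G} (hv : orderOf v = 2) :
    v ∉ Subgroup.centralizer ((T : Subgroup G) : Set G) := by
  classical
  intro hvT
  obtain ⟨h55, hN144⟩ := normalizer_three hG T
  set N := Subgroup.normalizer ((T : Subgroup G) : Set G) with hN
  obtain ⟨S, hvS, hSN⟩ := exists_sylow_two_in hG T hv (Subgroup.centralizer_le_normalizer _ hvT)
  obtain ⟨z, hzK, hz, hzS⟩ := central_invol S ((S : Subgroup G) ⊓ Subgroup.centralizer ((T : Subgroup G) : Set G))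
    inf_le_left (fun s hs a ha => by
      obtain ⟨haS, haT⟩ := Subgroup.mem_inf.1 ha
      refine Subgroup.mem_inf.2 ⟨mul_mem (mul_mem hs haS) (inv_mem hs), ?_⟩
      have := conj_centralizer_smul T (g := s) haT
      rwa [smul_self T (hSN hs)] at this)
    (fun e => by
      have : v ∈ (⊥ : Subgroup G) := e ▸ Subgroup.mem_inf.2 ⟨hvS, hvT⟩
      rw [Subgroup.mem_bot] at this
      rw [this, orderOf_one] at hv; omega)
  have hzT := (Subgroup.mem_inf.1 hzK).2
  have hz2 := sq_of_two hz
  set C := Subgroup.centralizer ({z} : Set G) with hC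
  have hSC : (S : Subgroup G) ≤ C := fun s hs => Subgroup.mem_centralizer_singleton_iff.2 (hzS s hs)
  have hTC : (T : Subgroup G) ≤ C := fun a ha =>
    Subgroup.mem_centralizer_singleton_iff.2 (Subgroup.mem_centralizer_iff.1 hzT a ha)
  have hNC : N ≤ C := by
    have h1 : 16 ∣ Nat.card ↥(N ⊓ C) := card_sylow_two hG S ▸ Subgroup.card_dvd_of_le (le_inf hSN hSC)
    have h2 : 9 ∣ Nat.card ↥(N ⊓ C) :=
      card_sylow_three hG T ▸ Subgroup.card_dvd_of_le (le_inf Subgroup.le_normalizer hTC)
    have h3 : Nat.card ↥(N ⊓ C) ∣ 144 := hN144 ▸ Subgroup.card_dvd_of_le inf_le_left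
    have h5 := Nat.le_of_dvd (by norm_num) h3
    have h6 : 0 < Nat.card ↥(N ⊓ C) := Nat.card_pos
    exact inf_eq_left.1 (Subgroup.eq_of_le_of_card_ge inf_le_left (by rw [hN144]; omega))
  have hCN : C = N := by
    have h1 : 144 ∣ Nat.card C := hN144 ▸ Subgroup.card_dvd_of_le hNC
    refine (Subgroup.eq_of_le_of_card_ge hNC ?_).symm
    rcases centralizer_two_cases hG hz with h | h | h
    · rw [hN144]; exact Nat.le_of_dvd (by norm_num) h
    · change Nat.card C = 20 at h; omega
    · change Nat.card C = 120 at h; omega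
  -- every conjugate of `z` determines a Sylow subgroup
  have hcl : ∀ (g : G) (Q : Sylow 3 G), g • T = Q →
      Subgroup.centralizer ({g * z * g⁻¹} : Set G) = Subgroup.normalizer ((Q : Subgroup G) : Set G) ∧
      g * z * g⁻¹ ∈ Subgroup.centralizer ((Q : Subgroup G) : Set G) := by
    rintro g Q rfl
    refine ⟨?_, conj_centralizer_smul T hzT⟩
    ext a
    rw [normalizer_smul, ← hN, ← hCN, hC, Subgroup.mem_centralizer_singleton_iff, Subgroup.mem_centralizer_singleton_iff]
    constructor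
    · intro e
      calc g⁻¹ * a * g * z = g⁻¹ * (a * (g * z * g⁻¹)) * g := by group
        _ = g⁻¹ * ((g * z * g⁻¹) * a) * g := by rw [e]
        _ = z * (g⁻¹ * a * g) := by group
    · intro e
      calc a * (g * z * g⁻¹) = g * ((g⁻¹ * a * g) * z) * g⁻¹ := by group
        _ = g * (z * (g⁻¹ * a * g)) * g⁻¹ := by rw [e]
        _ = g * z * g⁻¹ * a := by group
  -- trivial intersections
  have hTI : ∀ y : G, orderOf y = 3 → y ∈ (T : Subgroup G) → ∀ Q : Sylow 3 G, y ∈ (Q : Subgroup G) → Q = T := by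
    intro y hy hyT
    by_contra hne
    push Not at hne
    obtain ⟨Q₁, hQ₁, hQ₁T⟩ := hne
    have hn1 : Nat.card {Q : Sylow 3 G // y ∈ (Q : Subgroup G)} ≠ 1 := fun e =>
      hQ₁T (eq_of_containing_one T hyT e hQ₁)
    obtain ⟨-, hcard, h9, -⟩ := containing hG T hy hyT
    set D := Subgroup.centralizer ({y} : Set G) ⊓ N with hD
    have hzD : z ∈ D := Subgroup.mem_inf.2 ⟨Subgroup.mem_centralizer_singleton_iff.2
      (Subgroup.mem_centralizer_iff.1 hzT y hyT).symm, Subgroup.centralizer_le_normalizer _ hzT⟩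
    have h18 : 18 ∣ Nat.card D := by
      have h2 : 2 ∣ Nat.card D := hz ▸ Subgroup.orderOf_dvd_natCard D hzD
      have h9' : 9 ∣ Nat.card D := h9
      omega
    have h144 := centralizer_three_dvd hG hy
    rw [← hcard] at h144
    have h4 : Nat.card {Q : Sylow 3 G // y ∈ (Q : Subgroup G)} = 4 := by
      rcases containing_bound hG T hy hyT with e | e | e
      · exact absurd e hn1
      · exact e
      · exfalso
        rw [e] at h144
        obtain ⟨a, ha⟩ := h18
        rw [show Nat.card ↥(Subgroup.centralizer ({y} : Set G) ⊓ Subgroup.normalizer ((T : Subgroup G) : Set G)) =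
          Nat.card D from rfl, ha, ← mul_assoc] at h144
        have := (Dvd.intro a rfl : 16 * 18 ∣ 16 * 18 * a).trans h144
        norm_num at this
    choose g hg using fun Q : {Q : Sylow 3 G // y ∈ (Q : Subgroup G)} => MulAction.exists_smul_eq G T Q.1
    set δ : {Q : Sylow 3 G // y ∈ (Q : Subgroup G)} → G := fun Q => g Q * z * (g Q)⁻¹ with hδ
    have hfix : ∀ Q R : {Q : Sylow 3 G // y ∈ (Q : Subgroup G)}, δ Q • R.1 = R.1 := fun Q R =>
      fix_of_four hG Q.1 Q.2 h4 (sq_of_two ((order_conj _ z).trans hz)) (hcl _ _ (hg Q)).2 R.2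
    have hcomm : ∀ Q R, Commute (δ Q) (δ R) := by
      intro Q R
      have hm : δ Q ∈ Subgroup.centralizer ({δ R} : Set G) := by
        rw [hδ, (hcl _ _ (hg R)).1]
        exact Sylow.smul_eq_iff_mem_normalizer.1 (hfix Q R)
      exact Subgroup.mem_centralizer_singleton_iff.1 hm
    have hinj : Function.Injective δ := by
      intro Q R e
      apply Subtype.ext
      have h1 := (hcl _ _ (hg Q)).1
      have h2 := (hcl _ _ (hg R)).1
      simp only [hδ] at e
      rw [e, h2] at h1
      exact (eq_of_le_normalizer Q.1 R.1 (h1 ▸ Subgroup.le_normalizer)).symm ▸ rfl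
    have hδD : ∀ Q, δ Q ∈ D := fun Q => Subgroup.mem_inf.2 ⟨Subgroup.mem_centralizer_singleton_iff.2
      (Subgroup.mem_centralizer_iff.1 (hcl _ _ (hg Q)).2 y Q.2).symm,
      Sylow.smul_eq_iff_mem_normalizer.1 (hfix Q ⟨T, hyT⟩)⟩
    set E := Subgroup.closure (Set.range δ) with hE
    have hEcomm : ∀ a ∈ E, ∀ b ∈ E, a * b = b * a := by
      intro a ha b hb
      have hle : E ≤ Subgroup.centralizer (E : Set G) := by
        rw [hE, Subgroup.centralizer_closure, Subgroup.closure_le]
        rintro _ ⟨u, rfl⟩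
        exact Subgroup.mem_centralizer_iff.2 (by rintro _ ⟨v, rfl⟩; exact (hcomm v u).eq)
      exact (Subgroup.mem_centralizer_iff.1 (hle ha) b hb).symm
    have hEsq : ∀ a ∈ E, a ^ 2 = 1 := by
      intro a ha
      refine Subgroup.closure_induction (p := fun a _ => a ^ 2 = 1) ?_ (one_pow _) ?_ ?_ ha
      · rintro _ ⟨u, rfl⟩
        rw [sq]; exact sq_of_two ((order_conj _ z).trans hz)
      · intro u v hu hv hu2 hv2
        rw [(show Commute u v from hEcomm u hu v hv).mul_pow, hu2, hv2, one_mul]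
      · intro u _ hu2
        rw [inv_pow, hu2, inv_one]
    obtain ⟨k, hk⟩ := IsPGroup.exists_card_eq (p := 2) (G := E)
      (fun a => ⟨1, Subtype.ext (by rw [SubmonoidClass.coe_pow, pow_one]; exact hEsq a a.2)⟩)
    have h5 : 5 ≤ Nat.card E := by
      haveI : Fintype E := Fintype.ofFinite _
      haveI : Fintype {Q : Sylow 3 G // y ∈ (Q : Subgroup G)} := Fintype.ofFinite _
      let emb : Option {Q : Sylow 3 G // y ∈ (Q : Subgroup G)} → E := fun o =>
        o.elim 1 fun Q => ⟨δ Q, Subgroup.subset_closure ⟨Q, rfl⟩⟩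
      have he : Function.Injective emb := by
        intro a b e
        cases a with
        | none =>
          cases b with
          | none => rfl
          | some b =>
            exfalso
            have : (1 : G) = δ b := congrArg Subtype.val e
            have h' : orderOf (δ b) = 2 := (order_conj _ z).trans hz
            rw [← this, orderOf_one] at h'; omega
        | some a =>
          cases b with
          | none =>
            exfalso
            have : δ a = (1 : G) := congrArg Subtype.val e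
            have h' : orderOf (δ a) = 2 := (order_conj _ z).trans hz
            rw [this, orderOf_one] at h'; omega
          | some b => rw [hinj (congrArg Subtype.val e)]
      have := Nat.card_le_card_of_injective emb he
      rw [Finite.card_option, h4] at this
      omega
    have hk3 : 3 ≤ k := by
      by_contra hh
      rw [hk] at h5
      interval_cases k <;> omega
    have h8 : 8 ∣ Nat.card D := by
      have h' : 2 ^ k ∣ Nat.card D := hk ▸ Subgroup.card_dvd_of_le (hE ▸ (Subgroup.closure_le D).2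
        (by rintro _ ⟨u, rfl⟩; exact hδD u))
      exact (pow_dvd_pow 2 hk3).trans h'
    rw [h4] at h144
    obtain ⟨a, ha⟩ : 72 ∣ Nat.card D := by omega
    rw [show Nat.card ↥(Subgroup.centralizer ({y} : Set G) ⊓ Subgroup.normalizer ((T : Subgroup G) : Set G)) =
      Nat.card D from rfl, ha, ← mul_assoc] at h144
    have := (Dvd.intro a rfl : 4 * 72 ∣ 4 * 72 * a).trans h144
    norm_num at this
  -- the commuting graph on the conjugates of `z`
  haveI : Fintype (ConjSet z) := Fintype.ofFinite _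
  have h55c : Fintype.card (ConjSet z) = 55 := by
    have := card_conjSet z
    rw [← hC, hCN, hN144, hG.2] at this
    rw [← Nat.card_eq_fintype_card]; omega
  set z₀ : ConjSet z := ⟨z, IsConj.refl z⟩ with hz₀
  set Γ : Finset (ConjSet z) := Finset.univ.filter fun x => Commute x.1 z ∧ x.1 ≠ z with hΓ
  have hmemΓ : ∀ x, x ∈ Γ ↔ Commute x.1 z ∧ x.1 ≠ z := fun x => by simp [hΓ]
  have hsq : ∀ x : ConjSet z, x.1 * x.1 = 1 := fun x => by
    obtain ⟨g, hg⟩ := isConj_iff.1 x.2
    rw [← hg]; calc g * z * g⁻¹ * (g * z * g⁻¹) = g * (z * z) * g⁻¹ := by group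
      _ = 1 := by rw [hz2]; group
  have hfree : ∀ x : ConjSet z, x.1 ≠ z → ∀ t ∈ (T : Subgroup G), Commute x.1 t → t = 1 := by
    intro x hxz t ht hxt
    by_contra ht1
    obtain ⟨y, hy, hy3⟩ := three_of_mem hG T ht ht1
    obtain ⟨g, hg⟩ := isConj_iff.1 x.2
    have hty : y ∈ Subgroup.centralizer ({g * z * g⁻¹} : Set G) :=
      (Subgroup.zpowers_le).2 (Subgroup.mem_centralizer_singleton_iff.2 (hg.symm ▸ hxt.eq.symm :
        t * (g * z * g⁻¹) = g * z * g⁻¹ * t)) hy
    rw [(hcl g _ rfl).1] at hty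
    have hgT : g • T = T := hTI y hy3 ((Subgroup.zpowers_le).2 ht hy) _ (mem_of_three hG _ hy3 hty)
    have : g ∈ C := hCN.symm ▸ Sylow.smul_eq_iff_mem_normalizer.1 hgT
    exact hxz (by rw [← hg, mul_inv_eq_iff_eq_mul.2 (Subgroup.mem_centralizer_singleton_iff.1 this)])
  have hxN : ∀ x ∈ Γ, x.1 ∈ N := fun x hx => hCN ▸ Subgroup.mem_centralizer_singleton_iff.2 ((hmemΓ x).1 hx).1.eq
  have hinv : ∀ x ∈ Γ, ∀ t ∈ (T : Subgroup G), x.1 * t * x.1 = t⁻¹ := by
    intro x hx t ht
    have hxi : x.1⁻¹ = x.1 := inv_eq_of_mul_eq_one_right (hsq x)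
    have hxt : x.1 * t * x.1 ∈ (T : Subgroup G) := by
      have := (Subgroup.mem_normalizer_iff.1 (hxN x hx) t).1 ht
      rwa [hxi] at this
    refine eq_inv_of_mul_eq_one_left ?_
    refine hfree x ((hmemΓ x).1 hx).2 _ (mul_mem hxt ht) ?_
    show x.1 * (x.1 * t * x.1 * t) = x.1 * t * x.1 * t * x.1
    calc x.1 * (x.1 * t * x.1 * t) = (x.1 * x.1) * t * x.1 * t := by group
      _ = t * x.1 * t := by rw [hsq, one_mul]
      _ = t * x.1 * t * (x.1 * x.1) := by rw [hsq, mul_one]
      _ = t * (x.1 * t * x.1) * x.1 := by group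
      _ = x.1 * t * x.1 * t * x.1 := by rw [sylow_comm hG T t ht _ hxt]
  set f : ConjSet z → G ⧸ (T : Subgroup G) := fun x => (x.1 : G ⧸ (T : Subgroup G)) with hf
  have hfeq : ∀ a b : ConjSet z, f a = f b ↔ a.1 * b.1 ∈ (T : Subgroup G) := fun a b => by
    rw [hf]; simp only [QuotientGroup.eq, inv_eq_of_mul_eq_one_right (hsq a)]
  have key : ∀ a ∈ Γ, ∀ b ∈ Γ, ∀ c : ConjSet z, c.1 ≠ z → Commute a.1 c.1 → Commute b.1 c.1 → f a = f b → a = b := by
    intro a ha b hb c hc hac hbc e
    have h1 := hfree c hc _ ((hfeq a b).1 e) (hac.mul_left hbc).symm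
    exact Subtype.ext (by
      calc a.1 = a.1 * (b.1 * b.1) := by rw [hsq, mul_one]
        _ = b.1 := by rw [← mul_assoc, h1, one_mul])
  set m := (Γ.image f).card with hm
  have hΓ9 : Γ.card = 9 * m := by
    have hfib : ∀ c ∈ Γ.image f, (Γ.filter fun a => f a = c).card = 9 := by
      intro c hc
      obtain ⟨x, hx, rfl⟩ := Finset.mem_image.1 hc
      haveI : Fintype (T : Subgroup G) := Fintype.ofFinite _
      rw [← show (Finset.univ : Finset (T : Subgroup G)).card = 9 by
        rw [Finset.card_univ, ← Nat.card_eq_fintype_card, card_sylow_three hG T]]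
      refine Eq.symm ?_
      refine Finset.card_bij (fun (t : (T : Subgroup G)) _ => (t : G) • x) ?_ ?_ ?_
      · intro t _
        have e : (t : G) * x.1 * (t : G)⁻¹ = x.1 * ((t : G)⁻¹ * (t : G)⁻¹) := by
          calc (t : G) * x.1 * (t : G)⁻¹ = x.1 * (x.1 * t * x.1) * (t : G)⁻¹ := by
                rw [show x.1 * (x.1 * t * x.1) = (x.1 * x.1) * t * x.1 by group, hsq, one_mul]
            _ = _ := by rw [hinv x hx t t.2]; group
        refine Finset.mem_filter.2 ⟨(hmemΓ _).2 ⟨?_, ?_⟩, ((hfeq _ _).2 ?_).symm⟩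
        · rw [smul_conjSet]
          have htz : Commute (t : G) z := Subgroup.mem_centralizer_iff.1 hzT t t.2
          exact ((htz.mul_left ((hmemΓ x).1 hx).1).mul_left htz.inv_left)
        · intro e'
          have htz : (t : G) * z * (t : G)⁻¹ = z := mul_inv_eq_iff_eq_mul.2 (Subgroup.mem_centralizer_iff.1 hzT t t.2)
          rw [smul_conjSet] at e'
          exact ((hmemΓ x).1 hx).2 (mul_left_cancel (mul_right_cancel (e'.trans htz.symm)))
        · rw [smul_conjSet, e, ← mul_assoc, hsq, one_mul]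
          exact mul_mem (inv_mem t.2) (inv_mem t.2)
      · intro a _ b _ e
        have h2 : ((b : G)⁻¹ * (a : G)) • x = x := by rw [mul_smul, e, inv_smul_smul]
        have e' : ((b : G)⁻¹ * a) * x.1 * ((b : G)⁻¹ * a)⁻¹ = x.1 := congrArg (fun w : ConjSet z => w.1) h2
        have := hfree x ((hmemΓ x).1 hx).2 _ (mul_mem (inv_mem b.2) a.2) (mul_inv_eq_iff_eq_mul.1 e').symm
        exact Subtype.ext (inv_mul_eq_one.1 this).symm
      · intro a ha
        obtain ⟨haΓ, hae⟩ := Finset.mem_filter.1 ha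
        obtain ⟨t, htT, ht⟩ : ∃ t ∈ (T : Subgroup G), t = x.1 * a.1 := ⟨_, (hfeq x a).1 hae.symm, rfl⟩
        have h9 : t ^ 9 = 1 := orderOf_dvd_iff_pow_eq_one.1 (card_sylow_three hG T ▸ Subgroup.orderOf_dvd_natCard _ htT)
        refine ⟨⟨t ^ 4, pow_mem htT 4⟩, Finset.mem_univ _, Subtype.ext ?_⟩
        rw [smul_conjSet]
        show t ^ 4 * x.1 * (t ^ 4)⁻¹ = a.1
        have e1 : x.1 * t ^ 4 * x.1 = (t ^ 4)⁻¹ := hinv x hx _ (pow_mem htT 4)
        calc t ^ 4 * x.1 * (t ^ 4)⁻¹ = (x.1 * x.1) * t ^ 4 * x.1 * (t ^ 4)⁻¹ := by rw [hsq, one_mul]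
          _ = x.1 * (x.1 * t ^ 4 * x.1) * (t ^ 4)⁻¹ := by group
          _ = x.1 * (t ^ 4 * t ^ 4)⁻¹ := by rw [e1]; group
          _ = x.1 * t := by
            congr 1
            exact inv_eq_of_mul_eq_one_right (by rw [← pow_add, ← pow_succ, show 4 + 4 + 1 = 9 from rfl, h9])
          _ = a.1 := by rw [ht, ← mul_assoc, hsq, one_mul]
    rw [Finset.card_eq_sum_card_image f Γ, Finset.sum_congr rfl hfib, Finset.sum_const, smul_eq_mul, mul_comm]
  have hfixcard : Nat.card (fixedBy (ConjSet z) z) = Γ.card + 1 := by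
    rw [Nat.card_eq_fintype_card, ← Set.toFinset_card]
    have e : (fixedBy (ConjSet z) z).toFinset = insert z₀ Γ := by
      ext x
      rw [Set.mem_toFinset, mem_fixedBy, Finset.mem_insert, hmemΓ]
      constructor
      · intro e
        have e' : z * x.1 * z⁻¹ = x.1 := congrArg (fun w : ConjSet z => w.1) e
        by_cases hx : x.1 = z
        · exact Or.inl (Subtype.ext hx)
        · exact Or.inr ⟨(mul_inv_eq_iff_eq_mul.1 e').symm, hx⟩
      · intro e
        refine Subtype.ext ?_
        rw [smul_conjSet]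
        rcases e with rfl | ⟨e, -⟩
        · show z * z * z⁻¹ = z; group
        · rw [← e.eq]; group
    rw [e, Finset.card_insert_of_notMem (fun hh => ((hmemΓ _).1 hh).2 rfl)]
  obtain ⟨j, hj⟩ := moved_div_four (perfect hG) (Ω := ConjSet z) z hz2
  rw [hfixcard, Nat.card_eq_fintype_card, h55c, hΓ9] at hj
  set Out : Finset (ConjSet z) := Finset.univ \ insert z₀ Γ with hOut
  have hOutcard : Out.card = 54 - 9 * m := by
    rw [hOut, Finset.card_sdiff_of_subset (Finset.subset_univ _), Finset.card_univ, h55c,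
      Finset.card_insert_of_notMem (fun hh => ((hmemΓ _).1 hh).2 rfl), hΓ9]
    omega
  have hA : ∀ w ∈ Out, (Γ.filter fun x => Commute x.1 w.1).card ≤ m := by
    intro w hw
    have hwz : w.1 ≠ z := fun e => (Finset.mem_sdiff.1 hw).2 (Finset.mem_insert.2 (Or.inl (Subtype.ext e)))
    refine Finset.card_le_card_of_injOn f (fun x hx => Finset.mem_image_of_mem f (Finset.mem_filter.1 hx).1) ?_
    intro a ha b hb e
    obtain ⟨haΓ, haw⟩ := Finset.mem_filter.1 (Finset.mem_coe.1 ha)
    obtain ⟨hbΓ, hbw⟩ := Finset.mem_filter.1 (Finset.mem_coe.1 hb)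
    exact key a haΓ b hbΓ w hwz haw hbw e
  have hnbr : ∀ x ∈ Γ, 8 * m ≤ (Out.filter fun w => Commute x.1 w.1).card := by
    intro x hx
    obtain ⟨g, hg⟩ := isConj_iff.1 x.2
    have hgz : g • z₀ = x := Subtype.ext hg
    have hall : (Finset.univ.filter fun w : ConjSet z => Commute x.1 w.1 ∧ w ≠ x).card = 9 * m := by
      rw [← hΓ9]
      refine Finset.card_bij (fun w _ => g⁻¹ • w) ?_ (fun a _ b _ e => smul_left_cancel _ e) ?_
      · intro w hw
        obtain ⟨-, hc, hne'⟩ := Finset.mem_filter.1 hw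
        refine (hmemΓ _).2 ⟨?_, fun e => hne' ?_⟩
        · have := hc.symm.map (MulAut.conj g⁻¹).toMonoidHom
          simpa [smul_conjSet, ← hg, mul_assoc] using this
        · have : g⁻¹ • w = z₀ := Subtype.ext e
          rw [← hgz, ← this, smul_inv_smul]
      · intro w hw
        refine ⟨g • w, Finset.mem_filter.2 ⟨Finset.mem_univ _, ?_, ?_⟩, inv_smul_smul g w⟩
        · have := (((hmemΓ w).1 hw).1.map (MulAut.conj g).toMonoidHom).symm
          simpa [smul_conjSet, ← hg, mul_assoc] using this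
        · intro e
          exact ((hmemΓ w).1 hw).2 (congrArg (fun w : ConjSet z => w.1) (smul_left_cancel g (e.trans hgz.symm)))
    set B := Γ.filter fun w => Commute x.1 w.1 ∧ w ≠ x with hB
    have hsub : (Finset.univ.filter fun w : ConjSet z => Commute x.1 w.1 ∧ w ≠ x) ⊆
        insert z₀ (B ∪ Out.filter fun w => Commute x.1 w.1) := by
      intro w hw
      obtain ⟨-, hc, hne'⟩ := Finset.mem_filter.1 hw
      by_cases h0 : w = z₀
      · exact h0 ▸ Finset.mem_insert_self _ _
      refine Finset.mem_insert_of_mem (Finset.mem_union.2 ?_)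
      by_cases hwΓ : w ∈ Γ
      · exact Or.inl (Finset.mem_filter.2 ⟨hwΓ, hc, hne'⟩)
      · refine Or.inr (Finset.mem_filter.2 ⟨Finset.mem_sdiff.2 ⟨Finset.mem_univ _, ?_⟩, hc⟩)
        simp [h0, hwΓ]
    have hBle : B.card ≤ m - 1 := by
      have hB2 : B.image f ⊆ (Γ.image f).erase (f x) := by
        intro c hc
        obtain ⟨a, ha, rfl⟩ := Finset.mem_image.1 hc
        obtain ⟨haΓ, hax, hane⟩ := Finset.mem_filter.1 ha
        refine Finset.mem_erase.2 ⟨fun e => hane ?_, Finset.mem_image_of_mem f haΓ⟩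
        exact key a haΓ x hx x ((hmemΓ x).1 hx).2 hax.symm (Commute.refl _) e
      have hinj : Set.InjOn f ↑B := by
        intro a ha b hb e
        obtain ⟨haΓ, hax, -⟩ := Finset.mem_filter.1 (Finset.mem_coe.1 ha)
        obtain ⟨hbΓ, hbx, -⟩ := Finset.mem_filter.1 (Finset.mem_coe.1 hb)
        exact key a haΓ b hbΓ x ((hmemΓ x).1 hx).2 hax.symm hbx.symm e
      have := Finset.card_le_card hB2
      rwa [Finset.card_image_of_injOn hinj, Finset.card_erase_of_mem (Finset.mem_image_of_mem f hx)] at this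
    have h1 := (Finset.card_le_card hsub).trans ((Finset.card_insert_le _ _).trans
      (Nat.add_le_add_right (Finset.card_union_le _ _) 1))
    rw [hall] at h1
    have : 1 ≤ m := Finset.card_pos.2 ⟨_, Finset.mem_image_of_mem f hx⟩
    omega
  have h3 : ∑ x ∈ Γ, (Out.filter fun w => Commute x.1 w.1).card = ∑ w ∈ Out, (Γ.filter fun x => Commute x.1 w.1).card := by
    simp only [Finset.card_filter]
    exact Finset.sum_comm
  have h1 := Finset.card_nsmul_le_sum Γ (fun x => (Out.filter fun w => Commute x.1 w.1).card) (8 * m) hnbr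
  have h2 := Finset.sum_le_card_nsmul Out (fun w => (Γ.filter fun x => Commute x.1 w.1).card) m hA
  rw [hΓ9, smul_eq_mul] at h1
  rw [hOutcard, smul_eq_mul] at h2
  have hm1 : 1 ≤ m := by omega
  have hm6 : m ≤ 6 := by omega
  interval_cases m <;> omega

theorem cent_eq (hG : Cfsg.IsM11 G) (T : Sylow 3 G) :
    Subgroup.centralizer ((T : Subgroup G) : Set G) = (T : Subgroup G) := by
  have hle : (T : Subgroup G) ≤ Subgroup.centralizer ((T : Subgroup G) : Set G) :=
    fun a ha => Subgroup.mem_centralizer_iff.2 fun b hb => sylow_comm hG T b hb a ha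
  refine (Subgroup.eq_of_le_of_card_ge hle ?_).symm
  have hd := centralizer_dvd_normalizer (T : Subgroup G)
  rw [(normalizer_three hG T).2] at hd
  have hodd : ¬ 2 ∣ Nat.card (Subgroup.centralizer ((T : Subgroup G) : Set G)) := fun h2 => by
    obtain ⟨v, hv⟩ := exists_prime_orderOf_dvd_card' (G := Subgroup.centralizer ((T : Subgroup G) : Set G)) 2 h2
    exact no_central_invol hG T (by rw [Subgroup.orderOf_coe, hv]) v.2
  rw [card_sylow_three hG T]
  refine Nat.le_of_dvd (by norm_num) ?_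
  refine Nat.Coprime.dvd_of_dvd_mul_left ?_ (show _ ∣ 16 * 9 by simpa using hd)
  exact ((Nat.prime_two.coprime_iff_not_dvd.2 hodd).symm.pow_right 4)

theorem not_nine (hG : Cfsg.IsM11 G) {v : G} (hv : orderOf v = 2) :
    ¬ 9 ∣ Nat.card (Subgroup.centralizer ({v} : Set G)) := by
  intro h9
  obtain ⟨y, hy⟩ := exists_prime_orderOf_dvd_card' (G := Subgroup.centralizer ({v} : Set G)) 3
    ((by norm_num : 3 ∣ 9).trans h9)
  obtain ⟨Q, -, hQ⟩ := exists_sylow_in hG _ h9 y.2 (by rw [Subgroup.orderOf_coe, hy])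
  exact no_central_invol hG Q hv (Subgroup.mem_centralizer_iff.2 fun a ha =>
    Subgroup.mem_centralizer_singleton_iff.1 (hQ ha))

end Cfsg.Agent.MathieuEleven
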